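import Cfsg.Agent.Lib.CoThreeType.DData

/-!
# Functions for the automorphisms of the numbered centralizer
-/

set_option autoImplicit false
set_option maxRecDepth 100000

namespace Cfsg.Lib.CoThreeType

open Cfsg.Lib.PermAut Cfsg.Lib.J3Type

/-- The automorphism of the swapping involution. -/
def dSg (x : ℕ) : ℕ := dSig.get 13 x

/-- Its twist by the product of the two involutions. -/
def dSgP (x : ℕ) : ℕ := dSigP.get 13 x

/-- The product. -/
def dM (x y : ℕ) : ℕ := dSub.mul x y

/-- A conjugate. -/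
def dCj (d y : ℕ) : ℕ := dM d (dM y (dSub.iv d))

/-- The value of a word at given images. -/
def evw (im : List ℕ) : List ℕ → ℕ
  | [] => dSub.root
  | k :: w => dM (im.getD k 0) (evw im w)

/-- Membership in a list. -/
def inL (y : ℕ) (l : List ℕ) : Bool := l.any fun z => Nat.beq z y

/-- One of the three generators. -/
def dQk (k : ℕ) : ℕ := dQ.getD k 0

/-- A homomorphism of order two at one number. -/
def sgB (f : ℕ → ℕ) (x : ℕ) : Bool :=
  Nat.blt (f x) 4608 && Nat.beq (f (f x)) x &&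
    (List.range 3).all fun k => Nat.beq (f (dSub.stp k x)) (dM (f (dQk k)) (f x))

/-- Completeness of the lists at one number. -/
def listB (y : ℕ) : Bool :=
  (!(Nat.beq (dM y y) dSub.root) || Nat.beq y dSub.root || inL y dInvs) &&
  (!(Nat.beq (dM y (dQk 0)) (dM (dQk 0) y)) || inL y dCq) &&
  (!(Nat.beq (dM y (dM y y)) dSub.root) || Nat.beq y dSub.root || dThree.any (fun e => Nat.beq e.1 y) &&
    (!(Nat.beq (dM y (dQk 0)) (dM (dQk 0) y)) || Nat.beq y (dQk 0) || Nat.beq y (dM (dQk 0) (dQk 0)) || inL y dPart))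

/-- The validity of an element of order three in the list. -/
def threeB : Bool :=
  dThree.all fun e => Nat.blt e.2.1 4 && Nat.blt e.2.2 4608 && Nat.beq (dCj e.2.2 (dReps.getD e.2.1 0)) e.1

/-- The validity of the long lists. -/
def manyB : Bool :=
  (List.range 3).all fun k => Nat.beq (dMany.getD k []).length 37 && nodupB (dMany.getD k []) &&
    (dMany.getD k []).all fun y => Nat.blt y 4608 &&
      Nat.beq (dM y (dReps.getD (Nat.add k 1) 0)) (dM (dReps.getD (Nat.add k 1) 0) y)

/-- One case entry settles a pair of images. -/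
def caseB (a b : ℕ) (e : ℕ × ℕ × ℕ × ℕ) : Bool :=
  Nat.beq e.1 a && Nat.beq e.2.1 b &&
  bif Nat.beq e.2.2.1 2 then
    dCq.all fun d => !(Nat.beq (dCj d (dQk 1)) (evw [dQk 0, a, b] (dSub.word a)) &&
      Nat.beq (dCj d (dQk 2)) (evw [dQk 0, a, b] (dSub.word b)))
  else
    let f := bif Nat.beq e.2.2.1 0 then dSg else dSgP
    Nat.blt e.2.2.2 4608 && Nat.beq (f (dCj e.2.2.2 (dQk 0))) (dQk 0) && Nat.beq (f (dCj e.2.2.2 (dQk 1))) a &&
      Nat.beq (f (dCj e.2.2.2 (dQk 2))) b

/-- All pairs of images with one first entry. -/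
def pairsB (a : ℕ) : Bool :=
  dInvs.all fun b => !(Nat.beq (evw [dQk 0, a, b] (dSub.word dTn)) dVn) ||
    !(Nat.beq (evw [dQk 0, a, b] (dSub.word dVn)) dTn) ||
    !(Nat.beq (evw [dQk 0, a, b] dRel.1) (evw [dQk 0, a, b] dRel.2)) || dCases.any (caseB a b)

end Cfsg.Lib.CoThreeType
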