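import Cfsg.Agent.Lib.CoThreeType.Chunk
import Cfsg.Agent.Lib.CoThreeType.AutoDefs

/-!
# Kernel checks for the automorphisms of the numbered centralizer
-/

set_option autoImplicit false
set_option maxRecDepth 100000
-- the kernel checks run one after another, to bound the memory of the file
set_option Elab.async false

namespace Cfsg.Lib.CoThreeType

open Cfsg.Lib.PermAut Cfsg.Lib.J3Type

theorem gen_ok : ((List.range 3).all fun k => Nat.blt (dQk k) 4608 && Nat.beq (dSub.stp k dSub.root) (dQk k)) = true ∧
    dSub.gens.length = 3 := by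
  refine ⟨?_, rfl⟩; decide +kernel

theorem q_ok : Nat.beq (dReps.getD 0 0) (dQk 0) = true ∧
    ((List.range 2).all fun k => !(Nat.beq (dQk k) dSub.root) && Nat.beq (dM (dQk k) (dM (dQk k) (dQk k))) dSub.root) = true ∧
    Nat.beq (dM (dQk 1) (dQk 0)) (dM (dQk 0) (dQk 1)) = true ∧
    Nat.beq (dM (dQk 2) (dQk 2)) dSub.root = true ∧
    (!(Nat.beq (dQk 2) dSub.root) && !(Nat.beq (dQk 1) (dQk 0)) && !(Nat.beq (dQk 1) (dM (dQk 0) (dQk 0)))) = true ∧
    Nat.beq (evw [dQk 0, dQk 1, dQk 2] dRel.1) (evw [dQk 0, dQk 1, dQk 2] dRel.2) = true ∧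
    (dRel.1.all (fun k => Nat.blt k 3) && dRel.2.all (fun k => Nat.blt k 3)) = true ∧
    dCq.length = 36 ∧ Nat.beq (dSg dTn) dVn = true ∧ Nat.beq (dSgP dTn) dVn = true := by
  refine ⟨?_, ?_, ?_, ?_, ?_, ?_, ?_, rfl, ?_, ?_⟩ <;> decide +kernel

theorem list_ok0 : chunkB listB 0 576 = true := by decide +kernel

theorem list_ok1 : chunkB listB 576 576 = true := by decide +kernel

theorem list_ok2 : chunkB listB 1152 576 = true := by decide +kernel

theorem list_ok3 : chunkB listB 1728 576 = true := by decide +kernel

theorem list_ok4 : chunkB listB 2304 576 = true := by decide +kernel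

theorem list_ok5 : chunkB listB 2880 576 = true := by decide +kernel

theorem list_ok6 : chunkB listB 3456 576 = true := by decide +kernel

theorem list_ok7 : chunkB listB 4032 576 = true := by decide +kernel

theorem list_ok : ((List.range 4608).all listB) = true := by
  have h := (chunk_add (chunk_add (chunk_add (chunk_add (chunk_add (chunk_add (chunk_add list_ok0 list_ok1) list_ok2) list_ok3) list_ok4) list_ok5) list_ok6) list_ok7)
  simp only [Nat.reduceAdd] at h
  exact chunk_all h

theorem three_ok : threeB = true ∧ manyB = true := by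
  refine ⟨?_, ?_⟩ <;> decide +kernel

/-- The check of one element for the centre. -/
def centreB (d : ℕ) : Bool :=
  !(Nat.beq (dSg d) d) && !(Nat.beq (dSgP d) d) ||
    (List.range 3).any (fun k => !(Nat.beq (dM d (dQk k)) (dM (dQk k) d))) || Nat.beq d dSub.root ||
      Nat.beq d (dM dTn dVn)

theorem centre_ok0 : chunkB centreB 0 576 = true := by decide +kernel

theorem centre_ok1 : chunkB centreB 576 576 = true := by decide +kernel

theorem centre_ok2 : chunkB centreB 1152 576 = true := by decide +kernel

theorem centre_ok3 : chunkB centreB 1728 576 = true := by decide +kernel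

theorem centre_ok4 : chunkB centreB 2304 576 = true := by decide +kernel

theorem centre_ok5 : chunkB centreB 2880 576 = true := by decide +kernel

theorem centre_ok6 : chunkB centreB 3456 576 = true := by decide +kernel

theorem centre_ok7 : chunkB centreB 4032 576 = true := by decide +kernel

theorem centre_ok : ((List.range 4608).all fun d => !(Nat.beq (dSg d) d) && !(Nat.beq (dSgP d) d) ||
    (List.range 3).any (fun k => !(Nat.beq (dM d (dQk k)) (dM (dQk k) d))) || Nat.beq d dSub.root ||
      Nat.beq d (dM dTn dVn)) = true := by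
  have h := (chunk_add (chunk_add (chunk_add (chunk_add (chunk_add (chunk_add (chunk_add centre_ok0 centre_ok1) centre_ok2) centre_ok3) centre_ok4) centre_ok5) centre_ok6) centre_ok7)
  simp only [Nat.reduceAdd] at h
  exact chunk_all h

end Cfsg.Lib.CoThreeType
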