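import Cfsg.Agent.Lib.CoThreeType.Chunk
import Cfsg.Agent.Lib.CoThreeType.AutoDefs

/-!
# The two automorphisms are homomorphisms
-/

set_option autoImplicit false
set_option maxRecDepth 100000
-- the kernel checks run one after another, to bound the memory of the file
set_option Elab.async false

namespace Cfsg.Lib.CoThreeType

open Cfsg.Lib.PermAut Cfsg.Lib.J3Type

theorem sg_ok0 : chunkB (sgB dSg) 0 576 = true := by decide +kernel

theorem sg_ok1 : chunkB (sgB dSg) 576 576 = true := by decide +kernel

theorem sg_ok2 : chunkB (sgB dSg) 1152 576 = true := by decide +kernel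

theorem sg_ok3 : chunkB (sgB dSg) 1728 576 = true := by decide +kernel

theorem sg_ok4 : chunkB (sgB dSg) 2304 576 = true := by decide +kernel

theorem sg_ok5 : chunkB (sgB dSg) 2880 576 = true := by decide +kernel

theorem sg_ok6 : chunkB (sgB dSg) 3456 576 = true := by decide +kernel

theorem sg_ok7 : chunkB (sgB dSg) 4032 576 = true := by decide +kernel

theorem sg_ok : ((List.range 4608).all (sgB dSg)) = true := by
  have h := (chunk_add (chunk_add (chunk_add (chunk_add (chunk_add (chunk_add (chunk_add sg_ok0 sg_ok1) sg_ok2) sg_ok3) sg_ok4) sg_ok5) sg_ok6) sg_ok7)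
  simp only [Nat.reduceAdd] at h
  exact chunk_all h

theorem sgP_ok0 : chunkB (sgB dSgP) 0 576 = true := by decide +kernel

theorem sgP_ok1 : chunkB (sgB dSgP) 576 576 = true := by decide +kernel

theorem sgP_ok2 : chunkB (sgB dSgP) 1152 576 = true := by decide +kernel

theorem sgP_ok3 : chunkB (sgB dSgP) 1728 576 = true := by decide +kernel

theorem sgP_ok4 : chunkB (sgB dSgP) 2304 576 = true := by decide +kernel

theorem sgP_ok5 : chunkB (sgB dSgP) 2880 576 = true := by decide +kernel

theorem sgP_ok6 : chunkB (sgB dSgP) 3456 576 = true := by decide +kernel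

theorem sgP_ok7 : chunkB (sgB dSgP) 4032 576 = true := by decide +kernel

theorem sgP_ok : ((List.range 4608).all (sgB dSgP)) = true := by
  have h := (chunk_add (chunk_add (chunk_add (chunk_add (chunk_add (chunk_add (chunk_add sgP_ok0 sgP_ok1) sgP_ok2) sgP_ok3) sgP_ok4) sgP_ok5) sgP_ok6) sgP_ok7)
  simp only [Nat.reduceAdd] at h
  exact chunk_all h

end Cfsg.Lib.CoThreeType
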