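import Cfsg.Agent.Lib.CoThreeType.AutoDefs

/-!
# The pairs of images of two generators
-/

set_option autoImplicit false
set_option maxRecDepth 100000
-- the kernel checks run one after another, to bound the memory of the file
set_option Elab.async false

namespace Cfsg.Lib.CoThreeType

open Cfsg.Lib.PermAut Cfsg.Lib.J3Type

theorem pairs0 : pairsB 2 = true := by decide +kernel

theorem pairs1 : pairsB 5 = true := by decide +kernel

theorem pairs2 : pairsB 7 = true := by decide +kernel

theorem pairs3 : pairsB 11 = true := by decide +kernel

theorem pairs4 : pairsB 13 = true := by decide +kernel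

theorem pairs5 : pairsB 25 = true := by decide +kernel

theorem pairs_ok : (dPart.all pairsB) = true := by
  simp only [dPart, List.all_cons, List.all_nil, pairs0, pairs1, pairs2, pairs3, pairs4, pairs5, Bool.and_self]

end Cfsg.Lib.CoThreeType
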