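import Cfsg.Agent.Lib.CoThreeType.Classes
import Cfsg.Agent.Lib.CoThreeType.AutoChecks
import Cfsg.Agent.Lib.CoThreeType.AutoHom
import Cfsg.Agent.Lib.CoThreeType.AutoPairs

/-!
# The automorphisms swapping the two involutions with inner square
-/

set_option autoImplicit false
set_option maxRecDepth 100000

namespace Cfsg.Lib.CoThreeType

open Equiv Cfsg.Lib.PermAut Cfsg.Lib.J3Type

/-- The element with a number. -/
noncomputable def dP (x : ℕ) : P276 := dSub.el x

theorem dSub_size : dSub.size = 4608 := dSub_gens.2.2.1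

theorem dP_mem {x : ℕ} (hx : x < 4608) : dP x ∈ Cm := (dSub_valid.el_mem (dSub_size ▸ hx)).1

theorem dP_inj {x y : ℕ} (hx : x < 4608) (hy : y < 4608) (e : dP x = dP y) : x = y :=
  dSub_valid.inj (dSub_size ▸ hx) (dSub_size ▸ hy) e

theorem root_lt : dSub.root < 4608 := dSub_size ▸ dSub_valid.root_lt

theorem dP_root : dP dSub.root = 1 := dSub_valid.el_root

theorem dM_spec {x y : ℕ} (hx : x < 4608) (hy : y < 4608) : dM x y < 4608 ∧ dP (dM x y) = dP x * dP y := by
  have h := dSub_valid.el_mul (dSub_size ▸ hx) (dSub_size ▸ hy)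
  exact ⟨dSub_size ▸ h.1, h.2⟩

theorem dIv_spec {x : ℕ} (hx : x < 4608) : dSub.iv x < 4608 ∧ dP (dSub.iv x) = (dP x)⁻¹ := by
  have h := dSub_valid.el_iv (dSub_size ▸ hx)
  exact ⟨dSub_size ▸ h.1, h.2⟩

theorem dCj_spec {d y : ℕ} (hd : d < 4608) (hy : y < 4608) :
    dCj d y < 4608 ∧ dP (dCj d y) = dP d * dP y * (dP d)⁻¹ := by
  obtain ⟨h1, e1⟩ := dIv_spec hd
  obtain ⟨h2, e2⟩ := dM_spec hy h1
  obtain ⟨h3, e3⟩ := dM_spec hd h2
  exact ⟨h3, by rw [dCj, e3, e2, e1, mul_assoc]⟩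

theorem dQk_spec {k : ℕ} (hk : k < 3) : dQk k < 4608 ∧ dP (dQk k) = dSub.gP k := by
  have h := List.all_eq_true.1 gen_ok.1 k (List.mem_range.2 hk)
  simp only [Bool.and_eq_true, Nat.blt, Nat.ble_eq, Nat.beq_eq] at h
  refine ⟨h.1, ?_⟩
  have e := dSub_valid.el_app (w := [k]) (by simpa [gen_ok.2] using hk) dSub_valid.root_lt
  rw [dP, ← h.2]
  show dSub.el (dSub.app [k] dSub.root) = _
  rw [e, dSub_valid.el_root]
  simp

theorem word_lt {x : ℕ} (hx : x < 4608) : ∀ k ∈ dSub.word x, k < 3 := fun k hk =>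
  gen_ok.2 ▸ (dSub_valid.spec (dSub_size ▸ hx)).2.1 k hk

theorem dP_word {x : ℕ} (hx : x < 4608) : dP x = ((dSub.word x).map fun k => dP (dQk k)).prod := by
  rw [dP, Num.el]
  congr 1
  exact List.map_congr_left fun k hk => (dQk_spec (word_lt hx k hk)).2.symm

theorem inL_iff {y : ℕ} {l : List ℕ} : inL y l = true ↔ y ∈ l := by
  simp [inL, Nat.beq_eq]

theorem evw_spec {im : List ℕ} (him : ∀ k < 3, im.getD k 0 < 4608) : ∀ {w : List ℕ}, (∀ k ∈ w, k < 3) →
    evw im w < 4608 ∧ dP (evw im w) = (w.map fun k => dP (im.getD k 0)).prod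
  | [], _ => ⟨root_lt, dP_root⟩
  | k :: w, hw => by
    obtain ⟨h1, e1⟩ := evw_spec him (w := w) fun j hj => hw j (List.mem_cons_of_mem _ hj)
    obtain ⟨h2, e2⟩ := dM_spec (him k (hw k (List.mem_cons_self ..))) h1
    exact ⟨h2, by rw [evw, e2, e1, List.map_cons, List.prod_cons]⟩

/-- A homomorphism on the numbers. -/
structure IsHom (f : ℕ → ℕ) : Prop where
  lt : ∀ x < 4608, f x < 4608
  mul : ∀ x < 4608, ∀ y < 4608, dP (f (dM x y)) = dP (f x) * dP (f y)

theorem IsHom.one {f : ℕ → ℕ} (H : IsHom f) : dP (f dSub.root) = 1 := by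
  have e := H.mul _ root_lt _ root_lt
  have h : dM dSub.root dSub.root = dSub.root :=
    dP_inj (dM_spec root_lt root_lt).1 root_lt (by rw [(dM_spec root_lt root_lt).2, dP_root, one_mul])
  rw [h] at e
  exact left_eq_mul.1 e

theorem IsHom.word {f : ℕ → ℕ} (H : IsHom f) {x : ℕ} (hx : x < 4608) :
    dP (f x) = ((dSub.word x).map fun k => dP (f (dQk k))).prod := by
  have key : ∀ w : List ℕ, (∀ k ∈ w, k < 3) → dP (f (evw [dQk 0, dQk 1, dQk 2] w)) =
      (w.map fun k => dP (f (dQk k))).prod := by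
    intro w
    induction w with
    | nil => intro _; exact H.one
    | cons k w ih =>
      intro hw
      have hw' := fun j hj => hw j (List.mem_cons_of_mem _ hj)
      have hk := hw k (List.mem_cons_self ..)
      have hg : [dQk 0, dQk 1, dQk 2].getD k 0 = dQk k := by interval_cases k <;> rfl
      obtain ⟨h1, -⟩ := evw_spec (im := [dQk 0, dQk 1, dQk 2]) (fun j hj => by
        interval_cases j <;> exact (dQk_spec (by norm_num)).1) hw'
      rw [evw, hg, H.mul _ (dQk_spec hk).1 _ h1, ih hw', List.map_cons, List.prod_cons]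
  have hx' : evw [dQk 0, dQk 1, dQk 2] (dSub.word x) = x := by
    obtain ⟨h1, e1⟩ := evw_spec (im := [dQk 0, dQk 1, dQk 2]) (fun j hj => by
      interval_cases j <;> exact (dQk_spec (by norm_num)).1) (word_lt hx)
    refine dP_inj h1 hx ?_
    rw [e1, dP_word hx]
    congr 1
  rw [← key _ (word_lt hx), hx']

theorem hom_of_sgB {f : ℕ → ℕ} (h : ((List.range 4608).all (sgB f)) = true) :
    IsHom f ∧ ∀ x < 4608, f (f x) = x := by
  have hs : ∀ x < 4608, (f x < 4608 ∧ f (f x) = x) ∧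
      ∀ k < 3, f (dSub.stp k x) = dM (f (dQk k)) (f x) := by
    intro x hx
    have h' := List.all_eq_true.1 h x (List.mem_range.2 hx)
    simp only [sgB, Bool.and_eq_true, List.all_eq_true, List.mem_range, Nat.blt, Nat.ble_eq, Nat.beq_eq] at h'
    exact h'
  have lt : ∀ x < 4608, f x < 4608 := fun x hx => (hs x hx).1.1
  have happ : ∀ w : List ℕ, (∀ k ∈ w, k < 3) → ∀ y < 4608, dSub.app w y < 4608 ∧
      dP (f (dSub.app w y)) = (w.map fun k => dP (f (dQk k))).prod * dP (f y) := by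
    intro w
    induction w with
    | nil => intro _ y hy; exact ⟨hy, by simp [Num.app]⟩
    | cons k w ih =>
      intro hw y hy
      have hk := hw k (List.mem_cons_self ..)
      obtain ⟨h1, e1⟩ := ih (fun j hj => hw j (List.mem_cons_of_mem _ hj)) y hy
      have hlt := (dSub_valid.spec (dSub_size.symm ▸ h1)).1 k (gen_ok.2.symm ▸ hk)
      refine ⟨dSub_size ▸ hlt.1, ?_⟩
      rw [Num.app, (hs _ h1).2 k hk, (dM_spec (lt _ (dQk_spec hk).1) (lt _ h1)).2, e1, List.map_cons,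
        List.prod_cons, mul_assoc]
  have froot : dP (f dSub.root) = 1 := by
    have h0 := List.all_eq_true.1 gen_ok.1 0 (List.mem_range.2 (by norm_num))
    simp only [Bool.and_eq_true, Nat.beq_eq] at h0
    have e := congrArg dP ((hs _ root_lt).2 0 (by norm_num))
    rw [h0.2, (dM_spec (lt _ (dQk_spec (by norm_num)).1) (lt _ root_lt)).2] at e
    exact left_eq_mul.1 e
  refine ⟨⟨lt, fun x hx y hy => ?_⟩, fun x hx => (hs x hx).1.2⟩
  have hxr : dP (f x) = ((dSub.word x).map fun k => dP (f (dQk k))).prod := by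
    have := (happ _ (word_lt hx) _ root_lt).2
    rwa [(dSub_valid.spec (dSub_size ▸ hx)).2.2.1, froot, mul_one] at this
  rw [dM, Num.mul, (happ _ (word_lt hx) y hy).2, hxr]

theorem dSg_hom : IsHom dSg ∧ ∀ x < 4608, dSg (dSg x) = x := hom_of_sgB sg_ok

theorem dSgP_hom : IsHom dSgP ∧ ∀ x < 4608, dSgP (dSgP x) = x := hom_of_sgB sgP_ok

theorem dT_lt : dTn < 4608 ∧ dVn < 4608 := by
  obtain ⟨h1, h2, -, -⟩ := dVT_ok
  simp only [Nat.blt, Nat.ble_eq] at h1 h2
  exact ⟨h1, h2⟩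

theorem dP_T : dP dTn = tP ∧ dP dVn = vP := by
  obtain ⟨-, -, h3, h4⟩ := dVT_ok
  simp only [Nat.beq_eq] at h3 h4
  refine ⟨(dSub_valid.eq_el t_spec.2.2.2.1 (dSub_size ▸ dT_lt.1) ?_).symm,
    (dSub_valid.eq_el (repTab_spec (k := 1) (by norm_num)).2.1 (dSub_size ▸ dT_lt.2) ?_).symm⟩
  · rw [h3]; exact codeOf_rep t_spec.1
  · rw [h4]; exact codeOf_rep (repTab_spec (k := 1) (by norm_num)).1

theorem dP_fix {d : ℕ} (hd : d < 4608) : dCj d dTn = dTn ∧ dCj d dVn = dVn := by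
  constructor
  · refine dP_inj (dCj_spec hd dT_lt.1).1 dT_lt.1 ?_
    rw [(dCj_spec hd dT_lt.1).2, dP_T.1, t_spec.2.2.2.2 _ (dP_mem hd), mul_inv_cancel_right]
  · refine dP_inj (dCj_spec hd dT_lt.2).1 dT_lt.2 ?_
    rw [(dCj_spec hd dT_lt.2).2, dP_T.2, grp_comm_v (dP d) (dSub_valid.el_mem (dSub_size ▸ hd)).2]
    exact mul_inv_cancel_right _ _

/-- An injective endomorphism of the numbers, swapping the two involutions and with inner square. -/
structure IsSwap (s : ℕ → ℕ) : Prop where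
  hom : IsHom s
  inj : ∀ x < 4608, ∀ y < 4608, s x = s y → x = y
  sT : s dTn = dVn
  sV : s dVn = dTn
  sq : ∃ d < 4608, ∀ x < 4608, s (s x) = dCj d x

theorem IsSwap.surj {s : ℕ → ℕ} (H : IsSwap s) {y : ℕ} (hy : y < 4608) : ∃ x < 4608, s x = y := by
  let f : Fin 4608 → Fin 4608 := fun x => ⟨s x, H.hom.lt x x.2⟩
  have hf : Function.Injective f := fun a b e => Fin.ext (H.inj a a.2 b b.2 (congrArg Fin.val e))
  obtain ⟨x, hx⟩ := (Finite.injective_iff_surjective.1 hf) ⟨y, hy⟩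
  exact ⟨x, x.2, congrArg Fin.val hx⟩

/-- Composition with a conjugation. -/
theorem IsSwap.conj {s : ℕ → ℕ} (H : IsSwap s) {d : ℕ} (hd : d < 4608) : IsSwap fun x => dCj d (s x) where
  hom := by
    refine ⟨fun x hx => (dCj_spec hd (H.hom.lt x hx)).1, fun x hx y hy => ?_⟩
    rw [(dCj_spec hd (H.hom.lt _ (dM_spec hx hy).1)).2, (dCj_spec hd (H.hom.lt x hx)).2,
      (dCj_spec hd (H.hom.lt y hy)).2, H.hom.mul x hx y hy]
    group
  inj x hx y hy e := by
    have := congrArg dP e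
    rw [(dCj_spec hd (H.hom.lt x hx)).2, (dCj_spec hd (H.hom.lt y hy)).2, mul_left_inj, mul_right_inj] at this
    exact H.inj x hx y hy (dP_inj (H.hom.lt x hx) (H.hom.lt y hy) this)
  sT := by rw [H.sT]; exact (dP_fix hd).2
  sV := by rw [H.sV]; exact (dP_fix hd).1
  sq := by
    obtain ⟨d0, hd0, h0⟩ := H.sq
    have hsd := H.hom.lt d hd
    obtain ⟨h1, e1⟩ := dM_spec hd hsd
    obtain ⟨h2, e2⟩ := dM_spec h1 hd0
    refine ⟨_, h2, fun x hx => ?_⟩
    have hsx := H.hom.lt x hx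
    obtain ⟨hc, ec⟩ := dCj_spec hd hsx
    refine dP_inj (dCj_spec hd (H.hom.lt _ hc)).1 (dCj_spec h2 hx).1 ?_
    obtain ⟨hiv, eiv⟩ := dIv_spec hd
    obtain ⟨hm, em⟩ := dM_spec hsx hiv
    have hdiv : dP (s (dSub.iv d)) = (dP (s d))⁻¹ := by
      refine eq_inv_of_mul_eq_one_right ?_
      rw [← H.hom.mul d hd _ hiv, show dM d (dSub.iv d) = dSub.root from
        dP_inj (dM_spec hd hiv).1 root_lt (by rw [(dM_spec hd hiv).2, eiv, mul_inv_cancel, dP_root]), H.hom.one]
    rw [(dCj_spec hd (H.hom.lt _ hc)).2, (dCj_spec h2 hx).2, e2, e1, dCj, H.hom.mul d hd _ hm,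
      H.hom.mul _ hsx _ hiv, hdiv, h0 x hx, (dCj_spec hd0 hx).2]
    group

theorem list_spec {y : ℕ} (hy : y < 4608) :
    (dM y y = dSub.root → y = dSub.root ∨ y ∈ dInvs) ∧
    (dM y (dQk 0) = dM (dQk 0) y → y ∈ dCq) ∧
    (dM y (dM y y) = dSub.root → y = dSub.root ∨ (∃ e ∈ dThree, e.1 = y) ∧
      (dM y (dQk 0) = dM (dQk 0) y → y = dQk 0 ∨ y = dM (dQk 0) (dQk 0) ∨ y ∈ dPart)) := by
  have h := List.all_eq_true.1 list_ok y (List.mem_range.2 hy)
  simp only [listB, Bool.and_eq_true, Bool.or_eq_true, Bool.not_eq_true', Nat.beq_eq, inL_iff, List.any_eq_true] at h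
  obtain ⟨⟨h1, h2⟩, h3⟩ := h
  refine ⟨fun e => ?_, fun e => ?_, fun e => ?_⟩
  · rw [e, Nat.beq_refl] at h1; simpa using h1
  · rw [e, Nat.beq_refl] at h2; simpa using h2
  · rw [e, Nat.beq_refl] at h3
    rcases h3 with (h | h) | ⟨h3, h4⟩
    · exact Bool.noConfusion h
    · exact Or.inl h
    · refine Or.inr ⟨h3, fun e' => ?_⟩
      rw [e', Nat.beq_refl] at h4
      simpa [or_assoc] using h4

/-- Up to a conjugation, a swap fixes the first generator. -/
theorem IsSwap.normalise {s : ℕ → ℕ} (H : IsSwap s) :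
    ∃ d < 4608, IsSwap (fun x => dCj (dSub.iv d) (s x)) ∧ dCj (dSub.iv d) (s (dQk 0)) = dQk 0 := by
  obtain ⟨lq, -⟩ := dQk_spec (k := 0) (by norm_num)
  have ly := H.hom.lt _ lq
  set y := s (dQk 0) with hy
  have hq := q_ok
  simp only [Nat.beq_eq] at hq
  obtain ⟨hr0, hq3, -, -, -, -, -, hlen, -, -⟩ := hq
  have hq0 := List.all_eq_true.1 hq3 0 (List.mem_range.2 (by norm_num))
  simp only [Bool.and_eq_true, Bool.not_eq_true', Nat.beq_eq] at hq0
  have hne : y ≠ dSub.root := fun e => by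
    have h0 : s dSub.root = dSub.root := dP_inj (H.hom.lt _ root_lt) root_lt (H.hom.one.trans dP_root.symm)
    have := H.inj _ lq _ root_lt (e.trans h0.symm)
    rw [this, Nat.beq_refl] at hq0
    exact Bool.noConfusion hq0.1
  have hcube : dM y (dM y y) = dSub.root := by
    refine dP_inj (dM_spec ly (dM_spec ly ly).1).1 root_lt ?_
    have e := congrArg (fun z => dP (s z)) hq0.2
    simp only [H.hom.mul _ lq _ (dM_spec lq lq).1, H.hom.mul _ lq _ lq, H.hom.one] at e
    rw [(dM_spec ly (dM_spec ly ly).1).2, (dM_spec ly ly).2, dP_root]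
    exact e
  obtain ⟨⟨⟨y', k, d⟩, he, rfl⟩, -⟩ := ((list_spec ly).2.2 hcube).resolve_left hne
  have ht := List.all_eq_true.1 three_ok.1 _ he
  simp only [Bool.and_eq_true, Nat.blt, Nat.ble_eq, Nat.beq_eq] at ht
  obtain ⟨⟨hk, hd⟩, hcj⟩ := ht
  obtain ⟨hid, eid⟩ := dIv_spec hd
  have H' := H.conj hid
  refine ⟨d, hd, H', ?_⟩
  have hrep : dReps.getD k 0 < 4608 := by
    revert hk
    rcases k with _ | _ | _ | _ | k <;> intro hk <;> first | decide | omega
  have hy' : dCj (dSub.iv d) (s (dQk 0)) = dReps.getD k 0 := by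
    refine dP_inj (dCj_spec hid ly).1 hrep ?_
    rw [(dCj_spec hid ly).2, ← hcj, (dCj_spec hd hrep).2, eid]
    group
  rw [hy']
  by_contra hk0
  have hk1 : k ≠ 0 := fun e => hk0 (e ▸ hr0)
  obtain ⟨j, rfl⟩ : ∃ j, k = j + 1 := ⟨k - 1, by omega⟩
  have hm := List.all_eq_true.1 three_ok.2 j (List.mem_range.2 (by omega))
  simp only [Bool.and_eq_true, List.all_eq_true, Nat.blt, Nat.ble_eq, Nat.beq_eq] at hm
  obtain ⟨⟨hl, hnd⟩, hel⟩ := hm
  classical
  choose! pre hpre hpre' using fun z (hz : z < 4608) => H'.surj hz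
  have hsub : ((dMany.getD j []).map pre).toFinset ⊆ dCq.toFinset := by
    intro z hz
    simp only [List.mem_toFinset, List.mem_map] at hz
    obtain ⟨w, hw, rfl⟩ := hz
    obtain ⟨hw1, hw2⟩ := hel w hw
    have l1 := hpre w hw1
    refine List.mem_toFinset.2 ((list_spec l1).2.1 ?_)
    refine H'.inj _ (dM_spec l1 lq).1 _ (dM_spec lq l1).1 (dP_inj ((H'.hom.lt) _ (dM_spec l1 lq).1)
      ((H'.hom.lt) _ (dM_spec lq l1).1) ?_)
    rw [H'.hom.mul _ l1 _ lq, H'.hom.mul _ lq _ l1, hpre' w hw1, hy', ← (dM_spec hw1 hrep).2,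
      ← (dM_spec hrep hw1).2]
    exact congrArg dP hw2
  have hc := Finset.card_le_card hsub
  rw [List.toFinset_card_of_nodup ((nodup_of_nodupB hnd).map_on fun a ha b hb e => by
    rw [← hpre' a (hel a ha).1, ← hpre' b (hel b hb).1, e]), List.length_map, hl] at hc
  have := List.toFinset_card_le dCq
  omega

/-- The classification. -/
theorem IsSwap.classify {s : ℕ → ℕ} (H : IsSwap s) : ∃ f : ℕ → ℕ, (f = dSg ∨ f = dSgP) ∧ ∃ d < 4608, ∃ e < 4608,
    ∀ x < 4608, dP (s x) = dP d * dP (f (dCj e x)) * (dP d)⁻¹ := by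
  obtain ⟨d, hd, H', hfix⟩ := H.normalise
  obtain ⟨hid, eid⟩ := dIv_spec hd
  obtain ⟨l0, -⟩ := dQk_spec (k := 0) (by norm_num)
  obtain ⟨l1, -⟩ := dQk_spec (k := 1) (by norm_num)
  obtain ⟨l2, -⟩ := dQk_spec (k := 2) (by norm_num)
  generalize hs' : (fun x => dCj (dSub.iv d) (s x)) = s' at H'
  replace hfix : s' (dQk 0) = dQk 0 := by rw [← hs']; exact hfix
  have inj' : ∀ {a b : ℕ}, a < 4608 → b < 4608 → dP (s' a) = dP (s' b) → a = b := fun ha hb e =>
    H'.inj _ ha _ hb (dP_inj (H'.hom.lt _ ha) (H'.hom.lt _ hb) e)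
  have la := H'.hom.lt _ l1
  have lb := H'.hom.lt _ l2
  set a := s' (dQk 1) with hA
  set b := s' (dQk 2) with hB
  obtain ⟨-, hq3, hcomm, hx2, hne, hrel, hrlt, -, -, -⟩ := q_ok
  have hq1 := List.all_eq_true.1 hq3 1 (List.mem_range.2 (by norm_num))
  simp only [Bool.and_eq_true, Bool.not_eq_true', Nat.beq_eq] at hq1 hcomm hx2 hne hrel
  obtain ⟨⟨hb0, ha0⟩, ha00⟩ := hne
  have l00 := (dM_spec l0 l0).1
  have hapart : a ∈ dPart := by
    have hcube : dM a (dM a a) = dSub.root := by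
      refine dP_inj (dM_spec la (dM_spec la la).1).1 root_lt ?_
      rw [(dM_spec la (dM_spec la la).1).2, (dM_spec la la).2, hA, ← H'.hom.mul _ l1 _ l1,
        ← H'.hom.mul _ l1 _ (dM_spec l1 l1).1, hq1.2, H'.hom.one, dP_root]
    have hc : dM a (dQk 0) = dM (dQk 0) a := by
      refine dP_inj (dM_spec la l0).1 (dM_spec l0 la).1 ?_
      rw [(dM_spec la l0).2, (dM_spec l0 la).2]
      conv_lhs => rw [hA, ← hfix, ← H'.hom.mul _ l1 _ l0, hcomm, H'.hom.mul _ l0 _ l1, hfix]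
    rcases (list_spec la).2.2 hcube with h | ⟨-, h⟩
    · exfalso
      have := inj' l1 root_lt (by rw [← hA, h, dP_root, H'.hom.one])
      rw [this, Nat.beq_refl] at hq1; exact Bool.noConfusion hq1.1
    rcases h hc with h | h | h
    · exfalso
      have := inj' l1 l0 (by rw [← hA, h, hfix])
      rw [this, Nat.beq_refl] at ha0; exact Bool.noConfusion ha0
    · exfalso
      have := inj' l1 l00 (by rw [← hA, h, H'.hom.mul _ l0 _ l0, hfix, (dM_spec l0 l0).2])
      rw [this, Nat.beq_refl] at ha00; exact Bool.noConfusion ha00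
    · exact h
  have hbinv : b ∈ dInvs := by
    refine ((list_spec lb).1 ?_).resolve_left fun h => ?_
    · refine dP_inj (dM_spec lb lb).1 root_lt ?_
      rw [(dM_spec lb lb).2, hB, ← H'.hom.mul _ l2 _ l2, hx2, H'.hom.one, dP_root]
    · have := inj' l2 root_lt (by rw [← hB, h, dP_root, H'.hom.one])
      rw [this, Nat.beq_refl] at hb0; exact Bool.noConfusion hb0
  have him : ∀ k < 3, [dQk 0, a, b].getD k 0 = s' (dQk k) := fun k hk => by
    interval_cases k <;> first | exact hfix.symm | rfl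
  have himlt : ∀ k < 3, [dQk 0, a, b].getD k 0 < 4608 := fun k hk => by
    rw [him k hk]; exact H'.hom.lt _ (dQk_spec hk).1
  have hev : ∀ x < 4608, evw [dQk 0, a, b] (dSub.word x) = s' x := fun x hx => by
    obtain ⟨h1, e1⟩ := evw_spec himlt (word_lt hx)
    refine dP_inj h1 (H'.hom.lt _ hx) ?_
    rw [e1, H'.hom.word hx]
    exact congrArg List.prod (List.map_congr_left fun k hk => by rw [him k (word_lt hx k hk)])
  have hrel' : evw [dQk 0, a, b] dRel.1 = evw [dQk 0, a, b] dRel.2 := by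
    simp only [Bool.and_eq_true, List.all_eq_true, Nat.blt, Nat.ble_eq] at hrlt
    have key : ∀ w : List ℕ, (∀ k ∈ w, k < 3) →
        evw [dQk 0, dQk 1, dQk 2] w < 4608 ∧ dP (s' (evw [dQk 0, dQk 1, dQk 2] w)) = dP (evw [dQk 0, a, b] w) := by
      intro w
      induction w with
      | nil => intro _; exact ⟨root_lt, H'.hom.one.trans dP_root.symm⟩
      | cons k w ih =>
        intro hw
        have hw' := fun j hj => hw j (List.mem_cons_of_mem _ hj)
        have hk := hw k (List.mem_cons_self ..)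
        obtain ⟨i1, i2⟩ := ih hw'
        have hg : [dQk 0, dQk 1, dQk 2].getD k 0 = dQk k := by interval_cases k <;> rfl
        refine ⟨by rw [evw, hg]; exact (dM_spec (dQk_spec hk).1 i1).1, ?_⟩
        rw [evw, evw, hg, H'.hom.mul _ (dQk_spec hk).1 _ i1,
          (dM_spec (himlt k hk) (evw_spec himlt hw').1).2, him k hk, i2]
    refine dP_inj (evw_spec himlt hrlt.1).1 (evw_spec himlt hrlt.2).1 ?_
    rw [← (key _ hrlt.1).2, ← (key _ hrlt.2).2, hrel]
  have h := List.all_eq_true.1 (List.all_eq_true.1 pairs_ok a hapart) b hbinv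
  simp only [Bool.or_eq_true, Bool.not_eq_true', hev _ dT_lt.1, hev _ dT_lt.2, H'.sT, H'.sV, hrel',
    Nat.beq_refl, Bool.true_eq_false, false_or, List.any_eq_true] at h
  obtain ⟨⟨a', b', kind, e⟩, -, hcase⟩ := h
  simp only [caseB, Bool.and_eq_true, Nat.beq_eq] at hcase
  obtain ⟨⟨-, -⟩, hbody⟩ := hcase
  rcases hk : Nat.beq kind 2 with _ | _
  · rw [hk, cond_false] at hbody
    simp only [Bool.and_eq_true, Nat.blt, Nat.ble_eq, Nat.beq_eq] at hbody
    obtain ⟨⟨⟨he, g0⟩, g1⟩, g2⟩ := hbody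
    generalize hf : (bif Nat.beq kind 0 then dSg else dSgP) = f at g0 g1 g2
    have hff : (f = dSg ∨ f = dSgP) ∧ IsHom f := by
      rw [← hf]
      rcases Nat.beq kind 0 with _ | _
      · exact ⟨Or.inr rfl, dSgP_hom.1⟩
      · exact ⟨Or.inl rfl, dSg_hom.1⟩
    refine ⟨f, hff.1, d, hd, e, he, fun x hx => ?_⟩
    have hcomp : IsHom fun x => f (dCj e x) := by
      refine ⟨fun x hx => hff.2.lt _ (dCj_spec he hx).1, fun x hx y hy => ?_⟩
      rw [show dCj e (dM x y) = dM (dCj e x) (dCj e y) from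
        dP_inj (dCj_spec he (dM_spec hx hy).1).1 (dM_spec (dCj_spec he hx).1 (dCj_spec he hy).1).1 (by
          rw [(dCj_spec he (dM_spec hx hy).1).2, (dM_spec (dCj_spec he hx).1 (dCj_spec he hy).1).2,
            (dCj_spec he hx).2, (dCj_spec he hy).2, (dM_spec hx hy).2]; group)]
      exact hff.2.mul _ (dCj_spec he hx).1 _ (dCj_spec he hy).1
    have heq : dP (s' x) = dP (f (dCj e x)) := by
      rw [H'.hom.word hx, hcomp.word hx]
      refine congrArg List.prod (List.map_congr_left fun k hk' => ?_)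
      have := word_lt hx k hk'
      interval_cases k
      · rw [hfix, g0]
      · rw [g1]
      · rw [g2]
    rw [← heq, ← hs', (dCj_spec hid (H.hom.lt x hx)).2, eid]
    group
  · exfalso
    rw [hk, cond_true] at hbody
    obtain ⟨d0, hd0, h0⟩ := H'.sq
    have hfix0 : dCj d0 (dQk 0) = dQk 0 := by rw [← h0 _ l0, hfix, hfix]
    have hC : d0 ∈ dCq := by
      refine (list_spec hd0).2.1 (dP_inj (dM_spec hd0 l0).1 (dM_spec l0 hd0).1 ?_)
      rw [(dM_spec hd0 l0).2, (dM_spec l0 hd0).2]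
      conv_rhs => rw [← hfix0, (dCj_spec hd0 l0).2, inv_mul_cancel_right]
    have := List.all_eq_true.1 hbody d0 hC
    rw [← h0 _ l1, ← h0 _ l2, ← hA, ← hB, hev _ la, hev _ lb, Nat.beq_refl, Nat.beq_refl] at this
    exact Bool.noConfusion this

end Cfsg.Lib.CoThreeType
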