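import Cfsg.Agent.Lib.SpSix.Unique

/-!
# The double covers of `Sp6(2)` in the recognition of the third Conway group
-/

set_option autoImplicit false

namespace Cfsg.Lib.CoThreeType

open Cfsg.Lib.SpSix
open scoped commutatorElement

universe u v

theorem finite_of_double_cover {H : Type u} [Group H] (h : Cfsg.IsNonsplitDoubleCover H SpGrp) : Finite H := by
  classical
  obtain ⟨h2, ⟨e⟩, -⟩ := h
  haveI : Finite (Subgroup.center H) := Nat.finite_of_card_ne_zero (by rw [h2]; norm_num)
  haveI : Finite (H ⧸ Subgroup.center H) := Finite.of_equiv _ e.symm.toEquiv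
  exact Finite.of_equiv _ (Subgroup.groupEquivQuotientProdSubgroup (s := Subgroup.center H)).symm

/-- Two non-split double covers of `Sp6(2)` are isomorphic. -/
theorem cover_iso {H : Type*} [Group H] {K : Type*} [Group K]
    (hH : Cfsg.IsNonsplitDoubleCover H (Matrix.symplecticGroup (Fin 3) (ZMod 2)))
    (hK : Cfsg.IsNonsplitDoubleCover K (Matrix.symplecticGroup (Fin 3) (ZMod 2))) : Nonempty (H ≃* K) := by
  haveI := finite_of_double_cover hH
  haveI := finite_of_double_cover hK
  obtain ⟨e⟩ := cov_unique hH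
  obtain ⟨f⟩ := cov_unique hK
  exact ⟨e.trans f.symm⟩

theorem center_Cov : Subgroup.center Cov = toSp.ker := by
  refine le_antisymm (fun g hg => ?_) fun g hg => ?_
  · have h : toSp g ∈ Subgroup.center SpGrp := Subgroup.mem_center_iff.2 fun y => by
      obtain ⟨x, rfl⟩ := toSp_surjective y
      rw [← map_mul, ← map_mul, Subgroup.mem_center_iff.1 hg x]
    rwa [center_Sp, Subgroup.mem_bot] at h
  · exact ker_le_center (by rw [MonoidHom.mem_ker, ← spRep_toSp, MonoidHom.mem_ker.1 hg, map_one])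

/-- The concrete cover is a non-split double cover. -/
theorem cov_double_cover : Cfsg.IsNonsplitDoubleCover Cov (Matrix.symplecticGroup (Fin 3) (ZMod 2)) := by
  have hk : toSp.ker = proj.ker := by
    ext g
    rw [MonoidHom.mem_ker, MonoidHom.mem_ker, ← spRep_toSp, map_eq_one_iff spRep spRep_injective]
  refine ⟨by rw [center_Cov, hk]; exact card_ker, ⟨(QuotientGroup.quotientMulEquivOfEq center_Cov).trans
    (QuotientGroup.quotientKerEquivOfSurjective toSp toSp_surjective)⟩, fun L hL => ?_⟩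
  have htc : tau ∈ Subgroup.center Cov := ker_le_center proj_tau
  have hle : commutator Cov ≤ L := by
    refine Subgroup.commutator_le.2 fun a _ b _ => ?_
    obtain ⟨⟨⟨c, hc⟩, ⟨l, hl⟩⟩, rfl⟩ := hL.surjective a
    obtain ⟨⟨⟨d, hd⟩, ⟨m, hm⟩⟩, rfl⟩ := hL.surjective b
    have e : ⁅c * l, d * m⁆ = ⁅l, m⁆ := by
      simp only [commutatorElement_def, mul_inv_rev]
      calc c * l * (d * m) * (l⁻¹ * c⁻¹) * (m⁻¹ * d⁻¹)
          = c * (l * d) * m * (l⁻¹ * c⁻¹) * (m⁻¹ * d⁻¹) := by group
        _ = (c * (d * l) * m * l⁻¹) * c⁻¹ * (m⁻¹ * d⁻¹) := by rw [Subgroup.mem_center_iff.1 hd l]; group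
        _ = c⁻¹ * (c * (d * l) * m * l⁻¹) * (m⁻¹ * d⁻¹) := by rw [← Subgroup.mem_center_iff.1 (inv_mem hc)]
        _ = d * (l * m * l⁻¹ * m⁻¹) * d⁻¹ := by group
        _ = _ := by rw [← Subgroup.mem_center_iff.1 hd, mul_inv_cancel_right]
    rw [e]
    exact mul_mem (mul_mem (mul_mem hl hm) (inv_mem hl)) (inv_mem hm)
  exact tau_ne_one (Subgroup.mem_bot.1 (hL.disjoint.eq_bot ▸ ⟨htc, hle tau_mem_commutator⟩))

end Cfsg.Lib.CoThreeType
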