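import Cfsg.Agent.Lib.CoThreeType.Chunk
import Cfsg.Agent.Lib.CoThreeType.CoverData
import Cfsg.Agent.Lib.CoThreeType.ModelData
import Cfsg.Agent.Lib.PermAut.RestrictAt
import Cfsg.Agent.Lib.SpSix.Data

/-!
# Kernel checks of the centralizer on points and vectors
-/

set_option autoImplicit false
set_option maxRecDepth 100000
-- the kernel checks run one after another, to bound the memory of the file
set_option Elab.async false

namespace Cfsg.Lib.CoThreeType

open Cfsg.Lib.PermAut

set_option maxHeartbeats 1000000 in -- long kernel checks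
theorem graph_ok : graphSub.ok 9 339 = true := by
  refine sub_ok_of ?_ ?_ (closedB_step ?_ (all2_split 3 ?_ ?_) (closedB_step ?_ ?_ (closedB_step ?_ ?_ (closedB_step ?_ ?_ ?_))))
  all_goals decide +kernel

theorem graph_size : graphSub.size = 2903040 := by decide +kernel

theorem graph_rest : (restAtB 9 9 276 0 graphSub.g0 centSub.g0 && restAtB 9 9 276 0 graphSub.g1 centSub.g1 &&
    restAtB 9 6 63 276 graphSub.g0 (Cfsg.Lib.SpSix.vTab 0) &&
    restAtB 9 6 63 276 graphSub.g1 (Cfsg.Lib.SpSix.vTab 1)) = true := by decide +kernel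

end Cfsg.Lib.CoThreeType
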