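import Cfsg.Agent.Lib.CoThreeType.Model
import Cfsg.Agent.Lib.CoThreeType.CoverChecks
import Cfsg.Agent.Lib.CoThreeType.Cover

/-!
# The centralizer in the model is a non-split double cover of `Sp6(2)`
-/

set_option autoImplicit false
set_option maxRecDepth 100000

namespace Cfsg.Lib.CoThreeType

open Equiv Cfsg Cfsg.Lib.PermAut
open Cfsg.Lib.SpSix (SpGrp spRep spRep_injective card_Sp center_Sp vPerm proj proj_range)

instance : NeZero 339 := ⟨by norm_num⟩
instance : NeZero 63 := ⟨by norm_num⟩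

theorem vPerm_rep (i : Fin 2) : Rep 6 (vPerm i) (Cfsg.Lib.SpSix.vTab i) := fun _ => rfl

theorem vec_range : Subgroup.closure {toP 6 63 (Cfsg.Lib.SpSix.vTab 0), toP 6 63 (Cfsg.Lib.SpSix.vTab 1)} =
    spRep.range := by
  have h0 : toP 6 63 (Cfsg.Lib.SpSix.vTab 0) = vPerm 0 := (vPerm_rep 0).toP_eq
  have h1 : toP 6 63 (Cfsg.Lib.SpSix.vTab 1) = vPerm 1 := (vPerm_rep 1).toP_eq
  rw [h0, h1, ← proj_range, MonoidHom.range_eq_map, ← Cfsg.Lib.SpSix.cGen_closure, MonoidHom.map_closure]
  congr 1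
  ext p
  simp only [Set.mem_insert_iff, Set.mem_singleton_iff, Set.mem_image, Set.mem_setOf_eq]
  constructor
  · rintro (rfl | rfl)
    · exact ⟨_, Or.inl rfl, rfl⟩
    · exact ⟨_, Or.inr rfl, rfl⟩
  · rintro ⟨g, rfl | rfl, rfl⟩
    · exact Or.inl rfl
    · exact Or.inr rfl

theorem graph_valid : graphSub.Valid 9 339 := Sub.valid graph_ok

/-- The centralizer in the model is a non-split double cover. -/
theorem cm_double_cover : Cfsg.IsNonsplitDoubleCover Cm (Matrix.symplecticGroup (Fin 3) (ZMod 2)) := by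
  have VC := cm_valid
  have VG := graph_valid
  have h := graph_rest
  simp only [Bool.and_eq_true] at h
  obtain ⟨⟨⟨r0, r1⟩, v0⟩, v1⟩ := h
  obtain ⟨ψ, -, hψr, -⟩ := exists_restrict_at VG (M := 276) (off := 0) (by norm_num) VC.g0 VC.g1 r0 r1
  have hv : ∀ i : Fin 2, Rep 6 (toP 6 63 (Cfsg.Lib.SpSix.vTab i)) (Cfsg.Lib.SpSix.vTab i) := fun i => by
    rw [(vPerm_rep i).toP_eq]; exact vPerm_rep i
  obtain ⟨φ, -, hφr, -⟩ := exists_restrict_at VG (M := 63) (off := 276) (by norm_num) (hv 0) (hv 1) v0 v1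
  have hψr' : ψ.range = Cm := hψr
  have hψi : Function.Injective ψ := by
    have hsur : Nat.card ψ.range = Nat.card ↥(graphSub.grp 9 339) := by
      rw [hψr', card_Cm, VG.card, graph_size]
    rw [← MonoidHom.ker_eq_bot_iff, ← Subgroup.card_eq_one]
    have h := ψ.ker.card_mul_index
    rw [Subgroup.index_ker, hsur] at h
    exact Nat.eq_of_mul_eq_mul_right Nat.card_pos (h.trans (one_mul _).symm)
  let eG : ↥(graphSub.grp 9 339) ≃* Cm := (MonoidHom.ofInjective hψi).trans (MulEquiv.subgroupCongr hψr')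
  have hr : φ.range = spRep.range := hφr.trans vec_range
  let eS : φ.range ≃* SpGrp := (MulEquiv.subgroupCongr hr).trans (MonoidHom.ofInjective spRep_injective).symm
  let f : Cm →* SpGrp := (eS.toMonoidHom.comp φ.rangeRestrict).comp eG.symm.toMonoidHom
  have hs : Function.Surjective f :=
    (eS.surjective.comp φ.rangeRestrict_surjective).comp eG.symm.surjective
  have hker : Nat.card f.ker = 2 := by
    have h := f.ker.card_mul_index
    rw [Subgroup.index_ker, MonoidHom.range_eq_top.2 hs, Subgroup.card_top, card_Sp, card_Cm] at h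
    omega
  have htc : tC ∈ Subgroup.center Cm :=
    Subgroup.mem_center_iff.2 fun g => Subtype.ext (t_spec.2.2.2.2 _ g.2)
  have ht1 : tC ≠ 1 := fun e => t_spec.2.1 (congrArg Subtype.val e)
  have hzle : Subgroup.center Cm ≤ f.ker := fun z hz => by
    have h : f z ∈ Subgroup.center SpGrp := Subgroup.mem_center_iff.2 fun y => by
      obtain ⟨x, rfl⟩ := hs y
      rw [← map_mul, ← map_mul, Subgroup.mem_center_iff.1 hz x]
    rwa [center_Sp, Subgroup.mem_bot] at h
  have hzk : Subgroup.center Cm = f.ker := by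
    refine Subgroup.eq_of_le_of_card_ge hzle ?_
    rw [hker]
    by_contra hlt
    have h1 : Subgroup.center Cm = ⊥ := Subgroup.card_eq_one.1 (by
      have : 0 < Nat.card (Subgroup.center Cm) := Nat.card_pos
      omega)
    exact ht1 (Subgroup.mem_bot.1 (h1 ▸ htc))
  have hz2 : Nat.card (Subgroup.center Cm) = 2 := by rw [hzk, hker]
  refine ⟨hz2, ⟨(QuotientGroup.quotientMulEquivOfEq hzk).trans
    (QuotientGroup.quotientKerEquivOfSurjective f hs)⟩, fun L hL => ?_⟩
  have hidx : L.index = 2 := by rw [← hz2]; exact Subgroup.IsComplement'.index_eq_card hL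
  haveI := Subgroup.normal_of_index_eq_two hidx
  haveI : Fact (Nat.Prime 2) := ⟨Nat.prime_two⟩
  haveI := isCyclic_of_prime_card (α := Cm ⧸ L) (p := 2) (by rw [← Subgroup.index_eq_card, hidx])
  have hcl : commutator Cm ≤ L :=
    (Subgroup.Normal.quotient_commutative_iff_commutator_le).1 IsCyclic.commutative
  have : tC ∈ (⊥ : Subgroup Cm) := hL.disjoint.le_bot ⟨htc, hcl tC_commutator⟩
  exact ht1 (Subgroup.mem_bot.1 this)

end Cfsg.Lib.CoThreeType
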