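import Cfsg.Agent.Lib.CoThreeType.SmallChecks
import Cfsg.Agent.Lib.CoThreeType.Auto
import Cfsg.Agent.Lib.CoThreeType.Cover
import Cfsg.Agent.Lib.CoThreeType.CoverModel
import Cfsg.Agent.Lib.Invol.Isolated
import Cfsg.Agent.Lib.ZStar.Main

/-!
# An involution swapping two commuting conjugates of the involution
-/

set_option autoImplicit false
set_option maxRecDepth 100000
set_option linter.style.haveILetI false

namespace Cfsg.Lib.CoThreeType

open Equiv Cfsg.Lib.PermAut Cfsg.Lib.J3Type Subgroup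

theorem rep_facts : uP ≠ 1 ∧ tP ≠ uP ∧ tP ≠ vP ∧ 418 < 4608 ∧ dP 418 * dP 418 = tP := by
  have h := rep_ne
  simp only [Bool.and_eq_true, Bool.not_eq_true', Nat.blt, Nat.ble_eq, Nat.beq_eq] at h
  obtain ⟨⟨⟨⟨h1, h2⟩, h3⟩, h4⟩, h5⟩ := h
  have ct : codeOf tP = stepC tTab codeOne := codeOf_rep t_spec.1
  have cv : codeOf vP = stepC vTab codeOne := codeOf_rep (repTab_spec (k := 1) (by norm_num)).1
  have cu : codeOf uP = stepC uTab codeOne := codeOf_rep (repTab_spec (k := 2) (by norm_num)).1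
  refine ⟨fun e => ?_, fun e => ?_, fun e => ?_, h5, ?_⟩
  · rw [← cu, e, codeOf_one, Nat.beq_refl] at h3; exact Bool.noConfusion h3
  · rw [← ct, ← cu, e, Nat.beq_refl] at h2; exact Bool.noConfusion h2
  · rw [← ct, ← cv, e, Nat.beq_refl] at h1; exact Bool.noConfusion h1
  · rw [← (dM_spec h5 h5).2, show dM 418 418 = dTn from h4, dP_T.1]

/-- Every 2-element of the centralizer has a conjugate in the numbered Sylow subgroup. -/
theorem syl_conj {r : P276} (hr : r ∈ Cm) (hp : IsPGroup 2 (Subgroup.zpowers r)) :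
    ∃ h ∈ Cm, ∃ x < 1024, h * r * h⁻¹ = sSub.el x := by
  haveI : Fact (Nat.Prime 2) := ⟨Nat.prime_two⟩
  have hle := sSub_valid.grp_le
  set M := sSub.grp.subgroupOf Cm with hM
  have hMc : Nat.card M = 1024 := by
    rw [hM, Nat.card_congr (Subgroup.subgroupOfEquivOfLe hle).toEquiv, sSub_valid.card, sSub_gens.2.2]
  have hfac : (Nat.card Cm).factorization 2 = 10 := by
    rw [card_Cm, show (2903040 : ℕ) = 2 ^ 10 * 2835 by norm_num, Nat.factorization_mul (by norm_num) (by norm_num),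
      Finsupp.add_apply, Nat.Prime.factorization_pow Nat.prime_two, Finsupp.single_eq_same,
      Nat.factorization_eq_zero_of_not_dvd (by norm_num : ¬ 2 ∣ 2835)]
  let P : Sylow 2 Cm := Sylow.ofCard M (by rw [hMc, hfac]; norm_num)
  let rC : Cm := ⟨r, hr⟩
  have hp2 : IsPGroup 2 (Subgroup.zpowers rC) := by
    have e : (Subgroup.zpowers rC).map (Cm).subtype = Subgroup.zpowers r := MonoidHom.map_zpowers _ _
    exact (e ▸ hp).of_equiv ((Subgroup.zpowers rC).equivMapOfInjective _ (Cm).subtype_injective).symm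
  obtain ⟨R, hR⟩ := hp2.exists_le_sylow
  obtain ⟨g, hg⟩ := MulAction.exists_smul_eq Cm R P
  have hwP : g * rC * g⁻¹ ∈ (P : Subgroup Cm) := by
    rw [← hg]
    exact ⟨rC, hR (Subgroup.mem_zpowers rC), rfl⟩
  obtain ⟨x, hx, e⟩ := sSub_valid.surj (Subgroup.mem_subgroupOf.1 hwP)
  exact ⟨g, g.2, x, sSub_gens.2.2 ▸ hx, e.symm⟩

theorem syl_spec {x : ℕ} (hx : x < 1024) :
    (sSub.el x = 1 ∨ sSub.el x * sSub.el x ≠ 1 ∨
      ∃ k < 3, ∃ c ∈ Cm, c * sSub.el x * c⁻¹ = repP k ∧ k = sKind.get 4 x) ∧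
    sKind.get 4 (sSub.mul x x) ≠ 2 := by
  have h := List.all_eq_true.1 syl_ok x (List.mem_range.2 hx)
  simp only [sylB, Bool.and_eq_true, Bool.not_eq_true'] at h
  obtain ⟨h1, h2⟩ := h
  have hx' : x < sSub.size := sSub_gens.2.2.symm ▸ hx
  refine ⟨?_, fun e => by rw [e] at h2; exact Bool.noConfusion h2⟩
  rcases hk : Nat.beq (sKind.get 4 x) 3 with _ | _
  · rw [hk, cond_false] at h1
    simp only [Bool.and_eq_true, Nat.blt, Nat.ble_eq, Nat.beq_eq] at h1
    obtain ⟨⟨hk3, hu⟩, he⟩ := h1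
    refine Or.inr (Or.inr ⟨_, hk3, pP (pthOf (sPath.get 32 x)), (pcode_mul hu 1).1, ?_, rfl⟩)
    obtain ⟨rk, mk, -⟩ := repTab_spec hk3
    have mc := (pcode_mul hu 1).1
    have e : pP (pthOf (sPath.get 32 x)) * sSub.el x = repP (sKind.get 4 x) * pP (pthOf (sPath.get 32 x)) := by
      refine eq_of_code (mul_mem mc (sSub_valid.el_mem hx').1) (mul_mem mk mc) ?_
      rw [(pcode_mul hu _).2, sSub_valid.code_el hx', repP, codeOf_mul rk, codeOf_pP hu]
      exact he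
    rw [e, mul_inv_cancel_right]
  · rw [hk, cond_true] at h1
    simp only [Bool.or_eq_true, Bool.not_eq_true', Nat.beq_eq] at h1
    rcases h1 with h1 | h1
    · exact Or.inl (by rw [h1, sSub_valid.el_root])
    · refine Or.inr (Or.inl fun e => ?_)
      have : sSub.mul x x = sSub.root := sSub_valid.inj (sSub_valid.el_mul hx' hx').1 sSub_valid.root_lt (by
        rw [(sSub_valid.el_mul hx' hx').2, sSub_valid.el_root, e])
      rw [this, Nat.beq_refl] at h1
      exact Bool.noConfusion h1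

/-- An involution of the centralizer is conjugate to one of three. -/
theorem inv_class {w : P276} (hw : w ∈ Cm) (hw2 : w * w = 1) (hw1 : w ≠ 1) :
    ∃ k < 3, ∃ c ∈ Cm, c * w * c⁻¹ = repP k := by
  haveI : Fact (Nat.Prime 2) := ⟨Nat.prime_two⟩
  have ho : orderOf w = 2 := orderOf_eq_prime (by rw [pow_two, hw2]) hw1
  obtain ⟨h, hh, x, hx, e⟩ := syl_conj hw (IsPGroup.of_card (n := 1) (by rw [Nat.card_zpowers, ho, pow_one]))
  rcases (syl_spec hx).1 with h0 | h0 | ⟨k, hk, c, hc, hcx, -⟩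
  · exfalso
    rw [← e] at h0
    apply hw1
    calc w = h⁻¹ * (h * w * h⁻¹) * h := by group
      _ = 1 := by rw [h0]; group
  · exfalso
    apply h0
    rw [← e]
    calc h * w * h⁻¹ * (h * w * h⁻¹) = h * (w * w) * h⁻¹ := by group
      _ = 1 := by rw [hw2]; group
  · exact ⟨k, hk, c * h, mul_mem hc hh, by rw [← hcx, ← e]; group⟩

/-- The third class contains no square. -/
theorem no_root {r c : P276} (hr : r ∈ Cm) (hc : c ∈ Cm) : r * r ≠ c * uP * c⁻¹ := by
  haveI : Fact (Nat.Prime 2) := ⟨Nat.prime_two⟩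
  intro e0
  set r' := c⁻¹ * r * c with hr'
  have hm : r' ∈ Cm := mul_mem (mul_mem (inv_mem hc) hr) hc
  have hsq : r' * r' = uP := by
    rw [hr', show c⁻¹ * r * c * (c⁻¹ * r * c) = c⁻¹ * (r * r) * c by group, e0]
    group
  have hp : IsPGroup 2 (Subgroup.zpowers r') := by
    have h4 : r' ^ (2 ^ 2) = 1 := by
      rw [show (2 : ℕ) ^ 2 = 2 + 2 by norm_num, pow_add, pow_two, hsq]
      exact (repTab_spec (k := 2) (by norm_num)).2.2
    obtain ⟨m, -, hm'⟩ := (Nat.dvd_prime_pow Nat.prime_two).1 (orderOf_dvd_of_pow_eq_one h4)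
    exact IsPGroup.of_card (n := m) (by rw [Nat.card_zpowers, hm'])
  obtain ⟨h, hh, x, hx, e⟩ := syl_conj hm hp
  have hx' : x < sSub.size := sSub_gens.2.2.symm ▸ hx
  obtain ⟨hy', ey⟩ := sSub_valid.el_mul hx' hx'
  have hey : sSub.el (sSub.mul x x) = h * uP * h⁻¹ := by
    rw [ey, ← e, show h * r' * h⁻¹ * (h * r' * h⁻¹) = h * (r' * r') * h⁻¹ by group, hsq]
  obtain ⟨u1, u2, -⟩ := rep_facts
  rcases (syl_spec (sSub_gens.2.2 ▸ hy' : sSub.mul x x < 1024)).1 with h0 | h0 | ⟨k, hk, d, hd, hdx, hkd⟩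
  · apply u1
    calc uP = h⁻¹ * (h * uP * h⁻¹) * h := by group
      _ = 1 := by rw [← hey, h0]; group
  · apply h0
    rw [hey, show h * uP * h⁻¹ * (h * uP * h⁻¹) = h * (uP * uP) * h⁻¹ by group,
      show uP * uP = 1 from (repTab_spec (k := 2) (by norm_num)).2.2]
    group
  · have hk2 : k ≠ 2 := hkd ▸ (syl_spec hx).2
    rw [hey] at hdx
    interval_cases k
    · apply u2
      calc tP = (d * h)⁻¹ * (d * h * tP) := by group
        _ = (d * h)⁻¹ * (tP * (d * h)) := by rw [t_spec.2.2.2.2 _ (mul_mem hd hh)]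
        _ = (d * h)⁻¹ * (d * (h * uP * h⁻¹) * d⁻¹ * (d * h)) := by rw [hdx]; rfl
        _ = uP := by group
    · refine u_not_conj_v (g := (d * h)⁻¹) (inv_mem (mul_mem hd hh)) ?_
      show (d * h)⁻¹ * repP 1 * (d * h)⁻¹⁻¹ = uP
      rw [← hdx]
      group
    · exact hk2 rfl

variable {G : Type*} [Group G] {t : G}

open scoped Classical in
/-- An isomorphism from the centralizer in the model, extended to all permutations. -/
noncomputable def ext' (ψ : Cm ≃* centralizer ({t} : Set G)) (g : P276) : G :=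
  if h : g ∈ Cm then (ψ ⟨g, h⟩ : G) else 1

/-- The element with the given number, in the group. -/
noncomputable def dG (ψ : Cm ≃* centralizer ({t} : Set G)) (x : ℕ) : G := ext' ψ (dP x)

section Map

variable (ψ : Cm ≃* centralizer ({t} : Set G))

theorem ext_coe (g : Cm) : ext' ψ (g : P276) = ψ g := by rw [ext', dif_pos g.2]

theorem ext_mul {g h : P276} (hg : g ∈ Cm) (hh : h ∈ Cm) : ext' ψ (g * h) = ext' ψ g * ext' ψ h := by
  rw [show g * h = ((⟨g, hg⟩ * ⟨h, hh⟩ : Cm) : P276) from rfl, ext_coe, map_mul, Subgroup.coe_mul,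
    ← ext_coe ψ ⟨g, hg⟩, ← ext_coe ψ ⟨h, hh⟩]

theorem ext_one : ext' ψ 1 = 1 := by
  rw [show (1 : P276) = ((1 : Cm) : P276) from rfl, ext_coe, map_one, Subgroup.coe_one]

theorem ext_inv {g : P276} (hg : g ∈ Cm) : ext' ψ g⁻¹ = (ext' ψ g)⁻¹ := by
  rw [eq_inv_iff_mul_eq_one, ← ext_mul ψ (inv_mem hg) hg, inv_mul_cancel, ext_one]

theorem ext_mem {g : P276} (hg : g ∈ Cm) : ext' ψ g ∈ centralizer ({t} : Set G) := by
  rw [ext', dif_pos hg]; exact (ψ ⟨g, hg⟩).2

theorem ext_inj {g h : P276} (hg : g ∈ Cm) (hh : h ∈ Cm) (e : ext' ψ g = ext' ψ h) : g = h := by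
  rw [ext', ext', dif_pos hg, dif_pos hh] at e
  exact congrArg Subtype.val (ψ.injective (Subtype.ext e))

theorem ext_surj {x : G} (hx : x ∈ centralizer ({t} : Set G)) : ∃ g ∈ Cm, ext' ψ g = x :=
  ⟨_, (ψ.symm ⟨x, hx⟩).2, by rw [ext_coe, MulEquiv.apply_symm_apply]⟩

theorem ext_conj {g h : P276} (hg : g ∈ Cm) (hh : h ∈ Cm) :
    ext' ψ (g * h * g⁻¹) = ext' ψ g * ext' ψ h * (ext' ψ g)⁻¹ := by
  rw [ext_mul ψ (mul_mem hg hh) (inv_mem hg), ext_mul ψ hg hh, ext_inv ψ hg]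

theorem dG_mem {x : ℕ} (hx : x < 4608) : dG ψ x ∈ centralizer ({t} : Set G) := ext_mem ψ (dP_mem hx)

theorem dG_mul {x y : ℕ} (hx : x < 4608) (hy : y < 4608) : dG ψ (dM x y) = dG ψ x * dG ψ y := by
  rw [dG, (dM_spec hx hy).2, ext_mul ψ (dP_mem hx) (dP_mem hy)]; rfl

theorem dG_root : dG ψ dSub.root = 1 := by rw [dG, dP_root, ext_one]

theorem dG_cj {d x : ℕ} (hd : d < 4608) (hx : x < 4608) :
    dG ψ (dCj d x) = dG ψ d * dG ψ x * (dG ψ d)⁻¹ := by
  rw [dG, (dCj_spec hd hx).2, ext_conj ψ (dP_mem hd) (dP_mem hx)]; rfl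

theorem dG_inj {x y : ℕ} (hx : x < 4608) (hy : y < 4608) (e : dG ψ x = dG ψ y) : x = y :=
  dP_inj hx hy (ext_inj ψ (dP_mem hx) (dP_mem hy) e)

/-- An element centralizing both involutions has a number. -/
theorem dG_surj {x : G} (hx : x ∈ centralizer ({t} : Set G)) (hv : x * ext' ψ vP = ext' ψ vP * x) :
    ∃ n < 4608, dG ψ n = x := by
  obtain ⟨g, hg, rfl⟩ := ext_surj ψ hx
  have hvC : vP ∈ Cm := (repTab_spec (k := 1) (by norm_num)).2.1
  have hc : g * vP = vP * g := ext_inj ψ (mul_mem hg hvC) (mul_mem hvC hg) (by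
    rw [ext_mul ψ hg hvC, ext_mul ψ hvC hg]; exact hv)
  have hcV : g ∈ cV := ⟨hg, Subgroup.mem_centralizer_iff.2 fun y hy => by
    rw [Set.mem_singleton_iff.1 hy]; exact hc.symm⟩
  rw [coset_bij.1] at hcV
  obtain ⟨n, hn, rfl⟩ := dSub_valid.surj hcV
  exact ⟨n, dSub_size ▸ hn, rfl⟩

end Map

theorem exists_psi (hcov : IsNonsplitDoubleCover (centralizer ({t} : Set G)) (Matrix.symplecticGroup (Fin 3) (ZMod 2)))
    (ht : orderOf t = 2) : ∃ ψ : Cm ≃* centralizer ({t} : Set G), ext' ψ tP = t := by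
  obtain ⟨ψ⟩ := cover_iso cm_double_cover hcov
  refine ⟨ψ, ?_⟩
  rw [show tP = ((tC : Cm) : P276) from rfl, ext_coe]
  obtain ⟨hz, -, -⟩ := hcov
  let t1 : centralizer ({t} : Set G) := ⟨t, mem_centralizer_singleton_iff.2 rfl⟩
  have h1 : ψ tC ∈ center ↥(centralizer ({t} : Set G)) := mem_center_iff.2 fun g => by
    obtain ⟨a, rfl⟩ := ψ.surjective g
    rw [← map_mul, ← map_mul]
    exact congrArg ψ (Subtype.ext (t_spec.2.2.2.2 _ a.2))
  have h2 : t1 ∈ center ↥(centralizer ({t} : Set G)) :=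
    mem_center_iff.2 fun g => Subtype.ext (mem_centralizer_singleton_iff.1 g.2)
  have n1 : ψ tC ≠ 1 := fun e => t_spec.2.1 (congrArg Subtype.val (ψ.injective (e.trans ψ.map_one.symm)))
  have n2 : t1 ≠ 1 := fun e => by
    rw [show t = 1 from congrArg Subtype.val e, orderOf_one] at ht
    norm_num at ht
  obtain ⟨a, b, hab, hset⟩ := Nat.card_eq_two_iff.1 hz
  have hm : ∀ x : center ↥(centralizer ({t} : Set G)), x = a ∨ x = b := fun x => by
    have hx : x ∈ ({a, b} : Set _) := hset ▸ Set.mem_univ x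
    simpa using hx
  have key : (⟨ψ tC, h1⟩ : center ↥(centralizer ({t} : Set G))) = ⟨t1, h2⟩ := by
    rcases hm ⟨ψ tC, h1⟩ with e1 | e1 <;> rcases hm ⟨t1, h2⟩ with e2 | e2 <;> rcases hm 1 with e3 | e3
    all_goals first
      | exact e1.trans e2.symm
      | exact absurd (congrArg Subtype.val (e1.trans e3.symm)) n1
      | exact absurd (congrArg Subtype.val (e2.trans e3.symm)) n2
  exact congrArg (fun z : center ↥(centralizer ({t} : Set G)) => ((z.1 : centralizer ({t} : Set G)) : G)) key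

/-- The involution is not isolated. -/
theorem not_isolated [Finite G] (ht : orderOf t = 2) (hO : Cfsg.oddCore G = ⊥) (hZ : Subgroup.center G = ⊥) :
    ¬ IsIsolatedInvolution t := by
  intro h
  have hfac : centralizer ({t} : Set G) ⊔ oddCore G = ⊤ := by
    refine eq_top_iff.2 fun g _ => ?_
    obtain ⟨k, ⟨⟨hk, hk'⟩, hkc⟩, -⟩ := Invol.isolated_coset_unique h g
    have hkN : k ∈ oddCore G := by
      have hh := ZStar.zStarHolds G t h k
      rw [hk', show k⁻¹ * k⁻¹ = (k ^ 2)⁻¹ by rw [pow_two, mul_inv_rev]] at hh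
      obtain ⟨m, hm⟩ := exists_pow_eq_self_of_coprime (n := 2) (x := k) hk.coprime_two_left
      rw [← hm]
      exact pow_mem (inv_mem_iff.mp hh) m
    rw [show g = k * (g⁻¹ * k)⁻¹ by group]
    exact mul_mem (mem_sup_right hkN) (mem_sup_left (inv_mem hkc))
  rw [hO, sup_bot_eq] at hfac
  have htZ : t ∈ center G := mem_center_iff.2 fun g =>
    mem_centralizer_singleton_iff.1 (hfac.symm ▸ mem_top g)
  rw [hZ, mem_bot] at htZ
  rw [htZ, orderOf_one] at ht
  norm_num at ht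

/-- A conjugate of the involution centralizing it is conjugate to the second one in the centralizer. -/
theorem fused_class (ψ : Cm ≃* centralizer ({t} : Set G)) (hψ : ext' ψ tP = t) {a : G}
    (hx : a * t * a⁻¹ * t = t * (a * t * a⁻¹)) (hne : a * t * a⁻¹ ≠ t) :
    ∃ c ∈ centralizer ({t} : Set G), c * (a * t * a⁻¹) * c⁻¹ = ext' ψ vP := by
  obtain ⟨u1, u2, u3, h418, hroot⟩ := rep_facts
  have hvC : vP ∈ Cm := (repTab_spec (k := 1) (by norm_num)).2.1
  have hT : dG ψ 418 * dG ψ 418 = t := by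
    rw [dG, ← ext_mul ψ (dP_mem h418) (dP_mem h418), hroot, hψ]
  have tt : t * t = 1 := by rw [← hψ, ← ext_mul ψ t_spec.2.2.2.1 t_spec.2.2.2.1, t_spec.2.2.1, ext_one]
  have tn : t ≠ 1 := fun e => t_spec.2.1 (ext_inj ψ t_spec.2.2.2.1 (one_mem _) (by rw [hψ, ext_one, e]))
  have hC : ∀ {z : G}, z ∈ centralizer ({t} : Set G) → z * t = t * z := fun hz => mem_centralizer_singleton_iff.1 hz
  -- every such conjugate has class one or is the image of the third representative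
  have key : ∀ {b : G}, b * t * b⁻¹ * t = t * (b * t * b⁻¹) → b * t * b⁻¹ ≠ t →
      ∃ k, (k = 1 ∨ k = 2) ∧ ∃ c ∈ Cm, ext' ψ c * (b * t * b⁻¹) * (ext' ψ c)⁻¹ = ext' ψ (repP k) := by
    intro b hb hbn
    obtain ⟨w, hw, ew⟩ := ext_surj ψ (mem_centralizer_singleton_iff.2 hb)
    have hw2 : w * w = 1 := ext_inj ψ (mul_mem hw hw) (one_mem _) (by
      rw [ext_mul ψ hw hw, ext_one, ew, show b * t * b⁻¹ * (b * t * b⁻¹) = b * (t * t) * b⁻¹ by group, tt]
      group)
    have hw1 : w ≠ 1 := fun e => by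
      rw [e, ext_one] at ew
      apply tn
      calc t = b⁻¹ * (b * t * b⁻¹) * b := by group
        _ = 1 := by rw [← ew]; group
    obtain ⟨k, hk, c, hc, e⟩ := inv_class hw hw2 hw1
    have hk0 : k ≠ 0 := by
      rintro rfl
      apply hbn
      refine ew.symm.trans (Eq.trans (congrArg (ext' ψ) ?_) hψ)
      calc w = c⁻¹ * (c * w * c⁻¹) * c := by group
        _ = c⁻¹ * (tP * c) := by rw [e, mul_assoc]; rfl
        _ = tP := by rw [← t_spec.2.2.2.2 c hc, inv_mul_cancel_left]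
    exact ⟨k, by omega, c, hc, by rw [← ew, ← ext_conj ψ hc hw, e]⟩
  obtain ⟨k, hk, c, hc, e⟩ := key hx hne
  rcases hk with rfl | rfl
  · exact ⟨_, ext_mem ψ hc, e⟩
  exfalso
  set g := ext' ψ c * a with hg
  have hgt : g * t * g⁻¹ = ext' ψ uP := by
    rw [hg, show ext' ψ c * a * t * (ext' ψ c * a)⁻¹ = ext' ψ c * (a * t * a⁻¹) * (ext' ψ c)⁻¹ by group, e]
    rfl
  have huC : uP ∈ Cm := (repTab_spec (k := 2) (by norm_num)).2.1
  have hut : ext' ψ uP * t = t * ext' ψ uP := hC (ext_mem ψ huC)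
  have hx' : g⁻¹ * t * g⁻¹⁻¹ * t = t * (g⁻¹ * t * g⁻¹⁻¹) := by
    calc g⁻¹ * t * g⁻¹⁻¹ * t = g⁻¹ * (t * (g * t * g⁻¹)) * g := by group
      _ = g⁻¹ * ((g * t * g⁻¹) * t) * g := by rw [hgt, hut]
      _ = _ := by group
  have hne' : g⁻¹ * t * g⁻¹⁻¹ ≠ t := fun e' => by
    have : g * t * g⁻¹ = t := by
      calc g * t * g⁻¹ = g * (g⁻¹ * t * g⁻¹⁻¹) * g⁻¹ := by rw [e']
        _ = t := by group
    exact u2 (ext_inj ψ t_spec.2.2.2.1 huC (hψ.trans (this.symm.trans hgt)))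
  obtain ⟨k, hk, d, hd, e'⟩ := key hx' hne'
  set R := ext' ψ (pP rootPath) with hR
  rcases hk with rfl | rfl
  · -- the pair is carried to the two fused involutions, so the third representative is a square
    set h := g * (ext' ψ d)⁻¹ with hh
    have h1 : h * t * h⁻¹ = ext' ψ uP := by
      have : (ext' ψ d)⁻¹ * t * ext' ψ d = t := by
        rw [mul_assoc, ← hC (ext_mem ψ hd), inv_mul_cancel_left]
      rw [hh, show g * (ext' ψ d)⁻¹ * t * (g * (ext' ψ d)⁻¹)⁻¹ = g * ((ext' ψ d)⁻¹ * t * ext' ψ d) * g⁻¹ by group,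
        this, hgt]
    have h2 : h * ext' ψ vP * h⁻¹ = t := by
      rw [show ext' ψ vP = ext' ψ (repP 1) from rfl, ← e', hh]; group
    have hz : h * dG ψ 418 * h⁻¹ ∈ centralizer ({t} : Set G) := by
      refine mem_centralizer_singleton_iff.2 ?_
      have hcv : dG ψ 418 * ext' ψ vP = ext' ψ vP * dG ψ 418 := by
        rw [dG, ← ext_mul ψ (dP_mem h418) hvC, ← ext_mul ψ hvC (dP_mem h418),
          grp_comm_v (dP 418) (dSub_valid.el_mem (dSub_size ▸ h418)).2]
      calc h * dG ψ 418 * h⁻¹ * t = h * dG ψ 418 * h⁻¹ * (h * ext' ψ vP * h⁻¹) := by rw [h2]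
        _ = h * (dG ψ 418 * ext' ψ vP) * h⁻¹ := by group
        _ = h * ext' ψ vP * h⁻¹ * (h * dG ψ 418 * h⁻¹) := by rw [hcv]; group
        _ = _ := by rw [h2]
    obtain ⟨r, hr, er⟩ := ext_surj ψ hz
    refine no_root hr (one_mem _) (ext_inj ψ (mul_mem hr hr) (by simpa using huC) ?_)
    rw [ext_mul ψ hr hr, er, inv_one, one_mul, mul_one, ← h1,
      show h * dG ψ 418 * h⁻¹ * (h * dG ψ 418 * h⁻¹) = h * (dG ψ 418 * dG ψ 418) * h⁻¹ by group, hT]
  · have hroot' := vu_ok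
    simp only [Bool.and_eq_true, Nat.beq_eq] at hroot'
    obtain ⟨⟨⟨-, hp⟩, hsq⟩, hcomm⟩ := hroot'
    have hm := (pcode_mul hp 1).1
    have er2 : pP rootPath * pP rootPath = tP := eq_of_code (mul_mem hm hm) t_spec.2.2.2.1 (by
      rw [(pcode_mul hp _).2, codeOf_pP hp, hsq]; exact (codeOf_rep t_spec.1).symm)
    have erc : uP * pP rootPath = pP rootPath * uP := eq_of_code (mul_mem huC hm) (mul_mem hm huC) (by
      have ru : Rep 9 (toP 9 276 uTab) uTab := (repTab_spec (k := 2) (by norm_num)).1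
      rw [uP, codeOf_mul ru, codeOf_pP hp, hcomm, (pcode_mul hp _).2]
      exact congrArg _ (codeOf_rep (repTab_spec (k := 2) (by norm_num)).1).symm)
    have hz : ext' ψ d * (g⁻¹ * R * g) * (ext' ψ d)⁻¹ ∈ centralizer ({t} : Set G) := by
      refine mul_mem (mul_mem (ext_mem ψ hd) (mem_centralizer_singleton_iff.2 ?_)) (inv_mem (ext_mem ψ hd))
      have hRu : R * ext' ψ uP = ext' ψ uP * R := by
        rw [hR, ← ext_mul ψ hm huC, ← ext_mul ψ huC hm, erc]
      calc g⁻¹ * R * g * t = g⁻¹ * (R * (g * t * g⁻¹)) * g := by group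
        _ = g⁻¹ * (g * t * g⁻¹ * R) * g := by rw [hgt, hRu]
        _ = _ := by group
    obtain ⟨r, hr, er⟩ := ext_surj ψ hz
    refine no_root hr (one_mem _) (ext_inj ψ (mul_mem hr hr) (by simpa using huC) ?_)
    rw [ext_mul ψ hr hr, er, inv_one, one_mul, mul_one, show ext' ψ uP = ext' ψ (repP 2) from rfl, ← e']
    have hRt : R * R = t := by rw [hR, ← ext_mul ψ hm hm, er2, hψ]
    rw [show ext' ψ d * (g⁻¹ * R * g) * (ext' ψ d)⁻¹ * (ext' ψ d * (g⁻¹ * R * g) * (ext' ψ d)⁻¹) =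
      ext' ψ d * (g⁻¹ * (R * R) * g) * (ext' ψ d)⁻¹ by group, hRt]
    group

/-- The third class is not fused to the involution. -/
theorem not_conj_u (ψ : Cm ≃* centralizer ({t} : Set G)) (hψ : ext' ψ tP = t) : ¬ IsConj t (ext' ψ uP) := by
  intro h
  obtain ⟨a, ha⟩ := isConj_iff.1 h
  have huC : uP ∈ Cm := (repTab_spec (k := 2) (by norm_num)).2.1
  obtain ⟨-, u2, -⟩ := rep_facts
  obtain ⟨c, hc, e⟩ := fused_class ψ hψ (a := a) (by rw [ha]; exact mem_centralizer_singleton_iff.1 (ext_mem ψ huC))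
    (fun e => u2 (ext_inj ψ t_spec.2.2.2.1 huC (by rw [hψ, ← ha, e])))
  obtain ⟨g, hg, rfl⟩ := ext_surj ψ hc
  rw [ha, ← ext_conj ψ hg huC] at e
  have hvC : vP ∈ Cm := (repTab_spec (k := 1) (by norm_num)).2.1
  have := ext_inj ψ (mul_mem (mul_mem hg huC) (inv_mem hg)) hvC e
  exact u_not_conj_v (g := g⁻¹) (inv_mem hg) (by rw [← this]; group)

/-- The configuration: an involution swapping two commuting conjugates and acting as a given map. -/
structure Cfg (t : G) (ψ : Cm ≃* centralizer ({t} : Set G)) (i : G) (f : ℕ → ℕ) : Prop where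
  psiT : ext' ψ tP = t
  sq : i * i = 1
  act : ∀ x < 4608, i * dG ψ x * i = dG ψ (f x)

set_option maxHeartbeats 800000 in
/-- There is a configuration with one of the two automorphisms. -/
theorem exists_cfg [Finite G] (ht : orderOf t = 2) (ψ : Cm ≃* centralizer ({t} : Set G))
    (hψ : ext' ψ tP = t) (hni : ¬ IsIsolatedInvolution t) :
    ∃ i : G, Cfg t ψ i dSg ∨ Cfg t ψ i dSgP := by
  classical
  obtain ⟨lT, lV⟩ := dT_lt
  have hT : dG ψ dTn = t := by rw [dG, dP_T.1, hψ]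
  set v := ext' ψ vP with hv
  have hV : dG ψ dVn = v := by rw [dG, dP_T.2]
  have hC : ∀ {x : G}, x ∈ centralizer ({t} : Set G) → x * t = t * x :=
    fun hx => mem_centralizer_singleton_iff.1 hx
  have hvC : vP ∈ Cm := (repTab_spec (k := 1) (by norm_num)).2.1
  have htv : t * v = v * t := (hC (ext_mem ψ hvC)).symm
  have htt : t * t = 1 := by rw [← pow_two, ← ht, pow_orderOf_eq_one]
  have hvt : v ≠ t := fun e => rep_facts.2.2.1 (ext_inj ψ t_spec.2.2.2.1 hvC (hψ.trans e.symm))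
  obtain ⟨a, ha⟩ : ∃ a : G, a * t * a⁻¹ = v := by
    simp only [IsIsolatedInvolution, not_and, not_forall] at hni
    obtain ⟨g, hgc, hgne⟩ := hni ht
    obtain ⟨c, -, hcx⟩ := fused_class ψ hψ (a := g) hgc.eq.symm hgne
    exact ⟨c * g, by rw [hv, ← hcx]; group⟩
  obtain ⟨c, hct, hcu⟩ := fused_class ψ hψ (a := a⁻¹)
    (by calc a⁻¹ * t * a⁻¹⁻¹ * t = a⁻¹ * (t * (a * t * a⁻¹)) * a := by group
          _ = a⁻¹ * ((a * t * a⁻¹) * t) * a := by rw [ha, htv]
          _ = _ := by group)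
    (fun e => hvt (by
      calc v = a * t * a⁻¹ := ha.symm
        _ = a * (a⁻¹ * t * a⁻¹⁻¹) * a⁻¹ := by rw [e]
        _ = t := by group))
  set g := c * a⁻¹ with hg
  have hgt : g * t * g⁻¹ = v := by rw [hv, ← hcu, hg]; group
  have hgv : g * v * g⁻¹ = t := by
    rw [← ha, hg, show c * a⁻¹ * (a * t * a⁻¹) * (c * a⁻¹)⁻¹ = c * t * c⁻¹ by group, hC hct, mul_inv_cancel_right]
  have himg : ∀ x, x < 4608 → ∃ n < 4608, dG ψ n = g * dG ψ x * g⁻¹ := by
    intro x hx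
    refine dG_surj ψ (mem_centralizer_singleton_iff.2 ?_) ?_
    · have h1 : dG ψ x * v = v * dG ψ x := by
        rw [hv, dG, ← ext_mul ψ (dP_mem hx) hvC, ← ext_mul ψ hvC (dP_mem hx),
          grp_comm_v (dP x) (dSub_valid.el_mem (dSub_size ▸ hx)).2]
      calc g * dG ψ x * g⁻¹ * t = g * dG ψ x * g⁻¹ * (g * v * g⁻¹) := by rw [hgv]
        _ = g * (dG ψ x * v) * g⁻¹ := by group
        _ = g * v * g⁻¹ * (g * dG ψ x * g⁻¹) := by rw [h1]; group
        _ = t * (g * dG ψ x * g⁻¹) := by rw [hgv]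
    · show g * dG ψ x * g⁻¹ * v = v * (g * dG ψ x * g⁻¹)
      calc g * dG ψ x * g⁻¹ * v = g * dG ψ x * g⁻¹ * (g * t * g⁻¹) := by rw [hgt]
        _ = g * (dG ψ x * t) * g⁻¹ := by group
        _ = g * t * g⁻¹ * (g * dG ψ x * g⁻¹) := by rw [hC (dG_mem ψ hx)]; group
        _ = v * (g * dG ψ x * g⁻¹) := by rw [hgt]
  choose! s hs hsg using himg
  have hg2 : g * g ∈ centralizer ({t} : Set G) ∧ g * g * v = v * (g * g) := by
    refine ⟨mem_centralizer_singleton_iff.2 ?_, ?_⟩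
    · calc g * g * t = g * (g * t * g⁻¹) * g := by group
        _ = g * v * g⁻¹ * (g * g) := by rw [hgt]; group
        _ = t * (g * g) := by rw [hgv]
    · calc g * g * v = g * (g * v * g⁻¹) * g := by group
        _ = g * t * g⁻¹ * (g * g) := by rw [hgv]; group
        _ = v * (g * g) := by rw [hgt]
  obtain ⟨d0, hd0, hd0g⟩ := dG_surj ψ hg2.1 hg2.2
  have H : IsSwap s :=
    { hom := ⟨hs, fun x hx y hy => by
        rw [← (dM_spec (hs x hx) (hs y hy)).2]
        refine congrArg dP (dG_inj ψ (hs _ (dM_spec hx hy).1) (dM_spec (hs x hx) (hs y hy)).1 ?_)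
        rw [hsg _ (dM_spec hx hy).1, dG_mul ψ (hs x hx) (hs y hy), hsg x hx, hsg y hy, dG_mul ψ hx hy]
        group⟩
      inj := fun x hx y hy e => by
        have := congrArg (dG ψ) e
        rw [hsg x hx, hsg y hy, mul_left_inj, mul_right_inj] at this
        exact dG_inj ψ hx hy this
      sT := dG_inj ψ (hs _ lT) lV (by rw [hsg _ lT, hT, hgt, hV])
      sV := dG_inj ψ (hs _ lV) lT (by rw [hsg _ lV, hV, hgv, hT])
      sq := ⟨d0, hd0, fun x hx => dG_inj ψ (hs _ (hs x hx)) (dCj_spec hd0 hx).1 (by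
        rw [hsg _ (hs x hx), hsg x hx, dG_cj ψ hd0 hx, hd0g]; group)⟩ }
  obtain ⟨f, hf, d, hd, e, he, hall⟩ := H.classify
  have hfh : IsHom f ∧ (∀ x < 4608, f (f x) = x) ∧ f dTn = dVn := by
    rcases hf with rfl | rfl
    · exact ⟨dSg_hom.1, dSg_hom.2, Nat.eq_of_beq_eq_true q_ok.2.2.2.2.2.2.2.2.1⟩
    · exact ⟨dSgP_hom.1, dSgP_hom.2, Nat.eq_of_beq_eq_true q_ok.2.2.2.2.2.2.2.2.2⟩
  obtain ⟨hfh, hff, hfT⟩ := hfh
  have hfV : f dVn = dTn := by rw [← hfT, hff _ lT]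
  set i := (dG ψ d)⁻¹ * g * (dG ψ e)⁻¹ with hi
  have hact : ∀ y < 4608, i * dG ψ y * i⁻¹ = dG ψ (f y) := by
    intro y hy
    obtain ⟨hie, eie⟩ := dIv_spec he
    obtain ⟨hx, ex⟩ := dCj_spec hie hy
    have hce : dCj e (dCj (dSub.iv e) y) = y := dP_inj (dCj_spec he hx).1 hy (by
      rw [(dCj_spec he hx).2, ex, eie]; group)
    have h1 : dG ψ (s (dCj (dSub.iv e) y)) = dG ψ d * dG ψ (f y) * (dG ψ d)⁻¹ := by
      rw [dG, hall _ hx, hce, ext_conj ψ (dP_mem hd) (dP_mem (hfh.lt _ hy))]; rfl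
    have h2 : dG ψ (dCj (dSub.iv e) y) = (dG ψ e)⁻¹ * dG ψ y * dG ψ e := by
      rw [dG_cj ψ hie hy, show dG ψ (dSub.iv e) = (dG ψ e)⁻¹ by rw [dG, eie, ext_inv ψ (dP_mem he)]; rfl, inv_inv]
    calc i * dG ψ y * i⁻¹ = (dG ψ d)⁻¹ * (g * ((dG ψ e)⁻¹ * dG ψ y * dG ψ e) * g⁻¹) * dG ψ d := by
          rw [hi]; group
      _ = (dG ψ d)⁻¹ * dG ψ (s (dCj (dSub.iv e) y)) * dG ψ d := by rw [hsg _ hx, h2]
      _ = dG ψ (f y) := by rw [h1]; group
  have hiT : i * t * i⁻¹ = v := by rw [← hT, hact _ lT, hfT, hV]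
  have hiV : i * v * i⁻¹ = t := by rw [← hV, hact _ lV, hfV, hT]
  have c1 : i * i * t = t * (i * i) := by
    calc i * i * t = i * (i * t * i⁻¹) * i := by group
      _ = i * v * i⁻¹ * (i * i) := by rw [hiT]; group
      _ = t * (i * i) := by rw [hiV]
  have c2 : i * i * v = v * (i * i) := by
    calc i * i * v = i * (i * v * i⁻¹) * i := by group
      _ = i * t * i⁻¹ * (i * i) := by rw [hiV]; group
      _ = v * (i * i) := by rw [hiT]
  obtain ⟨d2, hd2, hd2g⟩ := dG_surj ψ (mem_centralizer_singleton_iff.2 c1) c2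
  have hdfix : f d2 = d2 := dG_inj ψ (hfh.lt _ hd2) hd2 (by rw [← hact d2 hd2, hd2g]; group)
  have hdcen : ∀ x < 4608, dM d2 x = dM x d2 := fun x hx => by
    refine dG_inj ψ (dM_spec hd2 hx).1 (dM_spec hx hd2).1 ?_
    rw [dG_mul ψ hd2 hx, dG_mul ψ hx hd2, hd2g]
    have h2 : i * i * dG ψ x * (i * i)⁻¹ = dG ψ x := by
      calc i * i * dG ψ x * (i * i)⁻¹ = i * (i * dG ψ x * i⁻¹) * i⁻¹ := by group
        _ = dG ψ x := by rw [hact x hx, hact _ (hfh.lt x hx), hff x hx]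
    conv_rhs => rw [← h2]
    group
  have hd' : d2 = dSub.root ∨ d2 = dM dTn dVn := by
    have h := List.all_eq_true.1 centre_ok d2 (List.mem_range.2 hd2)
    simp only [Bool.or_eq_true, Bool.and_eq_true, Bool.not_eq_true', List.any_eq_true, Nat.beq_eq] at h
    rcases h with ((⟨h, h'⟩ | ⟨k, hk, h⟩) | h) | h
    · rcases hf with rfl | rfl
      · rw [hdfix, Nat.beq_refl] at h; exact Bool.noConfusion h
      · rw [hdfix, Nat.beq_refl] at h'; exact Bool.noConfusion h'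
    · rw [hdcen _ (dQk_spec (List.mem_range.1 hk)).1, Nat.beq_refl] at h; exact Bool.noConfusion h
    · exact Or.inl h
    · exact Or.inr h
  obtain ⟨j, hj, hjact⟩ : ∃ j : G, j * j = 1 ∧ ∀ y < 4608, j * dG ψ y * j⁻¹ = dG ψ (f y) := by
    rcases hd' with hd' | hd'
    · rw [hd', dG_root] at hd2g
      exact ⟨i, hd2g.symm, hact⟩
    · rw [hd', dG_mul ψ lT lV, hT, hV] at hd2g
      refine ⟨i * t, ?_, fun y hy => ?_⟩
      · calc i * t * (i * t) = i * t * i⁻¹ * (i * i) * t := by group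
          _ = v * (t * v) * t := by rw [hiT, ← hd2g]
          _ = v * (v * t) * t := by rw [htv]
          _ = 1 := by
            rw [← mul_assoc v v t, mul_assoc, htt, mul_one, hv, ← ext_mul ψ hvC hvC,
              show vP * vP = 1 from (repTab_spec (k := 1) (by norm_num)).2.2, ext_one]
      · rw [show i * t * dG ψ y * (i * t)⁻¹ = i * (t * dG ψ y * t⁻¹) * i⁻¹ by group,
          ← hC (dG_mem ψ hy), mul_inv_cancel_right, hact y hy]
  have hji : j⁻¹ = j := inv_eq_of_mul_eq_one_left hj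
  have hcfg : Cfg t ψ j f := ⟨hψ, hj, fun x hx => by
    have h := hjact x hx; rwa [hji] at h⟩
  rcases hf with rfl | rfl
  · exact ⟨j, Or.inl hcfg⟩
  · exact ⟨j, Or.inr hcfg⟩

end Cfsg.Lib.CoThreeType
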