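import Cfsg.Agent.Lib.PermAut.Sub

/-!
# Elements of a certified group are fixed by the images of the base
-/

set_option autoImplicit false

namespace Cfsg.Lib.PermAut

open Equiv

variable {b N : ℕ} [NeZero N]

theorem prodSet_fix {x : ℕ} (hx : x < N) : ∀ {tr : List (List ℕ)}, (∀ l ∈ tr, ∀ T ∈ l, Rep b (toP b N T) T) →
    (∀ l ∈ tr, ∀ T ∈ l, ent b T x = x) → ∀ h ∈ prodSet b N tr, h (⟨x, hx⟩ : Fin N) = ⟨x, hx⟩ := by
  intro tr
  induction tr with
  | nil =>
    intro _ _ h hh
    simp [prodSet] at hh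
    simp [hh]
  | cons l ls ih =>
    intro hr hf h hh
    simp only [prodSet, Finset.mem_image₂, List.mem_toFinset, List.mem_map] at hh
    obtain ⟨g, ⟨T, hT, rfl⟩, u, hu, rfl⟩ := hh
    rw [Perm.mul_apply, ih (fun m hm => hr m (List.mem_cons_of_mem _ hm))
      (fun m hm => hf m (List.mem_cons_of_mem _ hm)) u hu]
    exact Fin.ext ((hr l (List.mem_cons_self ..) T hT _).trans (hf l (List.mem_cons_self ..) T hT))

/-- Two products along separating levels agreeing on the base are equal. -/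
theorem eq_of_base : ∀ {tr : List (List ℕ)} {base : List ℕ}, (∀ x ∈ base, x < N) →
    (∀ l ∈ tr, ∀ T ∈ l, Rep b (toP b N T) T) → levelsOk b tr base = true →
    ∀ g ∈ prodSet b N tr, ∀ h ∈ prodSet b N tr,
      (∀ (x : ℕ) (hx : x < N), x ∈ base → g ⟨x, hx⟩ = h ⟨x, hx⟩) → g = h := by
  intro tr
  induction tr with
  | nil =>
    intro _ _ _ _ g hg h hh _
    simp [prodSet] at hg hh
    rw [hg, hh]
  | cons l ls ih =>
    intro base hb hr hok g hg h hh hag
    obtain _ | ⟨x, xs⟩ := base
    · simp [levelsOk] at hok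
    simp only [levelsOk, Bool.and_eq_true, List.all_eq_true, Bool.or_eq_true, Nat.beq_eq, Bool.not_eq_true'] at hok
    obtain ⟨⟨hsep, hfix⟩, hrest⟩ := hok
    have hx : x < N := hb x (List.mem_cons_self ..)
    have hrs : ∀ m ∈ ls, ∀ T ∈ m, Rep b (toP b N T) T := fun m hm => hr m (List.mem_cons_of_mem _ hm)
    have hl := hr l (List.mem_cons_self ..)
    simp only [prodSet, Finset.mem_image₂, List.mem_toFinset, List.mem_map] at hg hh
    obtain ⟨u, ⟨T, hT, rfl⟩, w, hw, rfl⟩ := hg
    obtain ⟨u', ⟨S, hS, rfl⟩, w', hw', rfl⟩ := hh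
    have e1 := hag x hx (List.mem_cons_self ..)
    rw [Perm.mul_apply, Perm.mul_apply, prodSet_fix hx hrs hfix w hw, prodSet_fix hx hrs hfix w' hw'] at e1
    have hTS : T = S := by
      refine (hsep T hT S hS).resolve_right fun hne => ?_
      have he : ent b T x = ent b S x := by
        rw [← hl T hT ⟨x, hx⟩, ← hl S hS ⟨x, hx⟩, e1]
      rw [he] at hne
      simp at hne
    subst hTS
    rw [ih (fun y hy => hb y (List.mem_cons_of_mem _ hy)) hrs hrest w hw w' hw'
      fun y hy hm => (toP b N T).injective (hag y hy (List.mem_cons_of_mem _ hm))]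

end Cfsg.Lib.PermAut
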