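import Cfsg.Agent.Lib.CoThreeType.ModelChecks
import Cfsg.Agent.Lib.CoThreeType.BaseImage
import Cfsg.Agent.Lib.PermAut.CoThree
import Cfsg.Agent.Lib.J3Type.Enum

/-!
# The centralizer of an involution in the third Conway group on 276 points
-/

set_option autoImplicit false
set_option maxRecDepth 100000

namespace Cfsg.Lib.CoThreeType

open Equiv Cfsg.Lib.PermAut Cfsg.Lib.J3Type
open scoped commutatorElement

instance : NeZero 276 := ⟨by norm_num⟩

/-- Permutations of the 276 points. -/
abbrev P276 := Perm (Fin 276)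

/-- The certified group, on 276 points. -/
noncomputable def KK : Subgroup P276 :=
  Subgroup.closure {toP 9 276 CoThree.cert.a, toP 9 276 CoThree.cert.c, toP 9 276 CoThree.cert.d}

theorem kk_model : Nonempty (↥Cfsg.Spor.Co3 ≃* ↥KK) ∧ Nat.card ↥KK = 495766656000 := by
  obtain ⟨⟨e⟩, h⟩ := CoThree.co3_model
  exact ⟨⟨e⟩, h.trans (show CoThree.cert.size = 495766656000 by decide +kernel)⟩

/-- The centralizer of the involution in the model. -/
noncomputable abbrev Cm : Subgroup P276 := centSub.grp 9 276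

theorem cm_valid : centSub.Valid 9 276 := Sub.valid cent_ok

theorem card_Cm : Nat.card Cm = 2903040 := cm_valid.card.trans cent_size

/-- The involution. -/
noncomputable def tP : P276 := toP 9 276 tTab

theorem kk_path {u : List ℕ} (hu : pathOk CoThree.cert.tr u = true) :
    ∀ S ∈ pickPath CoThree.cert.tr u, Rep 9 (toP 9 276 S) S ∧ toP 9 276 S ∈ KK := fun S hS => by
  obtain ⟨l, hl, h'⟩ := mem_of_forall₂ (forall₂_pick hu) S hS
  exact (Cert.gen_of_check CoThree.gen_check).rep l hl S h'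

theorem mem_KK {T : ℕ} {u : List ℕ} (hT : Rep 9 (toP 9 276 T) T) (hu : pathOk CoThree.cert.tr u = true)
    (hs : sameB 9 276 [T] (pickPath CoThree.cert.tr u) = true) : toP 9 276 T ∈ KK := by
  have hg := kk_path hu
  have e := eq_of_sameB (b := 9) (N := 276) (l := [T]) (by simpa using hT) (fun S hS => (hg S hS).1) hs
  rw [List.map_singleton, List.prod_singleton] at e
  rw [e]
  exact Subgroup.list_prod_mem _ fun x hx => by
    obtain ⟨S, hS, rfl⟩ := List.mem_map.1 hx
    exact (hg S hS).2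

/-- The letters as permutations. -/
noncomputable def piL (k : ℕ) : P276 := toP 9 276 (lTab.getD k 0)

theorem piL_rep {k : ℕ} (hk : k < 12) : Rep 9 (piL k) (lTab.getD k 0) ∧
    Rep 9 (toP 9 276 (lInv.getD k 0)) (lInv.getD k 0) ∧ toP 9 276 (lInv.getD k 0) = (piL k)⁻¹ := by
  have h := List.all_eq_true.1 letters_ok k (List.mem_range.2 hk)
  simp only [Bool.and_eq_true] at h
  exact rep_of_invPairOk h.1

theorem piL_mem {k : ℕ} (hk : k < 12) (h6 : k ≠ 6) : piL k ∈ Cm := by
  have h := List.all_eq_true.1 letters_ok k (List.mem_range.2 hk)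
  simp only [Bool.and_eq_true, Bool.or_eq_true, Nat.beq_eq] at h
  obtain ⟨h1, h2⟩ := h.2.resolve_left h6
  exact cm_valid.mem_of_same (piL_rep hk).1 h1 h2

theorem piL_six_sq : piL 6 * piL 6 = 1 := by
  have e := eq_of_sameB (b := 9) (N := 276) (l := [lTab.getD 6 0, lTab.getD 6 0]) (l' := [])
    (by simpa [piL] using (piL_rep (k := 6) (by norm_num)).1) (by simp) six_ok
  simpa [piL] using e

theorem t_spec : Rep 9 tP tTab ∧ tP ≠ 1 ∧ tP * tP = 1 ∧ tP ∈ Cm ∧ ∀ g ∈ Cm, g * tP = tP * g := by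
  have h := t_ok
  simp only [Bool.and_eq_true, Bool.not_eq_true'] at h
  obtain ⟨⟨⟨⟨⟨hi, hne⟩, hc0⟩, hc1⟩, hp⟩, hs⟩ := h
  obtain ⟨hR, -, hinv⟩ := rep_of_invPairOk (N := 276) hi
  refine ⟨hR, fun e => ?_, mul_eq_one_iff_eq_inv.2 hinv, cm_valid.mem_of_same hR hp hs, fun g hg => ?_⟩
  · have : sameB 9 276 [tTab] [] = true := sameB_iff.2 fun x hx => by
      have h1 := ev_rep (b := 9) (l := [tTab]) (by simpa using hR) (⟨x, hx⟩ : Fin 276)
      rw [List.map_singleton, List.prod_singleton, show toP 9 276 tTab = 1 from e] at h1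
      rw [← h1]
      simp [ev]
    rw [this] at hne
    exact Bool.noConfusion hne
  · have key : ∀ {T : ℕ}, Rep 9 (toP 9 276 T) T → sameB 9 276 [tTab, T] [T, tTab] = true →
        toP 9 276 T ∈ Subgroup.centralizer {tP} := fun {T} hT hs => by
      refine Subgroup.mem_centralizer_iff.2 fun y hy => ?_
      rw [Set.mem_singleton_iff.1 hy]
      have e := eq_of_sameB (l := [tTab, T]) (l' := [T, tTab]) (by simp [hR, hT]) (by simp [hR, hT]) hs
      simpa [tP] using e
    have hle : Cm ≤ Subgroup.centralizer {tP} := by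
      rw [Cm, Sub.grp, Subgroup.closure_le]
      rintro x (rfl | rfl)
      · exact key cm_valid.g0 hc0
      · exact key cm_valid.g1 hc1
    exact ((Subgroup.mem_centralizer_iff.1 (hle hg)) _ rfl).symm

theorem cm_le_KK : Cm ≤ KK ∧ piL 6 ∈ KK := by
  have h := top_ok
  simp only [Bool.and_eq_true] at h
  obtain ⟨⟨⟨⟨⟨p0, s0⟩, p1⟩, s1⟩, p2⟩, s2⟩ := h
  refine ⟨?_, mem_KK (piL_rep (by norm_num)).1 p2 s2⟩
  rw [Cm, Sub.grp, Subgroup.closure_le]
  rintro x (rfl | rfl)
  · exact mem_KK cm_valid.g0 p0 s0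
  · exact mem_KK cm_valid.g1 p1 s1

/-- The involution in the centralizer of the model. -/
noncomputable def tC : Cm := ⟨tP, t_spec.2.2.2.1⟩

theorem tC_commutator : tC ∈ commutator Cm := by
  have h := com_ok
  simp only [Bool.and_eq_true] at h
  obtain ⟨⟨hu, hv⟩, huv⟩ := h
  have gu := cm_valid.good_of_path hu
  have gv := cm_valid.good_of_path hv
  let U : Cm := ⟨_, cm_valid.mem_of_path hu⟩
  let W : Cm := ⟨_, cm_valid.mem_of_path hv⟩
  have e := eq_of_sameB (fun S hS => by
    rcases List.mem_append.1 hS with hS | hS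
    · exact gv S hS
    rcases List.mem_append.1 hS with hS | hS
    · exact gu S hS
    · rw [List.mem_singleton.1 hS]; exact t_spec.1)
    (fun S hS => (List.mem_append.1 hS).elim (gu S) (gv S)) huv
  simp only [List.map_append, List.prod_append, List.map_singleton, List.prod_singleton] at e
  have e' : W * (U * tC) = U * W := Subtype.ext e
  have e2 : tC = ⁅U⁻¹, W⁻¹⁆ := by
    rw [commutatorElement_def, inv_inv, inv_inv, mul_assoc _ U W, ← e']
    group
  rw [e2]
  exact Subgroup.commutator_mem_commutator (Subgroup.mem_top _) (Subgroup.mem_top _)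

/-- The images of the base, packed. -/
def codeOf (g : P276) : ℕ :=
  (g 48 : ℕ) + 512 * ((g 0 : ℕ) + 512 * ((g 1 : ℕ) + 512 * (g 2 : ℕ)))

/-- Applying a table to packed images. -/
noncomputable def stepC (T c : ℕ) : ℕ :=
  Nat.add (ent 9 T (Nat.mod c 512))
    (Nat.mul 512 (Nat.add (ent 9 T (Nat.mod (Nat.div c 512) 512))
      (Nat.mul 512 (Nat.add (ent 9 T (Nat.mod (Nat.div c 262144) 512))
        (Nat.mul 512 (ent 9 T (Nat.div c 134217728)))))))

/-- The code of the identity. -/
def codeOne : ℕ := 48 + 512 * (0 + 512 * (1 + 512 * 2))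

theorem codeOf_one : codeOf 1 = codeOne := rfl

theorem codeOf_mul {T : ℕ} (hT : Rep 9 (toP 9 276 T) T) (h : P276) :
    codeOf (toP 9 276 T * h) = stepC T (codeOf h) := by
  have a := (h 48).isLt
  have b := (h 0).isLt
  have c := (h 1).isLt
  have d := (h 2).isLt
  show _ = ent 9 T ((codeOf h) % 512) + 512 * (ent 9 T ((codeOf h) / 512 % 512) +
    512 * (ent 9 T ((codeOf h) / 262144 % 512) + 512 * ent 9 T ((codeOf h) / 134217728)))
  have e1 : codeOf h % 512 = h 48 := by unfold codeOf; omega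
  have e2 : codeOf h / 512 % 512 = h 0 := by unfold codeOf; omega
  have e3 : codeOf h / 262144 % 512 = h 1 := by unfold codeOf; omega
  have e4 : codeOf h / 134217728 = h 2 := by unfold codeOf; omega
  rw [e1, e2, e3, e4, ← hT (h 48), ← hT (h 0), ← hT (h 1), ← hT (h 2)]
  rfl

theorem eq_of_code {g h : P276} (hg : g ∈ Cm) (hh : h ∈ Cm) (e : codeOf g = codeOf h) : g = h := by
  have V := cm_valid
  rw [← SetLike.mem_coe, ← V.eq, Finset.mem_coe] at hg hh
  have hk := cent_ok
  simp only [Sub.ok, Bool.and_eq_true] at hk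
  obtain ⟨⟨-, hb⟩, hsep⟩ := hk
  refine eq_of_base (by simpa [Nat.blt] using hb) V.lev (sepOk_spec hsep).1 g hg h hh fun x hx hm => ?_
  have a := (g 48).isLt
  have b := (g 0).isLt
  have c := (g 1).isLt
  have a' := (h 48).isLt
  have b' := (h 0).isLt
  have c' := (h 1).isLt
  unfold codeOf at e
  rw [cent_base] at hm
  simp only [List.mem_cons, List.not_mem_nil, or_false] at hm
  refine Fin.ext ?_
  rcases hm with rfl | rfl | rfl | rfl
  · show (g 48 : ℕ) = h 48; omega
  · show (g 0 : ℕ) = h 0; omega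
  · show (g 1 : ℕ) = h 1; omega
  · show (g 2 : ℕ) = h 2; omega

end Cfsg.Lib.CoThreeType
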