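import Cfsg.Agent.Lib.CoThreeType.DescentPairs

/-!
# A copy of the third Conway group containing the centralizer of its first involution is everything
-/

set_option autoImplicit false
set_option maxRecDepth 100000

namespace Cfsg.Lib.CoThreeType

open Equiv Cfsg.Lib.PermAut Cfsg.Lib.J3Type

/-- Two involutions are conjugate or there is an involution commuting with both. -/
theorem conj_or_central {G : Type*} [Group G] [Finite G] {a b : G} (ha : a * a = 1) (hb : b * b = 1) :
    IsConj a b ∨ ∃ i : G, i ≠ 1 ∧ i * i = 1 ∧ i * a = a * i ∧ i * b = b * i ∧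
      (∀ K : Subgroup G, a ∈ K → b ∈ K → i ∈ K) ∧ (IsConj a (i * a) ∨ IsConj a (b * i)) := by
  have ha' : a⁻¹ = a := inv_eq_of_mul_eq_one_right ha
  have hb' : b⁻¹ = b := inv_eq_of_mul_eq_one_right hb
  have hd' : (a * b)⁻¹ = b * a := by rw [mul_inv_rev, ha', hb']
  have hconj : a * (a * b) * a = (a * b)⁻¹ := by rw [hd', ← mul_assoc, ha, one_mul]
  have hpow : ∀ j : ℕ, a * (a * b) ^ j * a = ((a * b) ^ j)⁻¹ := fun j => by
    have h := map_pow (MulAut.conj a) (a * b) j
    simp only [MulAut.conj_apply, ha'] at h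
    rw [h, hconj, inv_pow]
  have hmove : ∀ j : ℕ, (a * b) ^ j * a * ((a * b) ^ j)⁻¹ = (a * b) ^ (j + j) * a := fun j => by
    rw [← hpow j, pow_add]
    simp only [mul_assoc]
    congr 1
    rw [← mul_assoc a a, ha, one_mul]
  have hodd : ∀ j : ℕ, (a * b) ^ (2 * j + 1) = 1 → IsConj a b := fun j h => by
    refine isConj_iff.2 ⟨(a * b) ^ j, ?_⟩
    rw [hmove]
    rw [pow_succ, mul_eq_one_iff_eq_inv, hd'] at h
    rw [← two_mul, h, mul_assoc, ha, mul_one]
  rcases Nat.even_or_odd' (orderOf (a * b)) with ⟨m, hm | hm⟩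
  · right
    have hpos := orderOf_pos (a * b)
    set i := (a * b) ^ m with hi
    have hi2 : i * i = 1 := by
      rw [hi, ← pow_add, ← two_mul, ← hm, pow_orderOf_eq_one]
    have hi' : i⁻¹ = i := inv_eq_of_mul_eq_one_right hi2
    have hia : i * a = a * i := by
      have := hpow m
      rw [← hi, hi'] at this
      calc i * a = a * i * a * a := by rw [this]
        _ = a * i := by rw [mul_assoc, ha, mul_one]
    have hib : i * b = b * i := by
      have hc : i * (a * b) = a * b * i := by rw [hi, ← pow_succ, pow_succ']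
      calc i * b = a * (a * (i * b)) := by rw [← mul_assoc a a, ha, one_mul]
        _ = a * (i * (a * b)) := by rw [← mul_assoc a i b, ← hia, mul_assoc i a b]
        _ = b * i := by rw [hc, ← mul_assoc, ← mul_assoc, ha, one_mul]
    refine ⟨i, pow_ne_one_of_lt_orderOf (by omega) (by omega), hi2, hia, hib, fun K h1 h2 => pow_mem (mul_mem h1 h2) m, ?_⟩
    rcases Nat.even_or_odd' m with ⟨j, hj | hj⟩
    · refine Or.inl (isConj_iff.2 ⟨(a * b) ^ j, ?_⟩)
      rw [hmove, ← two_mul, ← hj]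
    · refine Or.inr (isConj_iff.2 ⟨(a * b) ^ j, ?_⟩)
      have h : (a * b) ^ (j + j) * (a * b) = i := by rw [hi, ← pow_succ]; congr 1; omega
      rw [hmove, eq_mul_inv_of_mul_eq h, hd', mul_assoc, mul_assoc, ha, mul_one]
      exact hib
  · exact Or.inl (hodd m (by rw [← hm, pow_orderOf_eq_one]))

/-- The first involution in the model. -/
noncomputable def tK : ↥KK := ⟨tP, cm_le_KK.1 t_spec.2.2.2.1⟩

/-- The third involution in the model. -/
noncomputable def uK : ↥KK := ⟨uP, cm_le_KK.1 u_rep.2.1⟩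

/-- The involution commuting with the third one, in the model. -/
noncomputable def aK : ↥KK := ⟨aP, cm_le_KK.1 aP_mem⟩

/-- The inclusion of the common centralizer. -/
noncomputable def incl : hTwo →* ↥KK := Subgroup.inclusion (inf_le_left.trans inf_le_left)

section

variable {G : Type*} [Group G] [Finite G] (φ : ↥KK →* G) (hφ : Function.Injective φ)
  (hC : Subgroup.centralizer ({φ tK} : Set G) ≤ φ.range)
  (hcard : Nat.card (Subgroup.centralizer ({φ tK} : Set G)) = 2903040)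
  (hne : ¬ IsConj (φ tK) (φ uK))

include hφ hcard in
theorem model_cent : ∀ g ∈ KK, g * tP = tP * g → g ∈ Cm := by
  intro g hg hgt
  let f : Cm →* G := φ.comp (Subgroup.inclusion cm_le_KK.1)
  have hf : Function.Injective f := hφ.comp (Subgroup.inclusion_injective _)
  have hle : f.range ≤ Subgroup.centralizer {φ tK} := by
    rintro _ ⟨c, rfl⟩
    refine Subgroup.mem_centralizer_singleton_iff.2 ?_
    show φ _ * φ tK = φ tK * φ _
    rw [← map_mul, ← map_mul]
    exact congrArg φ (Subtype.ext (t_spec.2.2.2.2 c c.2))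
  have heq : f.range = Subgroup.centralizer {φ tK} := by
    refine Subgroup.eq_of_le_of_card_ge hle ?_
    rw [hcard, ← Nat.card_congr (MonoidHom.ofInjective hf).toEquiv, card_Cm]
  have hm : φ ⟨g, hg⟩ ∈ f.range := by
    rw [heq, Subgroup.mem_centralizer_singleton_iff, ← map_mul, ← map_mul]
    exact congrArg φ (Subtype.ext hgt)
  obtain ⟨c, hc⟩ := hm
  have e : (c : P276) = g := congrArg Subtype.val (hφ hc)
  exact e ▸ c.2

include hne in
theorem model_not_conj : ∀ c ∈ KK, c * tP * c⁻¹ ≠ uP := fun c hc e =>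
  hne (isConj_iff.2 ⟨φ ⟨c, hc⟩, by
    rw [← map_mul, ← map_inv, ← map_mul]; exact congrArg φ (Subtype.ext e)⟩)

theorem conj_u_of_class {z : ↥KK} (hz : (z : P276) ∈ [tP * uP, tP * aP, tP * (aP * uP), aP, aP * uP]) :
    IsConj (φ uK) (φ z) := by
  obtain ⟨c, hc, e⟩ := u_class hz
  exact φ.map_isConj (isConj_iff.2 ⟨⟨c, cm_le_KK.1 hc⟩, Subtype.ext e⟩)

include hne in
theorem not_u {z : ↥KK} (hz : (z : P276) ∈ [tP * uP, tP * aP, tP * (aP * uP), aP, aP * uP]) {x : G}
    (h : IsConj (φ tK) x) (h' : IsConj (φ z) x) : False :=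
  hne (h.trans (h'.symm.trans (conj_u_of_class φ hz).symm))

theorem invol_range {x : G} (hφ : Function.Injective φ) (hx : x ∈ φ.range) (h1 : x ≠ 1) (h2 : x * x = 1) :
    ∃ m ∈ φ.range, m * φ tK * m⁻¹ = x ∨ m * φ uK * m⁻¹ = x := by
  obtain ⟨k, rfl⟩ := hx
  have k1 : (k : P276) ≠ 1 := fun e => h1 (by rw [show k = 1 from Subtype.ext e, map_one])
  have k2 : (k : P276) * k = 1 := congrArg Subtype.val (hφ ((map_mul φ k k).trans (h2.trans (map_one φ).symm)))
  obtain ⟨c, hc, e⟩ := invol_conj k.2 k1 k2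
  refine ⟨φ ⟨c, hc⟩, ⟨_, rfl⟩, e.imp (fun e => ?_) fun e => ?_⟩ <;>
    (rw [← map_mul, ← map_inv, ← map_mul]; exact congrArg φ (Subtype.ext e))

include hC in
theorem cent_conj {m x : G} (hm : m ∈ φ.range) (e : m * φ tK * m⁻¹ = x) {g : G} (hg : g * x = x * g) :
    g ∈ φ.range := by
  have h : m⁻¹ * g * m ∈ φ.range := hC (Subgroup.mem_centralizer_singleton_iff.2 (by
    calc m⁻¹ * g * m * φ tK = m⁻¹ * (g * x) * m := by rw [← e]; group
      _ = φ tK * (m⁻¹ * g * m) := by rw [hg, ← e]; group))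
  simpa [mul_assoc] using mul_mem (mul_mem hm h) (inv_mem hm)

include hφ hC hne in
theorem control {x g : G} (hx : x ∈ φ.range) (hc : IsConj (φ tK) x) (hg : g * x * g⁻¹ ∈ φ.range) :
    g ∈ φ.range := by
  have key : ∀ z ∈ φ.range, IsConj (φ tK) z → ∃ m ∈ φ.range, m * φ tK * m⁻¹ = z := fun z hz hzc => by
    obtain ⟨d, hd⟩ := isConj_iff.1 hzc
    have ht2 : φ tK * φ tK = 1 := by
      rw [← map_mul, show tK * tK = 1 from Subtype.ext t_spec.2.2.1, map_one]
    obtain ⟨m, hm, e | e⟩ := invol_range φ hφ hz (fun h1 => t_spec.2.1 (congrArg Subtype.val (hφ (show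
        φ tK = φ 1 by rw [map_one]; exact (conj_eq_one_iff.1 (hd.trans h1))))))
      (by rw [← hd, show d * φ tK * d⁻¹ * (d * φ tK * d⁻¹) = d * (φ tK * φ tK) * d⁻¹ by group, ht2]; group)
    · exact ⟨m, hm, e⟩
    · exact absurd (hzc.trans (isConj_iff.2 ⟨m, e⟩).symm) hne
  obtain ⟨m, hm, e⟩ := key x hx hc
  obtain ⟨m', hm', e'⟩ := key _ hg (hc.trans (isConj_iff.2 ⟨g, rfl⟩))
  have h : m'⁻¹ * g * m ∈ φ.range := hC (Subgroup.mem_centralizer_singleton_iff.2 (by
    calc m'⁻¹ * g * m * φ tK = m'⁻¹ * (g * (m * φ tK * m⁻¹) * g⁻¹) * (g * m) := by group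
      _ = m'⁻¹ * (m' * φ tK * m'⁻¹) * (g * m) := by rw [e, e']
      _ = φ tK * (m'⁻¹ * g * m) := by group))
  simpa [mul_assoc] using mul_mem (mul_mem hm' h) (inv_mem hm)

include hφ hC hcard hne in
/-- The common centralizer of the two involutions of the third class lies in the copy. -/
theorem pair_cent_le : Subgroup.centralizer ({φ uK} : Set G) ⊓ Subgroup.centralizer {φ aK} ≤ φ.range := by
  classical
  set X : Subgroup G := Subgroup.centralizer ({φ uK} : Set G) ⊓ Subgroup.centralizer {φ aK} with hX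
  have hCm := model_cent φ hφ hcard
  have hu := model_not_conj φ hne
  let ψ : hTwo →* G := φ.comp incl
  have hψX : ∀ n, ψ n ∈ X := fun n => by
    obtain ⟨-, h1, h2⟩ := mem_hTwo.1 n.2
    refine ⟨Subgroup.mem_centralizer_singleton_iff.2 ?_, Subgroup.mem_centralizer_singleton_iff.2 ?_⟩
    · show φ _ * φ uK = φ uK * φ _
      rw [← map_mul, ← map_mul]; exact congrArg φ (Subtype.ext h1)
    · show φ _ * φ aK = φ aK * φ _
      rw [← map_mul, ← map_mul]; exact congrArg φ (Subtype.ext h2)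
  have hψ : ∀ g ∈ φ.range, g ∈ X → ∃ n, ψ n = g := by
    rintro _ ⟨k, rfl⟩ ⟨h1, h2⟩
    replace h1 := Subgroup.mem_centralizer_singleton_iff.1 h1
    replace h2 := Subgroup.mem_centralizer_singleton_iff.1 h2
    rw [← map_mul, ← map_mul] at h1 h2
    exact ⟨⟨k, mem_hTwo.2 ⟨k.2, congrArg Subtype.val (hφ h1), congrArg Subtype.val (hφ h2)⟩⟩, rfl⟩
  let T : X := ⟨ψ tH, hψX tH⟩
  let H : Subgroup X := φ.range.subgroupOf X
  let S : Subgroup X := Subgroup.centralizer {T}
  have hTv : (T : G) = φ tK := rfl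
  have hT2 : T * T = 1 := Subtype.ext (show ψ tH * ψ tH = 1 by rw [← map_mul, tH_sq, map_one])
  have hSH : S ≤ H := fun s hs => Subgroup.mem_subgroupOf.2 (hC (Subgroup.mem_centralizer_singleton_iff.2
    (congrArg Subtype.val (Subgroup.mem_centralizer_singleton_iff.1 hs))))
  have hconj : ∀ g : X, IsConj (φ tK) ((g * T * g⁻¹ : X) : G) := fun g => isConj_iff.2 ⟨g, rfl⟩
  have hcoset : ∀ g g' : X, g * T * g⁻¹ = g' * T * g'⁻¹ ↔ (g : X ⧸ S) = g' := fun g g' => by
    rw [QuotientGroup.eq, Subgroup.mem_centralizer_singleton_iff]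
    constructor
    · intro e
      calc g⁻¹ * g' * T = g⁻¹ * (g' * T * g'⁻¹) * g' := by group
        _ = T * (g⁻¹ * g') := by rw [← e]; group
    · intro e
      calc g * T * g⁻¹ = g * (T * (g⁻¹ * g')) * g'⁻¹ := by group
        _ = g' * T * g'⁻¹ := by rw [← e]; group
  let F : X ⧸ S → X ⧸ H := Quotient.lift (fun g : X => ((g * T * g⁻¹ : X) : X ⧸ H))
    (fun g g' h => congrArg _ ((hcoset g g').2 (Quotient.sound h)))
  haveI : Fintype (X ⧸ S) := Fintype.ofFinite _
  haveI : Fintype (X ⧸ H) := Fintype.ofFinite _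
  let one : X ⧸ H := ((1 : X) : X ⧸ H)
  have hfib1 : (Finset.univ.filter fun q => F q = one).card ≤ Nat.card (H ⧸ S.subgroupOf H) := by
    have hmem : ∀ q ∈ Finset.univ.filter (fun q => F q = one), ∃ h : H, ((h : X) : X ⧸ S) = q := fun q hq => by
      obtain ⟨g, rfl⟩ := QuotientGroup.mk_surjective q
      have hh : (g * T * g⁻¹ : X) ∈ H := by
        have := QuotientGroup.eq.1 (show ((g * T * g⁻¹ : X) : X ⧸ H) = ((1 : X) : X ⧸ H) from
          (Finset.mem_filter.1 hq).2)
        simpa using inv_mem this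
      exact ⟨⟨g, Subgroup.mem_subgroupOf.2 (control φ hφ hC hne ⟨tK, rfl⟩ (IsConj.refl _)
        (Subgroup.mem_subgroupOf.1 hh))⟩, rfl⟩
    choose h hh using hmem
    rw [← Fintype.card_coe, ← Nat.card_eq_fintype_card]
    refine Nat.card_le_card_of_injective (fun q => ((h q q.2 : H) : H ⧸ S.subgroupOf H)) fun q r e => ?_
    refine Subtype.ext ?_
    rw [← hh q q.2, ← hh r r.2]
    exact QuotientGroup.eq.2 (Subgroup.mem_subgroupOf.1 (QuotientGroup.eq.1 e))
  have hfib : ∀ c : X ⧸ H, c ≠ one → (Finset.univ.filter fun q => F q = c).card ≤ 14 := by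
    intro c hc
    by_cases hemp : (Finset.univ.filter fun q => F q = c) = ∅
    · simp [hemp]
    obtain ⟨q0, hq0⟩ := Finset.nonempty_of_ne_empty hemp
    obtain ⟨g0, rfl⟩ := QuotientGroup.mk_surjective q0
    set A : X := g0 * T * g0⁻¹ with hA
    have hAc : ((A : X) : X ⧸ H) = c := (Finset.mem_filter.1 hq0).2
    have hA2 : A * A = 1 := by
      rw [hA, show g0 * T * g0⁻¹ * (g0 * T * g0⁻¹) = g0 * (T * T) * g0⁻¹ by group, hT2]; group
    have hAi : A⁻¹ = A := inv_eq_of_mul_eq_one_right hA2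
    have hAM : (A : G) ∉ φ.range := fun h => hc (by
      rw [← hAc]; exact QuotientGroup.eq.2 (by rw [mul_one]; exact inv_mem (Subgroup.mem_subgroupOf.2 h)))
    let D : Subgroup hTwo := (φ.range.map (MulAut.conj (A : G)).toMonoidHom).comap ψ
    have hD : ∀ n, n ∈ D ↔ (A : G) * ψ n * (A : G)⁻¹ ∈ φ.range := fun n => by
      have hAA : (A : G) * A = 1 := congrArg Subtype.val hA2
      have hAI : (A : G)⁻¹ = A := congrArg Subtype.val hAi
      constructor
      · rintro ⟨m, hm, e⟩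
        have e' : (A : G) * m * (A : G)⁻¹ = ψ n := e
        rw [← e', hAI, show (A : G) * (A * m * A) * A = (A * A) * m * (A * A) by group, hAA, one_mul, mul_one]
        exact hm
      · intro h
        refine ⟨_, h, ?_⟩
        show (A : G) * (A * ψ n * (A : G)⁻¹) * (A : G)⁻¹ = ψ n
        rw [hAI, show (A : G) * (A * ψ n * A) * A = (A * A) * ψ n * (A * A) by group, hAA, one_mul, mul_one]
    have hP : pTwo ≤ D := fun p hp => by
      rw [hD]
      have hc1 : (A : G) * ψ p = ψ p * A := by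
        have hle : pTwo.map ψ ≤ Subgroup.centralizer {(A : G)} := by
          rw [pTwo, MonoidHom.map_closure, Subgroup.closure_le]
          rintro _ ⟨x, rfl | rfl, rfl⟩
          · exact Subgroup.mem_centralizer_singleton_iff.2
              (Subgroup.mem_centralizer_singleton_iff.1 A.2.1).symm
          · exact Subgroup.mem_centralizer_singleton_iff.2
              (Subgroup.mem_centralizer_singleton_iff.1 A.2.2).symm
        exact (Subgroup.mem_centralizer_singleton_iff.1 (hle (Subgroup.mem_map_of_mem ψ hp))).symm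
      rw [hc1, mul_inv_cancel_right]
      exact ⟨incl p, rfl⟩
    have hav : ∀ n ∈ D, ∀ d : hTwo, piH n ≠ piH (d * tH * d⁻¹) := fun n hn d e => by
      have hk : n⁻¹ * (d * tH * d⁻¹) ∈ pTwo := by
        rw [← ker_eq hCm hu, MonoidHom.mem_ker, map_mul, map_inv, e, inv_mul_cancel]
      have hf := (hD _).1 (mul_mem hn (hP hk))
      rw [mul_inv_cancel_left] at hf
      exact hAM (control φ hφ hC hne ⟨incl _, rfl⟩
        (isConj_iff.2 ⟨ψ d, by simp only [map_mul, map_inv]; rfl⟩) hf)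
    have hmem : ∀ q ∈ Finset.univ.filter (fun q => F q = c),
        ∃ g : X, ∃ n ∈ D, (g : X ⧸ S) = q ∧ ψ n = ((A * (g * T * g⁻¹) : X) : G) := fun q hq => by
      obtain ⟨g, rfl⟩ := QuotientGroup.mk_surjective q
      have hg : ((g * T * g⁻¹ : X) : X ⧸ H) = c := (Finset.mem_filter.1 hq).2
      have hh := Subgroup.mem_subgroupOf.1 (QuotientGroup.eq.1 (hAc.trans hg.symm))
      rw [hAi] at hh
      obtain ⟨n, hn⟩ := hψ _ hh (A * (g * T * g⁻¹)).2
      refine ⟨g, n, (hD n).2 ?_, rfl, hn⟩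
      rw [hn]
      have hB : (g * T * g⁻¹) * (g * T * g⁻¹) = 1 := by
        rw [show g * T * g⁻¹ * (g * T * g⁻¹) = g * (T * T) * g⁻¹ by group, hT2]; group
      have e : A * (A * (g * T * g⁻¹)) * A⁻¹ = (A * (g * T * g⁻¹))⁻¹ := by
        rw [hAi]
        generalize g * T * g⁻¹ = B at hB ⊢
        rw [← mul_assoc A A, hA2, one_mul, mul_inv_rev, hAi, inv_eq_of_mul_eq_one_right hB]
      have h' : ((A * (A * (g * T * g⁻¹)) * A⁻¹ : X) : G) ∈ φ.range := by rw [e]; exact inv_mem hh
      exact h'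
    choose g n hn hgq hgn using hmem
    refine le_trans ?_ (avoid_card hCm hu D hav)
    rw [← Fintype.card_coe, ← Nat.card_eq_fintype_card]
    refine Nat.card_le_card_of_injective
      (fun q => (⟨piH (n q q.2), Subgroup.mem_map_of_mem _ (hn q q.2)⟩ : ↥(D.map piH))) fun q r e => ?_
    have e' : piH (n q q.2) = piH (n r r.2) := congrArg Subtype.val e
    have hk : (n q q.2)⁻¹ * n r r.2 ∈ pTwo := by
      rw [← ker_eq hCm hu, MonoidHom.mem_ker, map_mul, map_inv, e', inv_mul_cancel]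
    set p := (n q q.2)⁻¹ * n r r.2 with hp
    set g1 := g q q.2
    set g2 := g r r.2
    have eB : g1 * T * g1⁻¹ * ⟨ψ p, hψX p⟩ = g2 * T * g2⁻¹ := by
      refine Subtype.ext (mul_left_cancel (a := (A : G)) ?_)
      show (A : G) * ((g1 * T * g1⁻¹ : X) * ψ p) = _
      rw [← mul_assoc, ← Subgroup.coe_mul, ← hgn q q.2, ← map_mul, hp, mul_inv_cancel_left, hgn r r.2]
      rfl
    by_cases hp1 : p = 1
    · refine Subtype.ext ?_
      rw [← hgq q q.2, ← hgq r r.2]
      refine (hcoset g1 g2).1 ?_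
      rw [← eB, show (⟨ψ p, hψX p⟩ : X) = 1 from Subtype.ext (by simp [hp1]), mul_one]
    exfalso
    have hz : (incl (tH * p) : P276) ∈ [tP * uP, tP * aP, tP * (aP * uP), aP, aP * uP] := by
      show tP * (p : P276) ∈ _
      rcases pTwo_cases hk with h | h | h | h
      · exact absurd (Subtype.ext h) hp1
      all_goals simp [h]
    refine not_u φ hne hz (hconj g2) ?_
    refine isConj_iff.2 ⟨(g1 : G), ?_⟩
    have hc1 : (g1 : G)⁻¹ * ψ p = ψ p * (g1 : G)⁻¹ := by
      have hle : pTwo.map ψ ≤ Subgroup.centralizer {((g1 : G))⁻¹} := by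
        rw [pTwo, MonoidHom.map_closure, Subgroup.closure_le]
        rintro _ ⟨x, rfl | rfl, rfl⟩
        · exact Subgroup.mem_centralizer_singleton_iff.2
            (Subgroup.mem_centralizer_singleton_iff.1 (inv_mem g1.2.1)).symm
        · exact Subgroup.mem_centralizer_singleton_iff.2
            (Subgroup.mem_centralizer_singleton_iff.1 (inv_mem g1.2.2)).symm
      exact (Subgroup.mem_centralizer_singleton_iff.1 (hle (Subgroup.mem_map_of_mem ψ hk))).symm
    rw [← eB]
    show (g1 : G) * ψ (tH * p) * (g1 : G)⁻¹ = (g1 : G) * ψ tH * (g1 : G)⁻¹ * ψ p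
    rw [map_mul]
    simp only [mul_assoc]
    rw [hc1]
  obtain ⟨cc, hcc⟩ := fifteen
  have h15 : 15 ≤ Nat.card (H ⧸ S.subgroupOf H) := by
    refine le_of_eq_of_le (Nat.card_fin 15).symm (Nat.card_le_card_of_injective
      (fun k => ((⟨⟨ψ (cc k), hψX _⟩, Subgroup.mem_subgroupOf.2 ⟨incl (cc k), rfl⟩⟩ : H) : H ⧸ S.subgroupOf H))
      fun i j e => hcc ?_)
    have e1 := (hcoset ⟨ψ (cc i), hψX _⟩ ⟨ψ (cc j), hψX _⟩).2
      (QuotientGroup.eq.2 (Subgroup.mem_subgroupOf.1 (QuotientGroup.eq.1 e)))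
    have e2 : ψ (cc i * tH * (cc i)⁻¹) = ψ (cc j * tH * (cc j)⁻¹) := by
      simp only [map_mul, map_inv]; exact congrArg Subtype.val e1
    exact (hφ.comp (Subgroup.inclusion_injective _)) e2
  have hcnt : Nat.card (X ⧸ S) = Nat.card (X ⧸ H) * Nat.card (H ⧸ S.subgroupOf H) := by
    rw [← Nat.card_prod]; exact Nat.card_congr (Subgroup.quotientEquivProdOfLE hSH)
  have hle : Nat.card (X ⧸ S) ≤ Nat.card (H ⧸ S.subgroupOf H) + 14 * (Nat.card (X ⧸ H) - 1) := by
    rw [Nat.card_eq_fintype_card, ← Finset.card_univ,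
      Finset.card_eq_sum_card_fiberwise (f := F) (t := Finset.univ) (fun _ _ => Finset.mem_univ _),
      ← Finset.add_sum_erase _ _ (Finset.mem_univ one)]
    refine Nat.add_le_add hfib1 ((Finset.sum_le_card_nsmul _ _ 14 fun c hc => hfib c (Finset.ne_of_mem_erase hc)).trans ?_)
    rw [Finset.card_erase_of_mem (Finset.mem_univ one), Finset.card_univ, smul_eq_mul, Nat.card_eq_fintype_card,
      Nat.mul_comm]
  have hidx : Nat.card (X ⧸ H) = 1 := by
    set N := Nat.card (X ⧸ H) with hN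
    set n0 := Nat.card (H ⧸ S.subgroupOf H)
    have hpos : 0 < N := Nat.card_pos
    by_contra hne1
    obtain ⟨k, hk⟩ : ∃ k, N = k + 2 := ⟨N - 2, by omega⟩
    rw [hcnt, hk, show k + 2 - 1 = k + 1 by omega] at hle
    nlinarith
  intro x hx
  have htop : H = ⊤ := Subgroup.index_eq_one.1 hidx
  exact Subgroup.mem_subgroupOf.1 (htop ▸ Subgroup.mem_top (⟨x, hx⟩ : X) : (⟨x, hx⟩ : X) ∈ H)

include hφ hC hcard hne in
/-- The centralizer of the third involution lies in the copy. -/
theorem u_cent_le : Subgroup.centralizer ({φ uK} : Set G) ≤ φ.range := by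
  intro g hg
  have hgu := Subgroup.mem_centralizer_singleton_iff.1 hg
  have hCm := model_cent φ hφ hcard
  have hu := model_not_conj φ hne
  have hT2 : φ tK * φ tK = 1 := by
    rw [← map_mul, show tK * tK = 1 from Subtype.ext t_spec.2.2.1, map_one]
  have ha2 : φ aK * φ aK = 1 := by
    rw [← map_mul, show aK * aK = 1 from Subtype.ext named_spec.2.1, map_one]
  have htu : φ tK * φ uK = φ uK * φ tK := by
    rw [← map_mul, ← map_mul]; exact congrArg φ (Subtype.ext tu_comm.1)
  have hau : φ aK * φ uK = φ uK * φ aK := by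
    rw [← map_mul, ← map_mul]; exact congrArg φ (Subtype.ext au_comm)
  refine control φ hφ hC hne ⟨tK, rfl⟩ (IsConj.refl _) ?_
  by_contra hM
  set a := g * φ tK * g⁻¹ with ha
  have hac : IsConj (φ tK) a := isConj_iff.2 ⟨g, rfl⟩
  have haC : a ∈ Subgroup.centralizer {φ uK} :=
    mul_mem (mul_mem hg (Subgroup.mem_centralizer_singleton_iff.2 htu)) (inv_mem hg)
  have hau' := Subgroup.mem_centralizer_singleton_iff.1 haC
  have haa : a * a = 1 := by
    rw [ha, show g * φ tK * g⁻¹ * (g * φ tK * g⁻¹) = g * (φ tK * φ tK) * g⁻¹ by group, hT2]; group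
  rcases conj_or_central haa ha2 with h | ⟨i, hi1, hi2, hia, hib, hcl, hor⟩
  · exact not_u φ hne (z := aK) (by simp [aK]) (hac.trans h) (IsConj.refl _)
  by_cases hiy : i = φ uK
  · subst hiy
    rcases hor with h | h
    · refine not_u φ hne (z := tK * uK) (by show tP * uP ∈ _; simp) (hac.trans h) (isConj_iff.2 ⟨g, ?_⟩)
      rw [map_mul, htu, ha, ← mul_assoc, hgu]
      group
    · exact not_u φ hne (z := aK * uK) (by show aP * uP ∈ _; simp) (hac.trans h) (by rw [map_mul])
  have hiX : i ∈ Subgroup.centralizer {φ uK} := hcl _ haC (Subgroup.mem_centralizer_singleton_iff.2 hau)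
  have hiu := Subgroup.mem_centralizer_singleton_iff.1 hiX
  obtain ⟨k0, hk0⟩ := pair_cent_le φ hφ hC hcard hne
    (x := i) ⟨hiX, Subgroup.mem_centralizer_singleton_iff.2 hib⟩
  subst hk0
  have hk : (k0 : P276) ∈ hTwo := mem_hTwo.2 ⟨k0.2, congrArg Subtype.val (hφ ((map_mul φ k0 uK).trans (hiu.trans (map_mul φ uK k0).symm))),
    congrArg Subtype.val (hφ ((map_mul φ k0 aK).trans (hib.trans (map_mul φ aK k0).symm)))⟩
  set n : hTwo := ⟨k0, hk⟩
  have hn2 : n * n = 1 := Subtype.ext (show (k0 : P276) * k0 = 1 from congrArg Subtype.val (hφ ((map_mul φ k0 k0).trans (hi2.trans (map_one φ).symm))))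
  obtain ⟨c, hct⟩ := invol_into_s hCm hu hn2
  set w := c * n * c⁻¹ with hw
  have hw1 : (w : P276) ≠ 1 := fun e => hi1 (by
    have : n = 1 := conj_eq_one_iff.1 (Subtype.ext e : c * n * c⁻¹ = 1)
    rw [show k0 = 1 from Subtype.ext (show (k0 : P276) = 1 by have h := congrArg Subtype.val this; exact h), map_one])
  have hw2 : (w : P276) * w = 1 := by
    have : w * w = 1 := by rw [hw, show c * n * c⁻¹ * (c * n * c⁻¹) = c * (n * n) * c⁻¹ by group, hn2]; group
    exact congrArg Subtype.val this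
  obtain ⟨hwK, hwu, hwa⟩ := mem_hTwo.1 w.2
  obtain ⟨hcK, hcu, hca⟩ := mem_hTwo.1 c.2
  have hwi : φ (incl c) * φ k0 * (φ (incl c))⁻¹ = φ (incl w) := by
    rw [← map_inv, ← map_mul, ← map_mul]; rfl
  have hcy : φ (incl c) * φ uK = φ uK * φ (incl c) := by
    rw [← map_mul, ← map_mul]; exact congrArg φ (Subtype.ext hcu)
  set C := φ (incl c) with hCd
  have hback : φ k0 = C⁻¹ * φ (incl w) * C := by rw [← hwi]; group
  have hCy : C⁻¹ * φ uK * C = φ uK := by rw [mul_assoc, ← hcy, inv_mul_cancel_left]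
  have hback2 : φ k0 * φ uK = C⁻¹ * (φ (incl w) * φ uK) * C := by
    calc φ k0 * φ uK = (C⁻¹ * φ (incl w) * C) * (C⁻¹ * φ uK * C) := by rw [hback, hCy]
      _ = _ := by group
  rcases s_kind (hCm _ hwK (congrArg Subtype.val hct)) hwu hwa hw1 hw2 with h | ⟨d, hd, h⟩ | ⟨d, hd, hdu, h⟩
  · refine hiy ?_
    rw [hback, show incl w = uK from Subtype.ext h, hCy]
  · have hD : φ ⟨d, hd⟩ * φ tK * (φ ⟨d, hd⟩)⁻¹ = φ (incl w) ∨
        φ ⟨d, hd⟩ * φ tK * (φ ⟨d, hd⟩)⁻¹ = φ (incl w) * φ uK := by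
      rw [← map_inv, ← map_mul, ← map_mul, ← map_mul]
      exact h.imp (fun h => congrArg φ (Subtype.ext h)) fun h => congrArg φ (Subtype.ext h)
    have hmem : C⁻¹ * φ ⟨d, hd⟩ ∈ φ.range := mul_mem (inv_mem ⟨_, rfl⟩) ⟨_, rfl⟩
    rcases hD with hD | hD
    · refine hM (cent_conj φ hC hmem ?_ hia.symm)
      rw [hback, ← hD]; group
    · refine hM (cent_conj φ hC hmem (x := φ k0 * φ uK) ?_ ?_)
      · rw [hback2, ← hD]; group
      · rw [← mul_assoc, ← hia, mul_assoc, hau', mul_assoc]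
  · set k := C⁻¹ * φ ⟨d, hd⟩ with hk'
    have hky : k * φ uK = φ uK * k := by
      rw [hk', mul_assoc, ← map_mul, show (⟨d, hd⟩ : ↥KK) * uK = uK * ⟨d, hd⟩ from Subtype.ext hdu, map_mul,
        ← mul_assoc, ← mul_assoc]
      congr 1
      rw [eq_comm, eq_inv_mul_iff_mul_eq, ← mul_assoc, hcy, mul_inv_cancel_right]
    have hD : k * φ aK * k⁻¹ = φ k0 ∨ k * φ aK * k⁻¹ = φ k0 * φ uK := by
      refine h.imp (fun h => ?_) fun h => ?_
      · rw [hback, show incl w = ⟨d, hd⟩ * aK * ⟨d, hd⟩⁻¹ from Subtype.ext h.symm, hk']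
        simp only [map_mul, map_inv]
        group
      · rw [hback2, ← map_mul φ (incl w), show incl w * uK = ⟨d, hd⟩ * aK * ⟨d, hd⟩⁻¹ from Subtype.ext h.symm, hk']
        simp only [map_mul, map_inv]
        group
    have hkr : k ∈ φ.range := mul_mem (inv_mem ⟨_, rfl⟩) ⟨_, rfl⟩
    have hax : a * (k * φ aK * k⁻¹) = k * φ aK * k⁻¹ * a := by
      rcases hD with hD | hD <;> rw [hD]
      · exact hia.symm
      · rw [← mul_assoc, ← hia, mul_assoc, hau', mul_assoc]
    have hin : k⁻¹ * a * k ∈ φ.range := by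
      refine pair_cent_le φ hφ hC hcard hne ⟨Subgroup.mem_centralizer_singleton_iff.2 ?_,
        Subgroup.mem_centralizer_singleton_iff.2 ?_⟩
      · calc k⁻¹ * a * k * φ uK = k⁻¹ * (a * φ uK) * k := by rw [mul_assoc _ k, hky]; group
          _ = k⁻¹ * (φ uK * a) * k := by rw [hau']
          _ = φ uK * (k⁻¹ * a * k) := by
            rw [← mul_assoc k⁻¹, show k⁻¹ * φ uK = φ uK * k⁻¹ by
              rw [inv_mul_eq_iff_eq_mul, ← mul_assoc, hky, mul_inv_cancel_right]]
            group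
      · calc k⁻¹ * a * k * φ aK = k⁻¹ * (a * (k * φ aK * k⁻¹)) * k := by group
          _ = φ aK * (k⁻¹ * a * k) := by rw [hax]; group
    refine hM ?_
    simpa [mul_assoc] using mul_mem (mul_mem hkr hin) (inv_mem hkr)

include hφ hC hcard hne in
/-- A copy of the model containing the centralizer of its first involution is the whole group. -/
theorem range_eq_top : φ.range = ⊤ := by
  refine eq_top_iff.2 fun g _ => control φ hφ hC hne ⟨tK, rfl⟩ (IsConj.refl _) ?_
  by_contra hM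
  set a := g * φ tK * g⁻¹ with ha
  have hac : IsConj (φ tK) a := isConj_iff.2 ⟨g, rfl⟩
  have haa : a * a = 1 := by
    rw [ha, show g * φ tK * g⁻¹ * (g * φ tK * g⁻¹) = g * (φ tK * φ tK) * g⁻¹ by group, ← map_mul,
      show tK * tK = 1 from Subtype.ext t_spec.2.2.1, map_one]
    group
  have hu2 : φ uK * φ uK = 1 := by rw [← map_mul, show uK * uK = 1 from Subtype.ext u_rep.2.2, map_one]
  have hyC := u_cent_le φ hφ hC hcard hne
  rcases conj_or_central haa hu2 with h | ⟨i, hi1, hi2, hia, hib, -, -⟩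
  · exact hne (hac.trans h)
  have hi : i ∈ φ.range := hyC (Subgroup.mem_centralizer_singleton_iff.2 hib)
  obtain ⟨m, hm, e | e⟩ := invol_range φ hφ hi hi1 hi2
  · exact hM (cent_conj φ hC hm e hia.symm)
  · refine hM ?_
    have hc : m⁻¹ * a * m ∈ φ.range := hyC (Subgroup.mem_centralizer_singleton_iff.2 (by
      calc m⁻¹ * a * m * φ uK = m⁻¹ * (a * i) * m := by rw [← e]; group
        _ = φ uK * (m⁻¹ * a * m) := by rw [← hia, ← e]; group))
    simpa [mul_assoc] using mul_mem (mul_mem hm hc) (inv_mem hm)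

end

end Cfsg.Lib.CoThreeType
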