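import Cfsg.Agent.Lib.CoThreeType.TwistChecks

/-!
# The twisted automorphism is not induced
-/

set_option autoImplicit false
set_option maxRecDepth 100000

namespace Cfsg.Lib.CoThreeType

open Equiv Cfsg.Lib.PermAut Cfsg.Lib.J3Type Subgroup

theorem killSub_valid : killSub.Valid :=
  ⟨killSub_gens.1, killSub_gens.2.1, fun _ hx =>
    killSub.node_of_nodes killSub_nodes (Nat.zero_le _) (killSub_gens.2.2.1 ▸ hx)⟩

variable {G : Type*} [Group G] [Finite G] {t i : G} {ψ : Cm ≃* centralizer ({t} : Set G)}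

/-- The twisted configuration collapses. -/
theorem Cfg.no_twist (H : Cfg t ψ i dSgP) : False := by
  obtain ⟨V, hm⟩ := killLts_ok
  set g := gT ψ i killLts with hg
  have hfull := full_val H dSgP_hom.1 V ex_ok killFull_ok
  rw [hm] at hfull
  have hrules := rules_val killRules_ok hfull
  let K0 : Subgroup G := closure {y | ∃ s ∈ killCert.subs, lval g s = y}
  have hV : Valid killCert g K0 :=
    ⟨fun ws hws w hw => hrules w (List.mem_flatten.2 ⟨ws, hws, hw⟩), fun s hs => subset_closure ⟨s, hs, rfl⟩⟩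
  have hlen : killSub.gens.length = 2 := killSub_gens.2.2.2.1
  have hgen : ∀ k < 2, killLts.pi (4 + k) = killSub.gP k := fun k hk => by
    have h := Nat.eq_of_beq_eq_true (List.all_eq_true.1 killSub_gens.2.2.2.2 k (List.mem_range.2 hk))
    show (if 4 + k = killLts.m then _ else _) = _
    rw [if_neg (by omega), Num.gP, Num.gT, h]
    rfl
  have hK : ∀ x ∈ K0, ∃ p ∈ killSub.grp, x = ext' ψ p := by
    intro x hx
    induction hx using closure_induction with
    | mem y hy =>
      obtain ⟨s, hs, rfl⟩ := hy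
      rw [show killCert.subs = [8, 10] from rfl] at hs
      simp only [List.mem_cons, List.not_mem_nil, or_false] at hs
      obtain ⟨k, hk, rfl⟩ : ∃ k < 2, s = 2 * (4 + k) := by
        rcases hs with rfl | rfl
        exacts [⟨0, by norm_num, rfl⟩, ⟨1, by norm_num, rfl⟩]
      refine ⟨killSub.gP k, subset_closure ⟨k, hlen.symm ▸ hk, rfl⟩, ?_⟩
      unfold lval idL
      rw [if_neg (by omega), if_pos (by omega), show 2 * (4 + k) / 2 = 4 + k by omega, hg, gT,
        if_neg (by omega), hgen k hk]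
    | one => exact ⟨1, one_mem _, (ext_one ψ).symm⟩
    | mul a b _ _ ha hb =>
      obtain ⟨p, hp, rfl⟩ := ha
      obtain ⟨q, hq, rfl⟩ := hb
      exact ⟨p * q, mul_mem hp hq, (ext_mul ψ (killSub_valid.grp_le hp) (killSub_valid.grp_le hq)).symm⟩
    | inv a _ ha =>
      obtain ⟨p, hp, rfl⟩ := ha
      exact ⟨p⁻¹, inv_mem hp, (ext_inv ψ (killSub_valid.grp_le hp)).symm⟩
  have hmem : lval g 2 ∈ closure {y | ∃ j < killCert.gens.length, lval g (killCert.gens.getD j idL) = y} :=
    subset_closure ⟨0, by decide, rfl⟩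
  obtain ⟨c, hc, hcm⟩ := mem_cover hV killCert_fact_ok killCert_live_zero killCert_row_ok (by decide) hmem
  rw [show killCert.nLive = 1 from rfl] at hc
  obtain rfl : c = 0 := by omega
  rw [killCert_live_zero, show rep killCert g 0 = 1 from rfl, inv_one, mul_one] at hcm
  obtain ⟨p, hp, e⟩ := hK _ hcm
  obtain ⟨r1, -, -, r4⟩ := Lts.pi_spec V (k := 1) (by omega)
  have e1 : lval g 2 = ext' ψ (killLts.pi 1) := by
    rw [hg]
    show gT ψ i killLts 1 = _
    rw [gT, if_neg (by omega)]
  rw [e1] at e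
  obtain rfl := ext_inj ψ r4 (killSub_valid.grp_le hp) e
  obtain ⟨x, hx, ex⟩ := killSub_valid.surj hp
  have h := List.all_eq_true.1 killOut_ok x (List.mem_range.2 (killSub_gens.2.2.1 ▸ hx))
  have hc' : killSub.code.get 36 x = stepC (killLts.tabs.getD 1 0) codeOne := by
    rw [← killSub_valid.code_el hx, ex]
    have hpi : killLts.pi 1 = toP 9 276 (killLts.tabs.getD 1 0) := if_neg (by omega)
    rw [hpi] at r1 ⊢
    exact codeOf_rep r1
  rw [hc', Nat.beq_refl] at h
  exact Bool.noConfusion h

end Cfsg.Lib.CoThreeType
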