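import Cfsg.Agent.Lib.CoThreeType.EmbedTop
import Cfsg.Agent.Lib.CoThreeType.Twist
import Cfsg.Agent.Lib.CoThreeType.Descent

/-!
# The third Conway group from the centralizer of an involution
-/

set_option autoImplicit false

namespace Cfsg.Lib.CoThreeType

open Equiv Cfsg.Lib.PermAut Subgroup

theorem co3_of_centralizer {G : Type*} [Group G] [Finite G] (hO : Cfsg.oddCore G = ⊥) (hZ : center G = ⊥)
    {t : G} (ht : orderOf t = 2)
    (hC : IsNonsplitDoubleCover (centralizer ({t} : Set G)) (Matrix.symplecticGroup (Fin 3) (ZMod 2))) :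
    Cfsg.Spor.IsoCo3 G := by
  obtain ⟨ψ, hψ⟩ := exists_psi hC ht
  obtain ⟨i, H | H⟩ := exists_cfg ht ψ hψ (not_isolated ht hO hZ)
  · obtain ⟨φ, hinj, htφ, huφ, hle⟩ := H.embed
    have htK : φ tK = t := htφ
    have huK : φ uK = ext' ψ uP := huφ
    have hcard : Nat.card (centralizer ({φ tK} : Set G)) = 2903040 := by
      rw [htK, ← Nat.card_congr ψ.toEquiv, card_Cm]
    have htop : φ.range = ⊤ := range_eq_top φ hinj (by rw [htK]; exact hle) hcard
      (by rw [htK, huK]; exact not_conj_u ψ hψ)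
    obtain ⟨⟨e⟩, -⟩ := kk_model
    exact ⟨(Subgroup.topEquiv.symm.trans
      ((MulEquiv.subgroupCongr htop.symm).trans (MonoidHom.ofInjective hinj).symm)).trans e.symm⟩
  · exact (H.no_twist).elim

end Cfsg.Lib.CoThreeType
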