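import Cfsg.Agent.Lib.PermAut.Sub
import Cfsg.Agent.Lib.MclType.Words

/-!
# Splitting long kernel checks

A check over a range is proved part by part, so that no single declaration needs much memory.
-/

set_option autoImplicit false

namespace Cfsg.Lib.CoThreeType

open Cfsg.Lib.PermAut

/-- A check over a part of a range. -/
def chunkB (p : ℕ → Bool) (lo len : ℕ) : Bool := (List.range len).all fun j => p (Nat.add lo j)

theorem chunk_add {p : ℕ → Bool} {lo a b : ℕ} (h1 : chunkB p lo a = true) (h2 : chunkB p (lo + a) b = true) :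
    chunkB p lo (a + b) = true := by
  simp only [chunkB, List.all_eq_true, List.mem_range, Nat.add_eq] at h1 h2 ⊢
  intro j hj
  by_cases h : j < a
  · exact h1 j h
  · have := h2 (j - a) (by omega)
    rwa [show lo + a + (j - a) = lo + j by omega] at this

theorem chunk_all {p : ℕ → Bool} {n : ℕ} (h : chunkB p 0 n = true) : (List.range n).all p = true := by
  simpa [chunkB] using h

theorem all_split {A : Type} (n : ℕ) {l : List A} {p : A → Bool} (h1 : (l.take n).all p = true)
    (h2 : (l.drop n).all p = true) : l.all p = true := by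
  rw [← List.take_append_drop n l, List.all_append, h1, h2]
  rfl

theorem zip_split {A B : Type} {f : A → B → Bool} :
    ∀ (n : ℕ) {l : List A} {m : List B}, Cfsg.Lib.MclType.zipChk f (l.take n) (m.take n) = true →
      Cfsg.Lib.MclType.zipChk f (l.drop n) (m.drop n) = true → Cfsg.Lib.MclType.zipChk f l m = true
  | 0, _, _, _, h => h
  | n + 1, [], [], _, _ => rfl
  | n + 1, [], _ :: _, h, _ => by simp [Cfsg.Lib.MclType.zipChk] at h
  | n + 1, _ :: _, [], h, _ => by simp [Cfsg.Lib.MclType.zipChk] at h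
  | n + 1, a :: l, b :: m, h1, h2 => by
    simp only [List.take_succ_cons, Cfsg.Lib.MclType.zipChk, Bool.and_eq_true] at h1
    simp only [List.drop_succ_cons] at h2
    simp only [Cfsg.Lib.MclType.zipChk, Bool.and_eq_true]
    exact ⟨h1.1, zip_split n h1.2 h2⟩

theorem all2_split {α β : Type} {f : α → β → Bool} :
    ∀ (n : ℕ) {l : List α} {m : List β}, all2 f (l.take n) (m.take n) = true →
      all2 f (l.drop n) (m.drop n) = true → all2 f l m = true
  | 0, _, _, _, h => h
  | n + 1, [], [], _, _ => rfl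
  | n + 1, [], _ :: _, h, _ => by simp [all2] at h
  | n + 1, _ :: _, [], h, _ => by simp [all2] at h
  | n + 1, a :: l, b :: m, h1, h2 => by
    simp only [List.take_succ_cons, all2, Bool.and_eq_true] at h1
    simp only [List.drop_succ_cons] at h2
    simp only [all2, Bool.and_eq_true]
    exact ⟨h1.1, all2_split n h1.2 h2⟩

theorem closedB_step {b N : ℕ} {l : List ℕ} {ls : List (List ℕ)} {s : List ℕ} {ss : List (List ℕ)}
    {pr : List (ℕ × ℕ)} {prs : List (List (ℕ × ℕ))} {cl : List (List (List ℕ))} {cls : List (List (List (List ℕ)))}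
    (h1 : (((List.range l.length).all fun j =>
      bif Nat.beq j 0 then sameB b N [l.getD j 0] [] else
        Nat.blt (pr.getD j (0, 0)).1 s.length && Nat.blt (pr.getD j (0, 0)).2 j &&
          sameB b N [l.getD j 0] [s.getD (pr.getD j (0, 0)).1 0, l.getD (pr.getD j (0, 0)).2 0]) &&
      Nat.blt 0 l.length && (ss.headD []).all (fun x => s.any fun y => Nat.beq x y)) = true)
    (h2 : all2 (fun sT row => all2 (fun t pth => pathOk (l :: ls) pth &&
      sameB b N [sT, t] (pickPath (l :: ls) pth)) l row) s cl = true)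
    (h3 : closedB b N ls ss prs cls = true) :
    closedB b N (l :: ls) (s :: ss) (pr :: prs) (cl :: cls) = true := by
  simp only [closedB, Bool.and_eq_true] at h1 ⊢
  exact ⟨⟨h1, h2⟩, h3⟩

theorem sub_ok_of {H : Sub} {b N : ℕ} (h : (invPairOk b N H.g0 H.g0i && invPairOk b N H.g1 H.g1i &&
      Nat.beq (H.E.getD 0 0) H.g0 && Nat.beq (H.E.getD 1 0) H.g1 &&
      Nat.beq (H.E.getD 2 0) H.g0i && Nat.beq (H.E.getD 3 0) H.g1i &&
      all2 (fun T i => Nat.blt i H.E.length && Nat.beq (H.E.getD i 0) T) (H.sg.headD []) H.sgI &&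
      (H.sg.headD []).any (fun T => Nat.beq T H.g0) && (H.sg.headD []).any (fun T => Nat.beq T H.g1) &&
      (H.base.all fun x => Nat.blt x N) && sepOk b H.lev H.base) = true)
    (hs : stepsOk b N H.E 4 H.steps = true) (hc : closedB b N H.lev H.sg H.par H.close = true) :
    H.ok b N = true := by
  simp only [Sub.ok, Bool.and_eq_true] at h ⊢
  obtain ⟨⟨⟨⟨⟨⟨⟨⟨⟨⟨a, b⟩, c⟩, d⟩, e⟩, f⟩, g⟩, i⟩, j⟩, k⟩, l⟩ := h
  exact ⟨⟨⟨⟨⟨⟨⟨⟨⟨⟨⟨⟨a, b⟩, c⟩, d⟩, e⟩, f⟩, hs⟩, g⟩, i⟩, j⟩, hc⟩, k⟩, l⟩

end Cfsg.Lib.CoThreeType
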