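import Cfsg.Agent.Lib.CoThreeType.DData
import Cfsg.Agent.Lib.CoThreeType.SylData

/-!
# Kernel checks for the classes of involutions
-/

set_option autoImplicit false
set_option maxRecDepth 100000
-- the kernel checks run one after another, to bound the memory of the file
set_option Elab.async false

namespace Cfsg.Lib.CoThreeType

open Equiv Cfsg.Lib.PermAut Cfsg.Lib.J3Type

/-- A packed path. -/
def pthOf (z : ℕ) : List ℕ :=
  [Nat.mod z 256, Nat.mod (Nat.div z 256) 256, Nat.mod (Nat.div z 65536) 256, Nat.div z 16777216]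

/-- The tables of a path. -/
def pth (u : List ℕ) : List ℕ := pickPath centSub.lev u

/-- The code of a path times an element with the given code. -/
noncomputable def pcode (u : List ℕ) (c : ℕ) : ℕ := (pth u).foldr stepC c

/-- The table of the representative of a class. -/
def repTab (k : ℕ) : ℕ := [tTab, vTab, uTab].getD k 0

/-- The check of one element of the Sylow subgroup. -/
noncomputable def sylB (x : ℕ) : Bool :=
  let k := sKind.get 4 x
  let u := pthOf (sPath.get 32 x)
  (bif Nat.beq k 3 then Nat.beq x sSub.root || !(Nat.beq (sSub.mul x x) sSub.root) else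
    Nat.blt k 3 && pathOk centSub.lev u &&
      Nat.beq (pcode u (sSub.code.get 36 x)) (stepC (repTab k) (pcode u codeOne))) &&
  !(Nat.beq (sKind.get 4 (sSub.mul x x)) 2)

/-- The code of a conjugate of the second involution. -/
noncomputable def orbCode (j : ℕ) : ℕ :=
  pcode (pthOf (vOrb.get 32 j)) (stepC vTab (pcode (pthOf (vOrbInv.get 32 j)) codeOne))

/-- The check of one conjugate. -/
noncomputable def orbB (j : ℕ) : Bool :=
  pathOk centSub.lev (pthOf (vOrb.get 32 j)) && pathOk centSub.lev (pthOf (vOrbInv.get 32 j)) &&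
    Nat.beq (pcode (pthOf (vOrb.get 32 j)) (pcode (pthOf (vOrbInv.get 32 j)) codeOne)) codeOne &&
    !(Nat.beq (orbCode j) (stepC uTab codeOne)) &&
    (Nat.beq (Nat.add j 1) 630 || Nat.blt (orbCode j) (orbCode (Nat.add j 1)))

theorem vu_ok : (pathOk centSub.lev (vuPath.getD 0 []) && sameB 9 276 [vTab] (pth (vuPath.getD 0 [])) &&
    pathOk centSub.lev (vuPath.getD 1 []) && sameB 9 276 [uTab] (pth (vuPath.getD 1 [])) &&
    invPairOk 9 276 vTab vTab && invPairOk 9 276 uTab uTab && pathOk centSub.lev rootPath &&
    Nat.beq (pcode rootPath (pcode rootPath codeOne)) (stepC tTab codeOne) &&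
    Nat.beq (stepC uTab (pcode rootPath codeOne)) (pcode rootPath (stepC uTab codeOne))) = true := by decide +kernel

theorem sSub_gens : sSub.gensB = true ∧ sSub.rootB = true ∧ sSub.size = 1024 := by
  refine ⟨?_, ?_, rfl⟩ <;> decide +kernel

theorem dSub_gens : dSub.gensB = true ∧ dSub.rootB = true ∧ dSub.size = 4608 ∧
    ((List.range 3).all fun k => sameB 9 276 [dSub.gT k, vTab] [vTab, dSub.gT k]) = true := by
  refine ⟨?_, ?_, rfl, ?_⟩ <;> decide +kernel

theorem sSub_nodes : sSub.nodesB 0 1024 = true := by decide +kernel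

theorem dSub_nodes0 : dSub.nodesB 0 1152 = true := by decide +kernel

theorem dSub_nodes1 : dSub.nodesB 1152 1152 = true := by decide +kernel

theorem dSub_nodes2 : dSub.nodesB 2304 1152 = true := by decide +kernel

theorem dSub_nodes3 : dSub.nodesB 3456 1152 = true := by decide +kernel

theorem syl_ok : ((List.range 1024).all sylB) = true := by decide +kernel

theorem orb_ok : ((List.range 630).all orbB) = true := by decide +kernel

theorem dVT_ok : Nat.blt dTn 4608 = true ∧ Nat.blt dVn 4608 = true ∧
    Nat.beq (dSub.code.get 36 dTn) (stepC tTab codeOne) = true ∧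
    Nat.beq (dSub.code.get 36 dVn) (stepC vTab codeOne) = true := by
  refine ⟨?_, ?_, ?_, ?_⟩ <;> decide +kernel

end Cfsg.Lib.CoThreeType
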