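import Cfsg.Agent.Lib.CoThreeType.ClassChecks

/-!
# The three classes of involutions of the centralizer
-/

set_option autoImplicit false
set_option maxRecDepth 100000

namespace Cfsg.Lib.CoThreeType

open Equiv Cfsg.Lib.PermAut Cfsg.Lib.J3Type

theorem sSub_valid : sSub.Valid :=
  ⟨sSub_gens.1, sSub_gens.2.1, fun _ hx => sSub.node_of_nodes sSub_nodes (Nat.zero_le _) (sSub_gens.2.2 ▸ hx)⟩

theorem dSub_valid : dSub.Valid := by
  refine ⟨dSub_gens.1, dSub_gens.2.1, fun x hx => ?_⟩
  rw [dSub_gens.2.2.1] at hx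
  by_cases h0 : x < 1152
  · exact dSub.node_of_nodes dSub_nodes0 (Nat.zero_le _) (by omega)
  by_cases h1 : x < 2304
  · exact dSub.node_of_nodes dSub_nodes1 (by omega) (by omega)
  by_cases h2 : x < 3456
  · exact dSub.node_of_nodes dSub_nodes2 (by omega) (by omega)
  exact dSub.node_of_nodes dSub_nodes3 (by omega) (by omega)

/-- The second involution. -/
noncomputable def vP : P276 := toP 9 276 vTab

/-- An involution of the third class. -/
noncomputable def uP : P276 := toP 9 276 uTab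

/-- The representative of a class. -/
noncomputable def repP (k : ℕ) : P276 := toP 9 276 (repTab k)

theorem repTab_spec {k : ℕ} (hk : k < 3) : Rep 9 (repP k) (repTab k) ∧ repP k ∈ Cm ∧ repP k * repP k = 1 := by
  have h := vu_ok
  simp only [Bool.and_eq_true] at h
  obtain ⟨⟨⟨⟨⟨⟨⟨⟨p0, s0⟩, p1⟩, s1⟩, i0⟩, i1⟩, -⟩, -⟩, -⟩ := h
  obtain ⟨r0, -, e0⟩ := rep_of_invPairOk (N := 276) i0
  obtain ⟨r1, -, e1⟩ := rep_of_invPairOk (N := 276) i1
  interval_cases k
  · exact ⟨t_spec.1, t_spec.2.2.2.1, t_spec.2.2.1⟩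
  · exact ⟨r0, cm_valid.mem_of_same r0 p0 s0, mul_eq_one_iff_eq_inv.2 e0⟩
  · exact ⟨r1, cm_valid.mem_of_same r1 p1 s1, mul_eq_one_iff_eq_inv.2 e1⟩

theorem codeOf_rep {T : ℕ} (hT : Rep 9 (toP 9 276 T) T) : codeOf (toP 9 276 T) = stepC T codeOne := by
  rw [← mul_one (toP 9 276 T), codeOf_mul hT, codeOf_one]

/-- The element of a path. -/
noncomputable def pP (u : List ℕ) : P276 := ((pth u).map (toP 9 276)).prod

theorem pcode_mul {u : List ℕ} (hu : pathOk centSub.lev u = true) (g : P276) :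
    pP u ∈ Cm ∧ codeOf (pP u * g) = pcode u (codeOf g) := by
  refine ⟨cm_valid.mem_of_path hu, ?_⟩
  have hr : ∀ T ∈ pth u, Rep 9 (toP 9 276 T) T := cm_valid.good_of_path hu
  unfold pP pcode
  revert hr
  generalize pth u = l
  intro hr
  induction l with
  | nil => simp
  | cons T l ih =>
    rw [List.map_cons, List.prod_cons, mul_assoc, codeOf_mul (hr T (List.mem_cons_self ..)), List.foldr_cons,
      ih fun S hS => hr S (List.mem_cons_of_mem _ hS)]

theorem codeOf_pP {u : List ℕ} (hu : pathOk centSub.lev u = true) : codeOf (pP u) = pcode u codeOne := by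
  rw [← mul_one (pP u), (pcode_mul hu 1).2, codeOf_one]

theorem grp_comm_v : ∀ g ∈ dSub.grp, g * vP = vP * g := by
  have key : ∀ k < 3, dSub.gP k ∈ Subgroup.centralizer {vP} := fun k hk => by
    have hs := List.all_eq_true.1 dSub_gens.2.2.2 k (List.mem_range.2 hk)
    refine Subgroup.mem_centralizer_iff.2 fun y hy => ?_
    rw [Set.mem_singleton_iff.1 hy]
    have r := (dSub_valid.gen (k := k) hk).1
    have rv := (repTab_spec (k := 1) (by norm_num)).1
    have e := eq_of_sameB (l := [dSub.gT k, vTab]) (l' := [vTab, dSub.gT k])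
      (List.forall_mem_cons.2 ⟨r, by simpa [repP, repTab] using rv⟩)
      (List.forall_mem_cons.2 ⟨rv, by simpa [Num.gP] using r⟩) hs
    simpa [Num.gP, vP] using e.symm
  have hle : dSub.grp ≤ Subgroup.centralizer {vP} := by
    rw [Num.grp, Subgroup.closure_le]
    rintro _ ⟨k, hk, rfl⟩
    exact key k hk
  exact fun g hg => ((Subgroup.mem_centralizer_iff.1 (hle hg)) _ rfl).symm

/-- The conjugating element of a position in the orbit. -/
noncomputable def orbP (j : ℕ) : P276 := pP (pthOf (vOrb.get 32 j))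

theorem orb_spec {j : ℕ} (hj : j < 630) : orbP j ∈ Cm ∧ codeOf (orbP j * vP * (orbP j)⁻¹) = orbCode j ∧
    orbP j * vP * (orbP j)⁻¹ ≠ uP ∧ (j + 1 < 630 → orbCode j < orbCode (j + 1)) := by
  have h := List.all_eq_true.1 orb_ok j (List.mem_range.2 hj)
  simp only [orbB, Bool.and_eq_true, Bool.or_eq_true, Bool.not_eq_true', Nat.beq_eq, Nat.blt, Nat.ble_eq] at h
  obtain ⟨⟨⟨⟨h1, h2⟩, h3⟩, h4⟩, h5⟩ := h
  obtain ⟨m1, e1⟩ := pcode_mul h1 (pP (pthOf (vOrbInv.get 32 j)))
  rw [codeOf_pP h2, h3] at e1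
  have hmem2 := (pcode_mul h2 1).1
  have hinv : (pP (pthOf (vOrb.get 32 j)))⁻¹ = pP (pthOf (vOrbInv.get 32 j)) :=
    inv_eq_of_mul_eq_one_right (eq_of_code (mul_mem m1 hmem2) (one_mem _) (e1.trans codeOf_one.symm))
  have rv : Rep 9 (toP 9 276 vTab) vTab := (repTab_spec (k := 1) (by norm_num)).1
  have hc : codeOf (orbP j * vP * (orbP j)⁻¹) = orbCode j := by
    rw [orbP, hinv, mul_assoc, (pcode_mul h1 _).2, vP, codeOf_mul rv, codeOf_pP h2]
    rfl
  refine ⟨m1, hc, fun e => ?_, fun hlt => h5.resolve_left (Nat.ne_of_lt hlt)⟩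
  have : orbCode j = stepC uTab codeOne := by
    rw [← hc, e, uP]; exact codeOf_rep (repTab_spec (k := 2) (by norm_num)).1
  rw [this, Nat.beq_refl] at h4
  exact Bool.noConfusion h4

theorem orb_inj {j k : ℕ} (hj : j < 630) (hk : k < 630) (e : orbCode j = orbCode k) : j = k := by
  have mono : ∀ b, ∀ a < b, b < 630 → orbCode a < orbCode b := by
    intro b
    induction b with
    | zero => intro a ha; omega
    | succ b ih =>
      intro a ha hb
      have hs := (orb_spec (j := b) (by omega)).2.2.2 hb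
      rcases Nat.lt_succ_iff_lt_or_eq.1 ha with h | rfl
      · exact lt_trans (ih a h (by omega)) hs
      · exact hs
  rcases lt_trichotomy j k with h | h | h
  · exact absurd e (Nat.ne_of_lt (mono _ _ h hk))
  · exact h
  · exact absurd e.symm (Nat.ne_of_lt (mono _ _ h hj))

/-- The centralizer of the second involution in the centralizer of the first. -/
noncomputable def cV : Subgroup P276 := Cm ⊓ Subgroup.centralizer {vP}

theorem dSub_le_cV : dSub.grp ≤ cV :=
  le_inf dSub_valid.grp_le fun g hg => Subgroup.mem_centralizer_iff.2 fun y hy => by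
    rw [Set.mem_singleton_iff.1 hy]; exact (grp_comm_v g hg).symm

theorem coset_bij : cV = dSub.grp ∧
    ∀ g ∈ Cm, ∃ j < 630, g * vP * g⁻¹ = orbP j * vP * (orbP j)⁻¹ := by
  have hD : Nat.card dSub.grp = 4608 := dSub_valid.card.trans dSub_gens.2.2.1
  let f : Fin 630 × cV → Cm := fun q => ⟨orbP q.1 * q.2, mul_mem (orb_spec q.1.2).1 q.2.2.1⟩
  have hconj : ∀ q : Fin 630 × cV, (f q : P276) * vP * (f q : P276)⁻¹ = orbP q.1 * vP * (orbP q.1)⁻¹ := fun q => by
    have hc := Subgroup.mem_centralizer_iff.1 q.2.2.2 vP rfl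
    show orbP q.1 * q.2 * vP * (orbP q.1 * q.2)⁻¹ = _
    rw [mul_inv_rev, mul_assoc (orbP q.1) _ vP, ← hc]
    group
  have hf : Function.Injective f := by
    rintro ⟨j, z⟩ ⟨k, w⟩ e
    have e1 := hconj (j, z)
    rw [e, hconj (k, w)] at e1
    have hjk : k = j := Fin.ext (orb_inj k.2 j.2 (by
      rw [← (orb_spec k.2).2.1, ← (orb_spec j.2).2.1]; exact congrArg codeOf e1))
    subst hjk
    exact Prod.ext rfl (Subtype.ext (mul_left_cancel (congrArg Subtype.val e)))
  have hle := Nat.card_le_card_of_injective f hf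
  rw [Nat.card_prod, Nat.card_fin, card_Cm] at hle
  have heq : cV = dSub.grp := (Subgroup.eq_of_le_of_card_ge dSub_le_cV (by rw [hD]; omega)).symm
  refine ⟨heq, fun g hg => ?_⟩
  have hb : Function.Bijective f := (Nat.bijective_iff_injective_and_card f).2
    ⟨hf, by rw [Nat.card_prod, Nat.card_fin, card_Cm, heq, hD]⟩
  obtain ⟨q, hq⟩ := hb.2 ⟨g, hg⟩
  refine ⟨q.1, q.1.2, ?_⟩
  rw [← hconj q, hq]

/-- The third representative is not a conjugate of the second. -/
theorem u_not_conj_v {g : P276} (hg : g ∈ Cm) : g * vP * g⁻¹ ≠ uP := by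
  obtain ⟨j, hj, e⟩ := coset_bij.2 g hg
  rw [e]
  exact (orb_spec hj).2.2.1

end Cfsg.Lib.CoThreeType
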