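import Cfsg.Agent.Lib.CoThreeType.DescentChecks

/-!
# Facts about an involution of the third class and its centralizer
-/

set_option autoImplicit false
set_option maxRecDepth 100000

namespace Cfsg.Lib.CoThreeType

open Equiv Cfsg.Lib.PermAut Cfsg.Lib.J3Type

theorem all2_beq_iff : ∀ {a b : List ℕ}, eqL a b = true ↔ a = b
  | [], [] => by simp [eqL, all2]
  | [], _ :: _ => by simp [eqL, all2]
  | _ :: _, [] => by simp [eqL, all2]
  | x :: a, y :: b => by
    have := all2_beq_iff (a := a) (b := b)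
    simp only [eqL] at this
    simp [eqL, all2, this]

theorem memL_iff {a : List ℕ} {l : List (List ℕ)} : memL a l = true ↔ a ∈ l := by
  simp [memL, List.any_eq_true, all2_beq_iff]

theorem eqL_self (a : List ℕ) : eqL a a = true := all2_beq_iff.2 rfl

theorem uSub_valid : uSub.Valid :=
  ⟨uSub_gens.1, uSub_gens.2.1, fun _ hx => uSub.node_of_nodes uSub_nodes (Nat.zero_le _) (uSub_gens.2.2.1 ▸ hx)⟩

/-- The commuting involution of the third class. -/
noncomputable def aP : P276 := toP 9 276 aTab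

theorem u_rep : Rep 9 uP uTab ∧ uP ∈ Cm ∧ uP * uP = 1 := repTab_spec (k := 2) (by norm_num)

theorem named_spec : Rep 9 aP aTab ∧ aP * aP = 1 ∧ uIdx < 384 ∧ aIdx < 384 ∧ tIdx < 384 ∧
    piL 6 * tP = vP * piL 6 := by
  have h := named_ok
  simp only [Bool.and_eq_true, Nat.blt, Nat.ble_eq] at h
  obtain ⟨⟨⟨⟨⟨⟨⟨hi, h1⟩, h2⟩, h3⟩, -⟩, -⟩, -⟩, hs⟩ := h
  obtain ⟨r, -, e⟩ := rep_of_invPairOk (N := 276) hi
  refine ⟨r, mul_eq_one_iff_eq_inv.2 e, h1, h2, h3, ?_⟩
  have rl := (piL_rep (k := 6) (by norm_num)).1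
  have rv : Rep 9 (toP 9 276 vTab) vTab := (repTab_spec (k := 1) (by norm_num)).1
  have e := eq_of_sameB (l := [lTab.getD 6 0, tTab]) (l' := [vTab, lTab.getD 6 0])
    (List.forall_mem_cons.2 ⟨rl, by simpa [tP] using t_spec.1⟩) (List.forall_mem_cons.2 ⟨rv, by simpa [piL] using rl⟩) hs
  simpa [piL, tP, vP] using e

theorem lt_size {x : ℕ} (hx : x < 384) : x < uSub.size := uSub_gens.2.2.1 ▸ hx

theorem el_tables (x : ℕ) : uSub.el x = ((wT x).map (toP 9 276)).prod := by
  rw [Num.el, wT, List.map_map]; rfl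

theorem wT_rep {x : ℕ} (hx : x < 384) : ∀ T ∈ wT x, Rep 9 (toP 9 276 T) T := fun T hT => by
  obtain ⟨k, hk, rfl⟩ := List.mem_map.1 hT
  exact (uSub_valid.gen ((uSub_valid.spec (lt_size hx)).2.1 k hk)).1

theorem el_of_same {T x : ℕ} (hT : Rep 9 (toP 9 276 T) T) (hx : x < 384) (hs : sameB 9 276 [T] (wT x) = true) :
    uSub.el x = toP 9 276 T := by
  have e := eq_of_sameB (l := [T]) (by simpa using hT) (wT_rep hx) hs
  simpa [el_tables] using e.symm

theorem el_named : uSub.el uIdx = uP ∧ uSub.el aIdx = aP ∧ uSub.el tIdx = tP := by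
  have h := named_ok
  simp only [Bool.and_eq_true] at h
  obtain ⟨⟨⟨⟨⟨⟨⟨-, -⟩, -⟩, -⟩, sa⟩, su⟩, st⟩, -⟩ := h
  exact ⟨el_of_same u_rep.1 named_spec.2.2.1 su, el_of_same named_spec.1 named_spec.2.2.2.1 sa,
    el_of_same t_spec.1 named_spec.2.2.2.2.1 st⟩

theorem el_mul' {x y : ℕ} (hx : x < 384) (hy : y < 384) :
    uSub.mul x y < 384 ∧ uSub.el (uSub.mul x y) = uSub.el x * uSub.el y :=
  ⟨uSub_gens.2.2.1 ▸ (uSub_valid.el_mul (lt_size hx) (lt_size hy)).1, (uSub_valid.el_mul (lt_size hx) (lt_size hy)).2⟩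

theorem aP_mem : aP ∈ Cm := el_named.2.1 ▸ (uSub_valid.el_mem (lt_size named_spec.2.2.2.1)).1

theorem uSub_comm : ∀ g ∈ uSub.grp, g * uP = uP * g := by
  have key : ∀ k < uSub.gens.length, uSub.gP k ∈ Subgroup.centralizer {uP} := fun k hk => by
    have hs := List.all_eq_true.1 uSub_gens.2.2.2 k (List.mem_range.2 hk)
    refine Subgroup.mem_centralizer_iff.2 fun y hy => ?_
    rw [Set.mem_singleton_iff.1 hy]
    have r := (uSub_valid.gen (k := k) hk).1
    have ru : Rep 9 (toP 9 276 uTab) uTab := u_rep.1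
    have e := eq_of_sameB (l := [uSub.gT k, uTab]) (l' := [uTab, uSub.gT k])
      (List.forall_mem_cons.2 ⟨r, by simpa using ru⟩)
      (List.forall_mem_cons.2 ⟨ru, by simpa [Num.gP] using r⟩) hs
    simpa [Num.gP, uP] using e.symm
  have hle : uSub.grp ≤ Subgroup.centralizer {uP} := by
    rw [Num.grp, Subgroup.closure_le]
    rintro _ ⟨k, hk, rfl⟩
    exact key k hk
  exact fun g hg => ((Subgroup.mem_centralizer_iff.1 (hle hg)) _ rfl).symm

/-- The conjugating element of a position in the orbit of the third involution. -/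
noncomputable def uOrbP (j : ℕ) : P276 := pP (pthOf (uOrb.get 32 j))

theorem uOrb_spec {j : ℕ} (hj : j < 7560) : uOrbP j ∈ Cm ∧ codeOf (uOrbP j * uP * (uOrbP j)⁻¹) = uOrbCode j ∧
    (j + 1 < 7560 → uOrbCode j < uOrbCode (j + 1)) := by
  have get : ∀ lo, uOrbsB lo = true → lo ≤ j → j < lo + 1512 → uOrbB j = true := fun lo h h1 h2 => by
    have := List.all_eq_true.1 h (j - lo) (List.mem_range.2 (by omega))
    rwa [show Nat.add lo (j - lo) = j from Nat.add_sub_cancel' h1] at this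
  have h : uOrbB j = true := by
    by_cases h0 : j < 1512
    · exact get 0 uOrb_ok0 (Nat.zero_le _) (by omega)
    by_cases h1 : j < 3024
    · exact get 1512 uOrb_ok1 (by omega) (by omega)
    by_cases h2 : j < 4536
    · exact get 3024 uOrb_ok2 (by omega) (by omega)
    by_cases h3 : j < 6048
    · exact get 4536 uOrb_ok3 (by omega) (by omega)
    exact get 6048 uOrb_ok4 (by omega) (by omega)
  simp only [uOrbB, Bool.and_eq_true, Bool.or_eq_true, Nat.beq_eq, Nat.blt, Nat.ble_eq] at h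
  obtain ⟨⟨⟨h1, h2⟩, h3⟩, h5⟩ := h
  obtain ⟨m1, e1⟩ := pcode_mul h1 (pP (pthOf (uOrbInv.get 32 j)))
  rw [codeOf_pP h2, h3] at e1
  have hmem2 := (pcode_mul h2 1).1
  have hinv : (pP (pthOf (uOrb.get 32 j)))⁻¹ = pP (pthOf (uOrbInv.get 32 j)) :=
    inv_eq_of_mul_eq_one_right (eq_of_code (mul_mem m1 hmem2) (one_mem _) (e1.trans codeOf_one.symm))
  refine ⟨m1, ?_, fun hlt => h5.resolve_left (Nat.ne_of_lt hlt)⟩
  rw [uOrbP, hinv, mul_assoc, (pcode_mul h1 _).2, uP, codeOf_mul u_rep.1, codeOf_pP h2]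
  rfl

/-- The centralizer of the third involution in the centralizer of the first. -/
theorem cU_eq : Cm ⊓ Subgroup.centralizer {uP} = uSub.grp := by
  have hD : Nat.card uSub.grp = 384 := uSub_valid.card.trans uSub_gens.2.2.1
  have hle : uSub.grp ≤ Cm ⊓ Subgroup.centralizer {uP} :=
    le_inf uSub_valid.grp_le fun g hg => Subgroup.mem_centralizer_iff.2 fun y hy => by
      rw [Set.mem_singleton_iff.1 hy]; exact (uSub_comm g hg).symm
  let f : Fin 7560 × ↥(Cm ⊓ Subgroup.centralizer {uP}) → Cm := fun q =>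
    ⟨uOrbP q.1 * q.2, mul_mem (uOrb_spec q.1.2).1 q.2.2.1⟩
  have hconj : ∀ q, (f q : P276) * uP * (f q : P276)⁻¹ = uOrbP q.1 * uP * (uOrbP q.1)⁻¹ := fun q => by
    have hc := Subgroup.mem_centralizer_iff.1 q.2.2.2 uP rfl
    show uOrbP q.1 * q.2 * uP * (uOrbP q.1 * q.2)⁻¹ = _
    rw [mul_inv_rev, mul_assoc (uOrbP q.1) _ uP, ← hc]
    group
  have mono : ∀ b, ∀ a < b, b < 7560 → uOrbCode a < uOrbCode b := by
    intro b
    induction b with
    | zero => intro a ha; omega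
    | succ b ih =>
      intro a ha hb
      have hs := (uOrb_spec (j := b) (by omega)).2.2 hb
      rcases Nat.lt_succ_iff_lt_or_eq.1 ha with h | rfl
      · exact lt_trans (ih a h (by omega)) hs
      · exact hs
  have hf : Function.Injective f := by
    rintro ⟨j, z⟩ ⟨k, w⟩ e
    have e1 := hconj (j, z)
    rw [e, hconj (k, w)] at e1
    have hc : uOrbCode j = uOrbCode k := by
      rw [← (uOrb_spec j.2).2.1, ← (uOrb_spec k.2).2.1]; exact congrArg codeOf e1.symm
    have hjk : k = j := Fin.ext (by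
      rcases lt_trichotomy (k : ℕ) j with h | h | h
      · exact absurd hc.symm (Nat.ne_of_lt (mono _ _ h j.2))
      · exact h
      · exact absurd hc (Nat.ne_of_lt (mono _ _ h k.2)))
    subst hjk
    exact Prod.ext rfl (Subtype.ext (mul_left_cancel (congrArg Subtype.val e)))
  have hcard := Nat.card_le_card_of_injective f hf
  rw [Nat.card_prod, Nat.card_fin, card_Cm] at hcard
  exact (Subgroup.eq_of_le_of_card_ge hle (by rw [hD]; omega)).symm

/-- The elements of the centralizer of the first involution which commute with the two others. -/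
theorem s_mem {g : P276} (hg : g ∈ Cm) (hu : g * uP = uP * g) (ha : g * aP = aP * g) :
    ∃ x < 384, x ∈ sList ∧ uSub.el x = g := by
  have hm : g ∈ uSub.grp := cU_eq ▸ ⟨hg, Subgroup.mem_centralizer_iff.2 fun y hy => by
    rw [Set.mem_singleton_iff.1 hy]; exact hu.symm⟩
  obtain ⟨x, hx, e⟩ := uSub_valid.surj hm
  have hx' : x < 384 := uSub_gens.2.2.1 ▸ hx
  refine ⟨x, hx', ?_, e⟩
  have h := sList_ok
  simp only [Bool.and_eq_true, List.all_eq_true, List.mem_range, Bool.or_eq_true, Bool.not_eq_true',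
    List.any_eq_true, Nat.beq_eq] at h
  obtain ⟨⟨h1, -⟩, -⟩ := h
  have na := named_spec.2.2.2.1
  have em : uSub.mul x aIdx = uSub.mul aIdx x := uSub_valid.inj (lt_size (el_mul' hx' na).1)
    (lt_size (el_mul' na hx').1) (by rw [(el_mul' hx' na).2, (el_mul' na hx').2, el_named.2.1, e]; exact ha)
  obtain ⟨y, hy, e'⟩ := (h1 x hx').resolve_left (by rw [em, Nat.beq_refl]; simp)
  exact e' ▸ hy

theorem sList_lt {x : ℕ} (hx : x ∈ sList) : x < 384 := by
  have h := sList_ok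
  simp only [Bool.and_eq_true, List.all_eq_true, Nat.blt, Nat.ble_eq] at h
  exact h.2 x hx

theorem conj_of_code {z : ℕ} {p : List ℕ} {T : ℕ} (hz : z < 384) (hp : pathOk centSub.lev p = true)
    (hT : Rep 9 (toP 9 276 T) T) (hTm : toP 9 276 T ∈ Cm)
    (e : pcode p (uSub.code.get 36 z) = stepC T (pcode p codeOne)) :
    pP p ∈ Cm ∧ (pP p)⁻¹ * toP 9 276 T * pP p = uSub.el z := by
  obtain ⟨m, e1⟩ := pcode_mul hp (uSub.el z)
  rw [uSub_valid.code_el (lt_size hz), e, ← codeOf_pP hp, ← codeOf_mul hT] at e1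
  refine ⟨m, ?_⟩
  have e2 := eq_of_code (mul_mem m (uSub_valid.el_mem (lt_size hz)).1) (mul_mem hTm m) e1
  rw [mul_assoc, ← e2, inv_mul_cancel_left]

/-- Five involutions of the third class. -/
theorem u_class {z : P276} (hz : z ∈ [tP * uP, tP * aP, tP * (aP * uP), aP, aP * uP]) :
    ∃ c ∈ Cm, c * uP * c⁻¹ = z := by
  have h := wit_ok
  simp only [Bool.and_eq_true, all2_beq_iff, List.all_eq_true] at h
  obtain ⟨h1, h2⟩ := h
  obtain ⟨-, -, nu, na, nt, -⟩ := named_spec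
  obtain ⟨eu, ea, et⟩ := el_named
  have key : ∀ k ∈ uWit.map Prod.fst, ∃ c ∈ Cm, c * uP * c⁻¹ = uSub.el k := fun k hk => by
    obtain ⟨e, he, rfl⟩ := List.mem_map.1 hk
    have hh := h1 e he
    simp only [witB, Bool.and_eq_true, Nat.beq_eq, Nat.blt, Nat.ble_eq] at hh
    obtain ⟨⟨hk', hp⟩, hc⟩ := hh
    obtain ⟨m, hm⟩ := conj_of_code hk' hp u_rep.1 u_rep.2.1 hc
    exact ⟨(pP e.2)⁻¹, inv_mem m, by rw [inv_inv, ← hm]; rfl⟩
  rw [h2] at key
  simp only [List.mem_cons, List.not_mem_nil, or_false] at hz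
  rcases hz with rfl | rfl | rfl | rfl | rfl
  · simpa [(el_mul' nt nu).2, et, eu] using key _ (List.mem_cons_self ..)
  · simpa [(el_mul' nt na).2, et, ea] using key (uSub.mul tIdx aIdx) (by simp)
  · simpa [(el_mul' nt (el_mul' na nu).1).2, (el_mul' na nu).2, et, ea, eu] using
      key (uSub.mul tIdx (uSub.mul aIdx uIdx)) (by simp)
  · simpa [ea] using key aIdx (by simp)
  · simpa [(el_mul' na nu).2, ea, eu] using key (uSub.mul aIdx uIdx) (by simp)

theorem kpth_rep {p : List ℕ} (hp : pathOk CoThree.cert.tr p = true) :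
    (∀ T ∈ kpth p, Rep 9 (toP 9 276 T) T) ∧ ((kpth p).map (toP 9 276)).prod ∈ KK := by
  have hg := kk_path hp
  exact ⟨fun T hT => (hg T hT).1, Subgroup.list_prod_mem _ fun x hx => by
    obtain ⟨S, hS, rfl⟩ := List.mem_map.1 hx
    exact (hg S hS).2⟩

theorem kpth_eq {p : List ℕ} {T : ℕ} {l : List ℕ} (hp : pathOk CoThree.cert.tr p = true)
    (hT : Rep 9 (toP 9 276 T) T) (hl : ∀ S ∈ l, Rep 9 (toP 9 276 S) S)
    (hs : sameB 9 276 (kpth p ++ [T]) (l ++ kpth p) = true) :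
    ((kpth p).map (toP 9 276)).prod * toP 9 276 T * (((kpth p).map (toP 9 276)).prod)⁻¹ =
      (l.map (toP 9 276)).prod := by
  have hr := (kpth_rep hp).1
  have e := eq_of_sameB (fun S hS => (List.mem_append.1 hS).elim (hr S) fun h => (List.mem_singleton.1 h) ▸ hT)
    (fun S hS => (List.mem_append.1 hS).elim (hl S) (hr S)) hs
  simp only [List.map_append, List.prod_append, List.map_singleton, List.prod_singleton] at e
  rw [e, mul_inv_cancel_right]

/-- The kinds of the involutions commuting with the three. -/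
theorem s_kind {g : P276} (hg : g ∈ Cm) (hu : g * uP = uP * g) (ha : g * aP = aP * g) (h1 : g ≠ 1)
    (h2 : g * g = 1) : g = uP ∨ (∃ c ∈ KK, c * tP * c⁻¹ = g ∨ c * tP * c⁻¹ = g * uP) ∨
      ∃ h ∈ KK, h * uP = uP * h ∧ (h * aP * h⁻¹ = g ∨ h * aP * h⁻¹ = g * uP) := by
  obtain ⟨x, hx, hxs, rfl⟩ := s_mem hg hu ha
  have h := sList_ok
  simp only [Bool.and_eq_true, all2_beq_iff] at h
  obtain ⟨⟨-, hfst⟩, -⟩ := h
  rw [← hfst] at hxs
  obtain ⟨⟨x', m, r, p⟩, he, rfl⟩ := List.mem_map.1 hxs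
  have ht := List.all_eq_true.1 tags_ok _ he
  obtain ⟨rA, -, nu, -, -, hsw⟩ := named_spec
  set z := bif Nat.beq m 2 || Nat.beq m 4 then uSub.mul x' uIdx else x' with hz
  have hzlt : z < 384 ∧ (uSub.el z = uSub.el x' ∨ uSub.el z = uSub.el x' * uP) := by
    rw [hz]
    cases Nat.beq m 2 || Nat.beq m 4
    · exact ⟨hx, Or.inl rfl⟩
    · exact ⟨(el_mul' hx nu).1, Or.inr (by rw [cond_true, (el_mul' hx nu).2, el_named.1])⟩
  simp only [tagB] at ht
  rw [← hz] at ht
  cases h0 : Nat.beq m 0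
  · rw [h0, cond_false] at ht
    cases h12 : Nat.ble m 2
    · rw [h12, cond_false] at ht
      simp only [Bool.and_eq_true] at ht
      obtain ⟨⟨⟨-, hp⟩, hsa⟩, hsu⟩ := ht
      refine Or.inr (Or.inr ⟨_, (kpth_rep hp).2, ?_, ?_⟩)
      · have e := kpth_eq (l := [uTab]) hp u_rep.1 (by simpa [uP] using u_rep.1) hsu
        rw [List.map_singleton, List.prod_singleton] at e
        exact mul_inv_eq_iff_eq_mul.1 e
      · have e := kpth_eq hp rA (wT_rep hzlt.1) hsa
        rw [← el_tables] at e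
        exact hzlt.2.imp (fun h => e.trans h) fun h => e.trans h
    · rw [h12, cond_true] at ht
      simp only [Bool.and_eq_true, Nat.beq_eq, Nat.blt, Nat.ble_eq] at ht
      obtain ⟨⟨hr, hp⟩, hc⟩ := ht
      have hr2 : r < 2 := hr
      clear hr
      have hr' : r < 3 := by omega
      obtain ⟨rr, rm, -⟩ := repTab_spec hr'
      obtain ⟨mp, e⟩ := conj_of_code hzlt.1 hp rr rm hc
      have hK : pP p ∈ KK := cm_le_KK.1 mp
      have : ∃ c ∈ KK, c * tP * c⁻¹ = uSub.el z := by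
        interval_cases r
        · exact ⟨(pP p)⁻¹, inv_mem hK, by rw [inv_inv, ← e]; rfl⟩
        · refine ⟨(pP p)⁻¹ * piL 6, mul_mem (inv_mem hK) cm_le_KK.2, ?_⟩
          rw [← e, mul_inv_rev, inv_inv, mul_assoc (pP p)⁻¹ (piL 6) tP, hsw]
          show _ = (pP p)⁻¹ * vP * pP p
          group
      obtain ⟨c, hc1, hc2⟩ := this
      exact Or.inr (Or.inl ⟨c, hc1, hzlt.2.imp (fun h => hc2.trans h) fun h => hc2.trans h⟩)
  · rw [h0, cond_true] at ht
    simp only [Bool.or_eq_true, Nat.beq_eq, Bool.not_eq_true'] at ht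
    rcases ht with (h | h) | h
    · exact absurd (h ▸ uSub_valid.el_root) h1
    · exact Or.inl (h ▸ el_named.1)
    · have : uSub.mul x' x' = uSub.root := uSub_valid.inj (lt_size (el_mul' hx hx).1) uSub_valid.root_lt
        (by rw [(el_mul' hx hx).2, uSub_valid.el_root, h2])
      rw [this, Nat.beq_refl] at h
      exact Bool.noConfusion h

/-- Every involution of the model is conjugate to the first or to the third. -/
theorem invol_conj {g : P276} (hg : g ∈ KK) (h1 : g ≠ 1) (h2 : g * g = 1) :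
    ∃ c ∈ KK, c * tP * c⁻¹ = g ∨ c * uP * c⁻¹ = g := by
  classical
  haveI : Fact (Nat.Prime 2) := ⟨Nat.prime_two⟩
  let S0 : Subgroup ↥KK := sSub.grp.subgroupOf KK
  have hS : Nat.card S0 = 2 ^ 10 := by
    rw [Nat.card_congr (Subgroup.subgroupOfEquivOfLe (sSub_valid.grp_le.trans cm_le_KK.1)).toEquiv,
      sSub_valid.card, sSub_gens.2.2]
    norm_num
  obtain ⟨Q, hQ⟩ := (IsPGroup.of_card hS).exists_le_sylow
  obtain ⟨m, hm⟩ := Q.isPGroup'.exists_card_eq
  have hdvd := Subgroup.card_subgroup_dvd_card (Q : Subgroup ↥KK)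
  rw [hm, kk_model.2] at hdvd
  have hm10 : m ≤ 10 := by
    by_contra hlt
    have h11 : 2 ^ 11 ∣ 495766656000 := dvd_trans (pow_dvd_pow 2 (by omega)) hdvd
    norm_num at h11
  have hQS : S0 = (Q : Subgroup ↥KK) := Subgroup.eq_of_le_of_card_ge hQ (by
    rw [hS, hm]; exact Nat.pow_le_pow_right (by norm_num) hm10)
  let gK : ↥KK := ⟨g, hg⟩
  have hgK : gK ^ 2 = 1 := Subtype.ext (by rw [pow_two]; exact h2)
  have hz : IsPGroup 2 (Subgroup.zpowers gK) := by
    refine fun ⟨z, hz⟩ => ⟨1, Subtype.ext ?_⟩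
    obtain ⟨k, rfl⟩ := Subgroup.mem_zpowers_iff.1 hz
    show (gK ^ k) ^ (2 ^ 1) = 1
    rw [pow_one, ← zpow_natCast, ← zpow_mul, mul_comm, zpow_mul, zpow_natCast, hgK, one_zpow]
  obtain ⟨R, hR⟩ := hz.exists_le_sylow
  obtain ⟨c, hc⟩ := MulAction.exists_smul_eq ↥KK R Q
  have hcg : c * gK * c⁻¹ ∈ S0 := by
    rw [hQS, ← hc, Sylow.coe_subgroup_smul]
    exact Subgroup.mem_map.2 ⟨gK, hR (Subgroup.mem_zpowers gK), rfl⟩
  obtain ⟨x, hx, ex⟩ := sSub_valid.surj (Subgroup.mem_subgroupOf.1 hcg)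
  have hx' : x < 1024 := sSub_gens.2.2 ▸ hx
  have hb := List.all_eq_true.1 syl_ok x (List.mem_range.2 hx')
  simp only [sylB, Bool.and_eq_true] at hb
  obtain ⟨hb, -⟩ := hb
  have ev : sSub.el x = (c : P276) * g * (c : P276)⁻¹ := ex
  set k := sKind.get 4 x
  cases h3 : Nat.beq k 3
  · rw [h3, cond_false] at hb
    simp only [Bool.and_eq_true, Nat.beq_eq, Nat.blt, Nat.ble_eq] at hb
    obtain ⟨⟨hk, hp⟩, hcode⟩ := hb
    obtain ⟨rr, rm, -⟩ := repTab_spec (k := k) hk
    obtain ⟨m1, e1⟩ := pcode_mul hp (sSub.el x)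
    rw [sSub_valid.code_el hx, hcode, ← codeOf_pP hp, ← codeOf_mul rr] at e1
    have e2 := eq_of_code (mul_mem m1 (sSub_valid.el_mem hx).1) (mul_mem rm m1) e1
    set p := pP (pthOf (sPath.get 32 x))
    have hpK : p ∈ KK := cm_le_KK.1 m1
    have hex : sSub.el x = p⁻¹ * repP k * p := by rw [mul_assoc, ← e2, inv_mul_cancel_left]
    rw [hex] at ev
    have key : ∀ b : P276, ∀ d ∈ KK, d * b * d⁻¹ = repP k →
        ((c : P276)⁻¹ * p⁻¹ * d) * b * ((c : P276)⁻¹ * p⁻¹ * d)⁻¹ = g := fun b d _ hd => by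
      have : g = (c : P276)⁻¹ * (p⁻¹ * repP k * p) * c := by rw [ev]; group
      rw [this, ← hd]
      group
    have hk3 : k < 3 := hk
    clear_value k
    interval_cases k
    · exact ⟨_, mul_mem (mul_mem (inv_mem c.2) (inv_mem hpK)) (one_mem _), Or.inl (key tP 1 (one_mem _) (by simp [repP, repTab, tP]))⟩
    · refine ⟨_, mul_mem (mul_mem (inv_mem c.2) (inv_mem hpK)) cm_le_KK.2, Or.inl (key tP (piL 6) cm_le_KK.2 ?_)⟩
      rw [named_spec.2.2.2.2.2, mul_inv_cancel_right]; rfl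
    · exact ⟨_, mul_mem (mul_mem (inv_mem c.2) (inv_mem hpK)) (one_mem _), Or.inr (key uP 1 (one_mem _) (by simp [repP, repTab, uP]))⟩
  · rw [h3, cond_true, Bool.or_eq_true] at hb
    rcases hb with hb | hb
    · rw [Nat.beq_eq.mp hb, sSub_valid.el_root] at ev
      exact absurd (by have h' := congrArg (fun z => (c : P276)⁻¹ * z * c) ev; simpa [mul_assoc] using h'.symm) h1
    · rw [Bool.not_eq_true'] at hb
      have : sSub.mul x x = sSub.root := sSub_valid.inj (sSub_valid.el_mul hx hx).1 sSub_valid.root_lt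
        (by rw [(sSub_valid.el_mul hx hx).2, sSub_valid.el_root, ev, show (c : P276) * g * (c : P276)⁻¹ *
          ((c : P276) * g * (c : P276)⁻¹) = c * (g * g) * (c : P276)⁻¹ by group, h2]; group)
      rw [this, Nat.beq_refl] at hb
      exact Bool.noConfusion hb

end Cfsg.Lib.CoThreeType
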