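import Cfsg.Agent.Lib.CoThreeType.Chunk
import Cfsg.Agent.Lib.CoThreeType.DescentData
import Cfsg.Agent.Lib.CoThreeType.Classes

/-!
# Kernel checks for the centralizer of an involution of the third class
-/

set_option autoImplicit false
set_option maxRecDepth 100000
-- the kernel checks run one after another, to bound the memory of the file
set_option Elab.async false

namespace Cfsg.Lib.CoThreeType

open Equiv Cfsg.Lib.PermAut Cfsg.Lib.J3Type

/-- Composition of lists of images. -/
def cmpL (a b : List ℕ) : List ℕ := b.map fun i => a.getD i 0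

/-- The identity. -/
def idI : List ℕ := List.range 6

/-- Equality of lists of numbers. -/
def eqL (a b : List ℕ) : Bool := all2 (fun x y => Nat.beq x y) a b

/-- Membership in a list of lists. -/
def memL (a : List ℕ) (l : List (List ℕ)) : Bool := l.any (eqL a)

/-- The value of a word in the images of the two elements. -/
def wvI (w : List ℕ) : List ℕ := w.foldr (fun k z => cmpL (hImg.getD k []) z) idI

/-- Powers. -/
def powI (a : List ℕ) : ℕ → List ℕ
  | 0 => idI
  | k + 1 => cmpL a (powI a k)

/-- The tables of the word of a number. -/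
def wT (x : ℕ) : List ℕ := (uSub.word x).map uSub.gT

/-- The image of a product of tables on the six pairs. -/
noncomputable def imgT (ts : List ℕ) : List ℕ :=
  (List.range 6).map fun k => ent 4 labN (ev 9 ts (aPts.getD k 0))

/-- The tables of a path in the whole group. -/
def kpth (u : List ℕ) : List ℕ := pickPath CoThree.cert.tr u

/-- The list of elements without powers among the conjugates of the first involution. -/
def okL : List (List ℕ) := colours.flatten

/-- The image times the element outside. -/
def cosL : List (List ℕ) := imgL.map (cmpL cImg)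

/-- The code of a conjugate of the third involution. -/
noncomputable def uOrbCode (j : ℕ) : ℕ :=
  pcode (pthOf (uOrb.get 32 j)) (stepC uTab (pcode (pthOf (uOrbInv.get 32 j)) codeOne))

/-- The check of one conjugate. -/
noncomputable def uOrbB (j : ℕ) : Bool :=
  pathOk centSub.lev (pthOf (uOrb.get 32 j)) && pathOk centSub.lev (pthOf (uOrbInv.get 32 j)) &&
    Nat.beq (pcode (pthOf (uOrb.get 32 j)) (pcode (pthOf (uOrbInv.get 32 j)) codeOne)) codeOne &&
    (Nat.beq (Nat.add j 1) 7560 || Nat.blt (uOrbCode j) (uOrbCode (Nat.add j 1)))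

/-- The check of a range of conjugates. -/
noncomputable def uOrbsB (lo : ℕ) : Bool := (List.range 1512).all fun j => uOrbB (Nat.add lo j)

/-- The check of the labels of the fixed points. -/
noncomputable def labB : Bool :=
  ((List.range 276).all fun x => !(Nat.beq (ent 9 uTab x) x) ||
    (Nat.blt (ent 4 labN x) 6 && (Nat.beq x (aPts.getD (ent 4 labN x) 0) ||
      Nat.beq x (ent 9 aTab (aPts.getD (ent 4 labN x) 0))) &&
      Nat.beq (ent 4 labN (ent 9 aTab x)) (ent 4 labN x))) &&
  (List.range 6).all fun k => Nat.blt (aPts.getD k 0) 276 && Nat.beq (ent 4 labN (aPts.getD k 0)) k &&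
    Nat.beq (ent 9 uTab (aPts.getD k 0)) (aPts.getD k 0)

/-- The check of one element commuting with both involutions. -/
noncomputable def tagB (e : ℕ × ℕ × ℕ × List ℕ) : Bool :=
  let z := bif Nat.beq e.2.1 2 || Nat.beq e.2.1 4 then uSub.mul e.1 uIdx else e.1
  bif Nat.beq e.2.1 0 then
    Nat.beq e.1 uSub.root || Nat.beq e.1 uIdx || !(Nat.beq (uSub.mul e.1 e.1) uSub.root)
  else bif Nat.ble e.2.1 2 then
    Nat.blt e.2.2.1 2 && pathOk centSub.lev e.2.2.2 &&
      Nat.beq (pcode e.2.2.2 (uSub.code.get 36 z)) (stepC (repTab e.2.2.1) (pcode e.2.2.2 codeOne))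
  else
    Nat.ble e.2.1 4 && pathOk CoThree.cert.tr e.2.2.2 && sameB 9 276 (kpth e.2.2.2 ++ [aTab]) (wT z ++ kpth e.2.2.2) &&
      sameB 9 276 (kpth e.2.2.2 ++ [uTab]) (uTab :: kpth e.2.2.2)

/-- The check of a product in the third class. -/
noncomputable def witB (e : ℕ × List ℕ) : Bool :=
  Nat.blt e.1 384 && pathOk centSub.lev e.2 &&
    Nat.beq (pcode e.2 (uSub.code.get 36 e.1)) (stepC uTab (pcode e.2 codeOne))

theorem uSub_gens : uSub.gensB = true ∧ uSub.rootB = true ∧ uSub.size = 384 ∧
    ((List.range uSub.gens.length).all fun k => sameB 9 276 [uSub.gT k, uTab] [uTab, uSub.gT k]) = true := by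
  refine ⟨?_, ?_, rfl, ?_⟩ <;> decide +kernel

theorem uSub_nodes : uSub.nodesB 0 384 = true := by decide +kernel

theorem uOrb_ok0 : uOrbsB 0 = true := by decide +kernel

theorem uOrb_ok1 : uOrbsB 1512 = true := by decide +kernel

theorem uOrb_ok2 : uOrbsB 3024 = true := by decide +kernel

theorem uOrb_ok3 : uOrbsB 4536 = true := by decide +kernel

theorem uOrb_ok4 : uOrbsB 6048 = true := by decide +kernel

theorem named_ok : (invPairOk 9 276 aTab aTab && Nat.blt uIdx 384 && Nat.blt aIdx 384 && Nat.blt tIdx 384 &&
    sameB 9 276 [aTab] (wT aIdx) && sameB 9 276 [uTab] (wT uIdx) && sameB 9 276 [tTab] (wT tIdx) &&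
    sameB 9 276 [lTab.getD 6 0, tTab] [vTab, lTab.getD 6 0]) = true := by decide +kernel

theorem sList_ok : (((List.range 384).all fun x => !(Nat.beq (uSub.mul x aIdx) (uSub.mul aIdx x)) ||
      sList.any (Nat.beq x)) &&
    eqL (sTags.map Prod.fst) sList && sList.all fun x => Nat.blt x 384) = true := by decide +kernel

theorem sComm_ok : (sList.all fun x => Nat.beq (uSub.mul x aIdx) (uSub.mul aIdx x)) = true := by decide +kernel

theorem tags_ok : sTags.all tagB = true := by decide +kernel

theorem wit_ok : (uWit.all witB && eqL (uWit.map Prod.fst) [uSub.mul tIdx uIdx, uSub.mul tIdx aIdx,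
    uSub.mul tIdx (uSub.mul aIdx uIdx), aIdx, uSub.mul aIdx uIdx]) = true := by decide +kernel

theorem lab_ok : labB = true := by decide +kernel

theorem gens_ok : ((List.range 2).all fun k => pathOk CoThree.cert.tr (hPath.getD k []) &&
    sameB 9 276 (kpth (hPath.getD k []) ++ [uTab]) (uTab :: kpth (hPath.getD k [])) &&
    sameB 9 276 (kpth (hPath.getD k []) ++ [aTab]) (aTab :: kpth (hPath.getD k [])) &&
    eqL (imgT (kpth (hPath.getD k []))) (hImg.getD k [])) = true := by decide +kernel

theorem img_ok : (eqL (imgW.map fun w => bif w.all (fun k => Nat.blt k 2) then 1 else 0)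
      (List.replicate 120 1) && Nat.beq imgL.length 120 &&
    ((List.range 120).all fun k => eqL (wvI (imgW.getD k [])) (imgL.getD k [])) &&
    (sList.all fun x => memL (imgT (wT x)) imgL && (!(eqL (imgT (wT x)) idI) ||
      Nat.beq x uSub.root || Nat.beq x uIdx || Nat.beq x aIdx || Nat.beq x (uSub.mul aIdx uIdx))) &&
    eqL (imgT (wT tIdx)) tImg && (sImgs.all fun s => sList.any fun x => eqL (imgT (wT x)) s)) = true := by
  decide +kernel

set_option maxHeartbeats 1000000 in -- long kernel checks
theorem outside_ok : (eqL (cmpL cImg tImg) (cmpL tImg cImg) && !(memL cImg imgL) &&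
    (List.permutations' idI).all fun g => memL g imgL || imgL.any fun l => memL (cmpL l g) cosL) = true := by
  refine Bool.and_eq_true_iff.2 ⟨?_, all_split 240 ?_ (all_split 240 ?_ ?_)⟩
  all_goals decide +kernel

theorem timgs_ok : ((tImgs.all fun T => memL T imgL && imgL.any fun l => eqL (cmpL T l) (cmpL l tImg)) &&
    ((List.range 15).all fun i => (List.range i).all fun j => !(eqL (tImgs.getD i []) (tImgs.getD j []))) &&
    Nat.beq tImgs.length 15 &&
    tImgs.any fun A => tImgs.any fun B => eqL (cmpL tImg (cmpL A B)) idI) = true := by decide +kernel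

theorem conj_ok : (imgL.all fun z => !(eqL (cmpL z z) idI) ||
    imgL.any fun l => sImgs.any fun s => eqL (cmpL l z) (cmpL s l)) = true := by decide +kernel

theorem colour_ok : (Nat.ble colours.length 14 &&
    (imgL.all fun z => memL z okL || (List.range 6).any fun k => memL (powI z k) tImgs) &&
    colours.all fun C => C.all fun x => C.all fun y => eqL x y || !(memL (cmpL x y) okL) ||
      !(okL.any fun z => eqL (cmpL x z) y)) = true := by decide +kernel

end Cfsg.Lib.CoThreeType
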