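import Cfsg.Agent.Lib.CoThreeType.DescentBase

/-!
# The common centralizer of two involutions of the third class acts on six pairs
-/

set_option autoImplicit false
set_option maxRecDepth 100000

namespace Cfsg.Lib.CoThreeType

open Equiv Cfsg.Lib.PermAut Cfsg.Lib.J3Type

/-- The common centralizer in the model of two commuting involutions of the third class. -/
noncomputable def hTwo : Subgroup P276 := KK ⊓ Subgroup.centralizer {uP} ⊓ Subgroup.centralizer {aP}

theorem mem_hTwo {g : P276} : g ∈ hTwo ↔ g ∈ KK ∧ g * uP = uP * g ∧ g * aP = aP * g := by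
  simp only [hTwo, Subgroup.mem_inf, Subgroup.mem_centralizer_singleton_iff, and_assoc]

theorem au_comm : aP * uP = uP * aP :=
  el_named.2.1 ▸ uSub_comm _ (uSub_valid.el_mem (lt_size named_spec.2.2.2.1)).2

theorem tu_comm : tP * uP = uP * tP ∧ tP * aP = aP * tP :=
  ⟨(t_spec.2.2.2.2 uP u_rep.2.1).symm, (t_spec.2.2.2.2 aP aP_mem).symm⟩

/-- The first involution. -/
noncomputable def tH : hTwo := ⟨tP, mem_hTwo.2 ⟨cm_le_KK.1 t_spec.2.2.2.1, tu_comm.1, tu_comm.2⟩⟩

/-- The third involution. -/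
noncomputable def uH : hTwo := ⟨uP, mem_hTwo.2 ⟨cm_le_KK.1 u_rep.2.1, rfl, au_comm.symm⟩⟩

/-- The commuting involution. -/
noncomputable def aH : hTwo := ⟨aP, mem_hTwo.2 ⟨cm_le_KK.1 aP_mem, au_comm, rfl⟩⟩

theorem tH_sq : tH * tH = 1 := Subtype.ext t_spec.2.2.1

/-- A point of each pair. -/
def pt (k : Fin 6) : Fin 276 := ⟨aPts.getD k 0 % 276, Nat.mod_lt _ (by norm_num)⟩

/-- The number of the pair of a point. -/
def lab (x : Fin 276) : ℕ := ent 4 labN x

theorem pt_spec (k : Fin 6) : (pt k : ℕ) = aPts.getD k 0 ∧ lab (pt k) = k ∧ uP (pt k) = pt k := by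
  have h := lab_ok
  simp only [labB, Bool.and_eq_true, List.all_eq_true, List.mem_range, Nat.beq_eq, Nat.blt, Nat.ble_eq] at h
  obtain ⟨⟨h1, h2⟩, h3⟩ := h.2 k k.2
  have e : (pt k : ℕ) = aPts.getD k 0 := Nat.mod_eq_of_lt h1
  exact ⟨e, by rw [lab, e, h2], Fin.ext (by rw [u_rep.1 (pt k), e, h3])⟩

theorem lab_spec {x : Fin 276} (hx : uP x = x) :
    ∃ k : Fin 6, lab x = k ∧ (x = pt k ∨ x = aP (pt k)) ∧ lab (aP x) = k := by
  have h := lab_ok
  simp only [labB, Bool.and_eq_true, List.all_eq_true, List.mem_range, Nat.beq_eq, Nat.blt, Nat.ble_eq,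
    Bool.or_eq_true, Bool.not_eq_true'] at h
  obtain ⟨⟨h1, h2⟩, h3⟩ := (h.1 x x.2).resolve_left (by
    rw [← u_rep.1 x, hx, Nat.beq_refl]; simp)
  refine ⟨⟨lab x, h1⟩, rfl, h2.imp (fun e => ?_) (fun e => ?_), ?_⟩
  · exact Fin.ext (e.trans (pt_spec ⟨lab x, h1⟩).1.symm)
  · refine Fin.ext (e.trans ?_)
    rw [named_spec.1, (pt_spec ⟨lab x, h1⟩).1]
    rfl
  · show ent 4 labN (aP x) = _
    rw [named_spec.1 x, h3]
    rfl

/-- The action of an element on the pairs. -/
def actP (g : P276) (k : Fin 6) : Fin 6 := ⟨lab (g (pt k)) % 6, Nat.mod_lt _ (by norm_num)⟩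

theorem actP_lab {g : P276} (hu : g * uP = uP * g) (k : Fin 6) :
    (actP g k : ℕ) = lab (g (pt k)) ∧ uP (g (pt k)) = g (pt k) := by
  have hf : uP (g (pt k)) = g (pt k) := by
    have e := DFunLike.congr_fun hu (pt k)
    rw [Perm.mul_apply, Perm.mul_apply, (pt_spec k).2.2] at e
    exact e.symm
  obtain ⟨j, hj, -⟩ := lab_spec hf
  exact ⟨Nat.mod_eq_of_lt (hj ▸ j.2), hf⟩

theorem actP_mul {g h : P276} (hg : g * uP = uP * g) (hga : g * aP = aP * g) (hh : h * uP = uP * h)
    (k : Fin 6) : actP (g * h) k = actP g (actP h k) := by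
  obtain ⟨e1, hf⟩ := actP_lab hh k
  obtain ⟨j, hj, hcase, -⟩ := lab_spec hf
  have hjk : actP h k = j := Fin.ext (e1.trans hj)
  rw [hjk]
  refine Fin.ext ?_
  show lab ((g * h) (pt k)) % 6 = lab (g (pt j)) % 6
  rw [Perm.mul_apply]
  rcases hcase with e | e
  · rw [e]
  · have e' : g (h (pt k)) = aP (g (pt j)) := by
      rw [e]; exact DFunLike.congr_fun hga (pt j)
    obtain ⟨i, hi, -, hi'⟩ := lab_spec (actP_lab hg j).2
    rw [e', hi', hi]

theorem actP_one (k : Fin 6) : actP 1 k = k :=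
  Fin.ext (by show lab (pt k) % 6 = k; rw [(pt_spec k).2.1, Nat.mod_eq_of_lt k.2])

/-- The action on the pairs. -/
noncomputable def piH : hTwo →* Perm (Fin 6) where
  toFun g :=
    { toFun := actP g
      invFun := actP (g : P276)⁻¹
      left_inv := fun k => by
        have h := mem_hTwo.1 g.2
        have h' := mem_hTwo.1 (inv_mem g.2)
        rw [← actP_mul h'.2.1 h'.2.2 h.2.1, inv_mul_cancel, actP_one]
      right_inv := fun k => by
        have h := mem_hTwo.1 g.2
        have h' := mem_hTwo.1 (inv_mem g.2)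
        rw [← actP_mul h.2.1 h.2.2 h'.2.1, mul_inv_cancel, actP_one] }
  map_one' := Equiv.ext actP_one
  map_mul' g h := Equiv.ext fun k =>
    actP_mul (mem_hTwo.1 g.2).2.1 (mem_hTwo.1 g.2).2.2 (mem_hTwo.1 h.2).2.1 k

/-- The images of a permutation of six points. -/
def encP (s : Perm (Fin 6)) : List ℕ := List.ofFn fun i => (s i : ℕ)

theorem encP_mul (s r : Perm (Fin 6)) : encP (s * r) = cmpL (encP s) (encP r) := by
  simp only [cmpL, encP, List.map_ofFn]
  refine congrArg List.ofFn (funext fun i => ?_)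
  show (s (r i) : ℕ) = (List.ofFn fun j => (s j : ℕ)).getD (r i : ℕ) 0
  rw [List.getD_eq_getElem _ _ (by simp), List.getElem_ofFn]

theorem encP_one : encP 1 = idI := rfl

theorem encP_inj : Function.Injective encP := fun _ _ e =>
  Equiv.ext fun i => Fin.ext (congrFun (List.ofFn_inj.1 e) i)

theorem encP_pow (s : Perm (Fin 6)) : ∀ k : ℕ, encP (s ^ k) = powI (encP s) k
  | 0 => encP_one
  | k + 1 => by rw [pow_succ', encP_mul, encP_pow s k]; rfl

theorem encP_mem (s : Perm (Fin 6)) : encP s ∈ List.permutations' idI := by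
  rw [List.mem_permutations']
  refine (List.perm_ext_iff_of_nodup ?_ (List.nodup_range)).2 fun a => ?_
  · exact List.nodup_ofFn.2 fun i j e => s.injective (Fin.ext e)
  · simp only [encP, List.mem_ofFn', Set.mem_range, idI, List.mem_range]
    exact ⟨fun ⟨i, hi⟩ => hi ▸ (s i).2, fun ha => ⟨s.symm ⟨a, ha⟩, by simp⟩⟩

theorem enc_pi {n : hTwo} {ts : List ℕ} (hr : ∀ T ∈ ts, Rep 9 (toP 9 276 T) T)
    (e : (n : P276) = (ts.map (toP 9 276)).prod) : encP (piH n) = imgT ts := by
  refine List.ext_getElem (by simp [encP, imgT]) fun i hi _ => ?_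
  have hi6 : i < 6 := by simpa [encP] using hi
  simp only [encP, imgT, List.getElem_ofFn, List.getElem_map, List.getElem_range]
  show (actP (n : P276) ⟨i, hi6⟩ : ℕ) = _
  rw [(actP_lab (mem_hTwo.1 n.2).2.1 _).1, lab, e, ev_rep hr, (pt_spec ⟨i, hi6⟩).1]

theorem lift_img {l : List ℕ} (hl : l ∈ imgL) : ∃ n : hTwo, encP (piH n) = l := by
  have hgen : ∀ k < 2, ∃ n : hTwo, encP (piH n) = hImg.getD k [] := fun k hk => by
    have h := List.all_eq_true.1 gens_ok k (List.mem_range.2 hk)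
    simp only [Bool.and_eq_true, all2_beq_iff] at h
    obtain ⟨⟨⟨hp, hu⟩, ha⟩, hi⟩ := h
    have rA := named_spec.1
    have eu := kpth_eq (l := [uTab]) hp u_rep.1 (by simpa [uP] using u_rep.1) hu
    have ea := kpth_eq (l := [aTab]) hp rA (by simpa [aP] using rA) ha
    rw [List.map_singleton, List.prod_singleton] at eu ea
    refine ⟨⟨_, mem_hTwo.2 ⟨(kpth_rep hp).2, mul_inv_eq_iff_eq_mul.1 eu, mul_inv_eq_iff_eq_mul.1 ea⟩⟩, ?_⟩
    rw [enc_pi (kpth_rep hp).1 rfl, hi]
  have h := img_ok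
  simp only [Bool.and_eq_true, all2_beq_iff, List.all_eq_true, List.mem_range, Nat.beq_eq] at h
  obtain ⟨⟨⟨⟨⟨hlet, hlen⟩, hw⟩, -⟩, -⟩, -⟩ := h
  obtain ⟨k, hk, rfl⟩ := List.getElem_of_mem hl
  rw [← List.getD_eq_getElem _ [] hk, ← hw k (hlen ▸ hk)]
  have hk' : k < imgW.length := by
    have := congrArg List.length hlet
    rw [List.length_map, List.length_replicate] at this
    omega
  have hall : ∀ j ∈ imgW.getD k [], j < 2 := by
    have e := List.getElem_of_eq hlet (i := k) (by rw [List.length_map]; exact hk')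
    rw [List.getElem_map, List.getElem_replicate] at e
    rw [List.getD_eq_getElem _ _ hk']
    intro j hj
    cases hc : (imgW[k].all fun k => Nat.blt k 2)
    · rw [hc] at e; simp at e
    · exact Nat.le_of_ble_eq_true (List.all_eq_true.1 hc j hj)
  revert hall
  generalize imgW.getD k [] = w
  intro hall
  induction w with
  | nil => exact ⟨1, by rw [map_one, encP_one]; rfl⟩
  | cons j w ih =>
    obtain ⟨n, hn⟩ := ih fun i hi => hall i (List.mem_cons_of_mem _ hi)
    obtain ⟨m, hm⟩ := hgen j (hall j (List.mem_cons_self ..))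
    exact ⟨m * n, by rw [map_mul, encP_mul, hn, hm]; rfl⟩

/-- The group generated by the two involutions. -/
noncomputable def pTwo : Subgroup hTwo := Subgroup.closure {uH, aH}

theorem pTwo_central {p : hTwo} (hp : p ∈ pTwo) (g : hTwo) : g * p = p * g := by
  induction hp using Subgroup.closure_induction with
  | mem x hx =>
    rcases hx with rfl | rfl
    · exact Subtype.ext (mem_hTwo.1 g.2).2.1
    · exact Subtype.ext (mem_hTwo.1 g.2).2.2
  | one => simp
  | mul x y _ _ hx hy => rw [← mul_assoc, hx, mul_assoc, hy, mul_assoc]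
  | inv x _ hx => rw [eq_inv_mul_iff_mul_eq, ← mul_assoc, ← hx, mul_inv_cancel_right]

theorem pTwo_cases {p : hTwo} (hp : p ∈ pTwo) :
    (p : P276) = 1 ∨ (p : P276) = uP ∨ (p : P276) = aP ∨ (p : P276) = aP * uP := by
  have u2 : uP * uP = 1 := u_rep.2.2
  have a2 : aP * aP = 1 := named_spec.2.1
  have c : ∀ x, aP * (aP * x) = x := fun x => by rw [← mul_assoc, a2, one_mul]
  have d : ∀ x, uP * (uP * x) = x := fun x => by rw [← mul_assoc, u2, one_mul]
  have e : ∀ x, uP * (aP * x) = aP * (uP * x) := fun x => by rw [← mul_assoc, ← au_comm, mul_assoc]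
  induction hp using Subgroup.closure_induction with
  | mem x hx => rcases hx with rfl | rfl <;> simp [uH, aH]
  | one => simp
  | mul x y _ _ hx hy =>
    rcases hx with hx | hx | hx | hx <;> rcases hy with hy | hy | hy | hy <;>
      simp [hx, hy, mul_assoc, u2, a2, c, d, e, ← au_comm]
  | inv x _ hx =>
    rcases hx with hx | hx | hx | hx
    · simp [hx]
    · exact Or.inr (Or.inl (by rw [InvMemClass.coe_inv, hx, inv_eq_of_mul_eq_one_right u2]))
    · exact Or.inr (Or.inr (Or.inl (by rw [InvMemClass.coe_inv, hx, inv_eq_of_mul_eq_one_right a2])))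
    · refine Or.inr (Or.inr (Or.inr ?_))
      rw [InvMemClass.coe_inv, hx, mul_inv_rev, inv_eq_of_mul_eq_one_right u2, inv_eq_of_mul_eq_one_right a2, au_comm]

theorem sList_comm {x : ℕ} (hx : x ∈ sList) : uSub.el x * aP = aP * uSub.el x := by
  have hx' := sList_lt hx
  obtain ⟨-, -, -, na, -, -⟩ := named_spec
  have h := List.all_eq_true.1 sComm_ok x hx
  rw [← el_named.2.1, ← (el_mul' hx' na).2, ← (el_mul' na hx').2, Nat.beq_eq.mp h]

theorem pi_u : piH uH = 1 :=
  Equiv.ext fun k => Fin.ext (by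
    show (actP uP k : ℕ) = k
    rw [(actP_lab rfl k).1, (pt_spec k).2.2, (pt_spec k).2.1])

theorem pi_a : piH aH = 1 :=
  Equiv.ext fun k => Fin.ext (by
    show (actP aP k : ℕ) = k
    rw [(actP_lab au_comm k).1]
    obtain ⟨j, hj, -, hj'⟩ := lab_spec (pt_spec k).2.2
    rw [hj', ← hj, (pt_spec k).2.1])

theorem pTwo_ker : pTwo ≤ piH.ker := by
  rw [pTwo, Subgroup.closure_le]
  rintro x (rfl | rfl)
  · exact pi_u
  · exact pi_a

section

variable (hCm : ∀ g ∈ KK, g * tP = tP * g → g ∈ Cm) (hu : ∀ c ∈ KK, c * tP * c⁻¹ ≠ uP)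

include hu in
theorem t_mul_unique {g p : hTwo} (hp : p ∈ pTwo) (e : g * tH * g⁻¹ = tH * p) : p = 1 := by
  have hp' := pTwo_cases hp
  by_contra hne
  have hz : tP * (p : P276) ∈ [tP * uP, tP * aP, tP * (aP * uP), aP, aP * uP] := by
    rcases hp' with h | h | h | h
    · exact absurd (Subtype.ext h) hne
    all_goals simp [h]
  obtain ⟨c, hc, hcz⟩ := u_class hz
  refine hu (c⁻¹ * g) (mul_mem (inv_mem (cm_le_KK.1 hc)) (mem_hTwo.1 g.2).1) ?_
  have e' : (g : P276) * tP * (g : P276)⁻¹ = tP * p := congrArg Subtype.val e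
  rw [show c⁻¹ * (g : P276) * tP * (c⁻¹ * (g : P276))⁻¹ = c⁻¹ * ((g : P276) * tP * (g : P276)⁻¹) * c by group,
    e', ← hcz]
  group

include hCm in
theorem comm_s {n : hTwo} (hn : n * tH = tH * n) :
    ∃ x ∈ sList, uSub.el x = n ∧ x < 384 ∧ encP (piH n) = imgT (wT x) := by
  obtain ⟨hK, h2, h3⟩ := mem_hTwo.1 n.2
  obtain ⟨x, hx, hxs, e⟩ := s_mem (hCm _ hK (congrArg Subtype.val hn)) h2 h3
  exact ⟨x, hxs, e, hx, enc_pi (wT_rep hx) (e.symm.trans (el_tables x))⟩

include hCm in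
theorem comm_ker {n : hTwo} (hn : n * tH = tH * n) (hk : piH n = 1) : n ∈ pTwo := by
  obtain ⟨x, hxs, e, hx, hi⟩ := comm_s hCm hn
  rw [hk, encP_one] at hi
  have h := img_ok
  simp only [Bool.and_eq_true, all2_beq_iff, List.all_eq_true, Bool.or_eq_true, Bool.not_eq_true', Nat.beq_eq] at h
  obtain ⟨⟨⟨-, hs⟩, -⟩, -⟩ := h
  have hu' : uH ∈ pTwo := Subgroup.subset_closure (Or.inl rfl)
  have ha' : aH ∈ pTwo := Subgroup.subset_closure (Or.inr rfl)
  obtain ⟨-, -, nu, na, -, -⟩ := named_spec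
  rcases (hs x hxs).2 with (((h | h) | h) | h) | h
  · rw [← hi, eqL_self] at h; exact Bool.noConfusion h
  · have : n = 1 := Subtype.ext (by rw [← e, h, uSub_valid.el_root]; rfl)
    exact this ▸ one_mem _
  · have : n = uH := Subtype.ext (by rw [← e, h, el_named.1]; rfl)
    exact this ▸ hu'
  · have : n = aH := Subtype.ext (by rw [← e, h, el_named.2.1]; rfl)
    exact this ▸ ha'
  · have : n = aH * uH := Subtype.ext (by rw [← e, h, (el_mul' na nu).2, el_named.1, el_named.2.1]; rfl)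
    exact this ▸ mul_mem ha' hu'

theorem enc_tH : encP (piH tH) = tImg := by
  have h := img_ok
  simp only [Bool.and_eq_true, all2_beq_iff] at h
  rw [← h.1.2]
  exact enc_pi (wT_rep named_spec.2.2.2.2.1) (el_named.2.2.symm.trans (el_tables _))

theorem timg_lift {A : List ℕ} (hA : A ∈ tImgs) : ∃ c : hTwo, encP (piH (c * tH * c⁻¹)) = A := by
  have h := timgs_ok
  simp only [Bool.and_eq_true, List.all_eq_true, List.any_eq_true, all2_beq_iff, memL_iff] at h
  obtain ⟨⟨⟨h1, -⟩, -⟩, -⟩ := h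
  obtain ⟨hAl, l, hl, e⟩ := h1 A hA
  obtain ⟨c, rfl⟩ := lift_img hl
  obtain ⟨n, rfl⟩ := lift_img hAl
  refine ⟨c, ?_⟩
  rw [← enc_tH, ← encP_mul, ← encP_mul] at e
  rw [map_mul, map_mul, map_inv, ← encP_inj e, mul_inv_cancel_right]

include hCm hu in
theorem ker_eq : piH.ker = pTwo := by
  refine le_antisymm (fun n0 hn0 => ?_) pTwo_ker
  haveI : pTwo.Normal := ⟨fun p hp g => by rw [pTwo_central hp g, mul_inv_cancel_right]; exact hp⟩
  let θ := QuotientGroup.mk' pTwo
  let Q : Subgroup (hTwo ⧸ pTwo) := piH.ker.map θ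
  haveI : Q.Normal := Subgroup.Normal.map inferInstance θ (QuotientGroup.mk'_surjective pTwo)
  let φ : ↥Q →* ↥Q := (MulAut.conjNormal (θ tH)).toMonoidHom
  have hφv : ∀ q : ↥Q, (φ q : hTwo ⧸ pTwo) = θ tH * q * (θ tH)⁻¹ := fun q => rfl
  have htt : θ tH * θ tH = 1 := by rw [← map_mul, tH_sq, map_one]
  have hfp : MonoidHom.FixedPointFree (⇑φ) := by
    rintro ⟨_, n, hn, rfl⟩ hq
    have e : θ (tH * n * tH⁻¹) = θ n := by
      rw [map_mul, map_mul, map_inv]; exact congrArg Subtype.val hq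
    obtain ⟨z, hz, ez⟩ := (QuotientGroup.mk'_eq_mk' pTwo).1 e.symm
    have ez' : n⁻¹ * tH * n⁻¹⁻¹ = tH * z := by
      rw [pTwo_central hz tH, inv_inv]
      rw [show z = n⁻¹ * (tH * n * tH⁻¹) by rw [← ez, inv_mul_cancel_left]]
      group
    rw [t_mul_unique hu hz ez', mul_one] at ez
    have hc : n * tH = tH * n := (eq_mul_inv_iff_mul_eq.1 ez)
    exact Subtype.ext ((QuotientGroup.eq_one_iff n).2 (comm_ker hCm hc hn))
  have hinv : Function.Involutive φ := fun q => by
    refine Subtype.ext ?_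
    rw [hφv, hφv, inv_eq_of_mul_eq_one_right htt]
    rw [show θ tH * (θ tH * (q : hTwo ⧸ pTwo) * θ tH) * θ tH = θ tH * θ tH * q * (θ tH * θ tH) by group, htt,
      one_mul, mul_one]
  have hneg : ∀ q ∈ Q, θ tH * q * (θ tH)⁻¹ = q⁻¹ := fun q hq =>
    congrArg Subtype.val (congrFun (hfp.coe_eq_inv_of_involutive hinv) ⟨q, hq⟩)
  have hneg' : ∀ c : hTwo, ∀ q ∈ Q, θ (c * tH * c⁻¹) * q * (θ (c * tH * c⁻¹))⁻¹ = q⁻¹ := fun c q hq => by
    have hq' : (θ c)⁻¹ * q * θ c ∈ Q := by
      simpa using Subgroup.Normal.conj_mem inferInstance q hq (θ c)⁻¹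
    have := congrArg (fun z => θ c * z * (θ c)⁻¹) (hneg _ hq')
    simp only [map_mul, map_inv, mul_inv_rev, inv_inv, mul_assoc, mul_inv_cancel_left, mul_inv_cancel, mul_one] at this ⊢
    exact this
  have hab : ∀ q ∈ Q, ∀ r ∈ Q, q * r = r * q := fun q hq r hr =>
    congrArg Subtype.val (hfp.commute_all_of_involutive hinv ⟨q, hq⟩ ⟨r, hr⟩).eq
  have h := timgs_ok
  simp only [Bool.and_eq_true, List.any_eq_true, all2_beq_iff] at h
  obtain ⟨A, hA, B, hB, eAB⟩ := h.2
  obtain ⟨ca, ha⟩ := timg_lift hA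
  obtain ⟨cb, hb⟩ := timg_lift hB
  set fa := ca * tH * ca⁻¹
  set fb := cb * tH * cb⁻¹
  rw [← enc_tH, ← ha, ← hb, ← encP_mul, ← encP_mul, ← encP_one, ← map_mul, ← map_mul] at eAB
  have hwQ : θ (tH * (fa * fb)) ∈ Q := Subgroup.mem_map_of_mem θ (encP_inj eAB)
  have key : ∀ q ∈ Q, q = 1 := fun q hq => by
    have e1 : θ (tH * (fa * fb)) * q * (θ (tH * (fa * fb)))⁻¹ = q := by
      rw [hab _ hwQ q hq, mul_inv_cancel_right]
    have e2 : θ (tH * (fa * fb)) * q * (θ (tH * (fa * fb)))⁻¹ = q⁻¹ := by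
      rw [show θ (tH * (fa * fb)) * q * (θ (tH * (fa * fb)))⁻¹ =
        θ tH * (θ fa * (θ fb * q * (θ fb)⁻¹) * (θ fa)⁻¹) * (θ tH)⁻¹ by simp only [map_mul]; group,
        hneg' cb q hq, hneg' ca _ (inv_mem hq), inv_inv, hneg q hq]
    have e3 : φ ⟨q, hq⟩ = ⟨q, hq⟩ := Subtype.ext ((hneg q hq).trans (e2.symm.trans e1))
    exact congrArg Subtype.val (hfp _ e3)
  exact (QuotientGroup.eq_one_iff n0).1 (key _ (Subgroup.mem_map_of_mem θ hn0))

include hCm hu in
theorem comm_of_pi {g : hTwo} (h : piH g * piH tH = piH tH * piH g) : g * tH = tH * g := by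
  have hk : tH⁻¹ * (g * tH * g⁻¹) ∈ piH.ker := by
    rw [MonoidHom.mem_ker, map_mul, map_mul, map_mul, map_inv, map_inv, h, mul_inv_cancel_right, inv_mul_cancel]
  rw [ker_eq hCm hu] at hk
  have e : g * tH * g⁻¹ = tH * (tH⁻¹ * (g * tH * g⁻¹)) := by rw [mul_inv_cancel_left]
  have h1 := t_mul_unique hu hk e
  rw [h1, mul_one] at e
  exact mul_inv_eq_iff_eq_mul.1 e

include hCm hu in
theorem img_mem (g : hTwo) : encP (piH g) ∈ imgL := by
  have h := outside_ok
  simp only [Bool.and_eq_true, Bool.not_eq_true', List.all_eq_true, Bool.or_eq_true, List.any_eq_true,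
    all2_beq_iff, memL_iff] at h
  obtain ⟨⟨hc, hnot⟩, hall⟩ := h
  refine (hall _ (encP_mem _)).resolve_right ?_
  rintro ⟨l, hl, hm⟩
  obtain ⟨l', hl', e⟩ := List.mem_map.1 hm
  obtain ⟨n, rfl⟩ := lift_img hl
  obtain ⟨n', rfl⟩ := lift_img hl'
  have ez : encP (piH (n * g * n'⁻¹)) = cImg := by
    have e' : cmpL (encP (piH (n * g * n'⁻¹))) (encP (piH n')) = cmpL cImg (encP (piH n')) := by
      rw [e, ← encP_mul, ← encP_mul, ← map_mul, ← map_mul, inv_mul_cancel_right]
    refine List.ext_getElem (by simp [encP]; rfl) fun k hk hk' => ?_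
    have hk6 : k < 6 := by simpa [encP] using hk
    have hi : ((piH n').symm ⟨k, hk6⟩ : ℕ) < (cmpL (encP (piH (n * g * n'⁻¹))) (encP (piH n'))).length := by
      simp [cmpL, encP]
    have := List.getElem_of_eq e' hi
    simp only [cmpL, List.getElem_map, encP, List.getElem_ofFn, Fin.eta, Equiv.apply_symm_apply] at this
    rw [List.getD_eq_getElem _ _ (by simp [hk6]), List.getD_eq_getElem _ _ hk'] at this
    exact this
  have hcomm : piH (n * g * n'⁻¹) * piH tH = piH tH * piH (n * g * n'⁻¹) :=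
    encP_inj (by rw [encP_mul, encP_mul, ez, enc_tH]; exact hc)
  obtain ⟨x, hxs, -, -, hx⟩ := comm_s hCm (comm_of_pi hCm hu hcomm)
  have hi := img_ok
  simp only [Bool.and_eq_true, List.all_eq_true, memL_iff] at hi
  have hmem := (hi.1.1.2 x hxs).1
  rw [← hx, ez] at hmem
  rw [memL_iff.2 hmem] at hnot
  exact Bool.noConfusion hnot

include hCm hu in
/-- Every involution is conjugate to one commuting with the first. -/
theorem invol_into_s {i : hTwo} (hi : i * i = 1) : ∃ c : hTwo, c * i * c⁻¹ * tH = tH * (c * i * c⁻¹) := by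
  have h := conj_ok
  simp only [List.all_eq_true, Bool.or_eq_true, Bool.not_eq_true', List.any_eq_true, all2_beq_iff] at h
  obtain ⟨l, hl, s, hs, e⟩ := (h _ (img_mem hCm hu i)).resolve_left (by
    rw [← encP_mul, ← map_mul, hi, map_one, encP_one, eqL_self]; simp)
  obtain ⟨c, rfl⟩ := lift_img hl
  have hi' := img_ok
  simp only [Bool.and_eq_true, List.all_eq_true, List.any_eq_true, all2_beq_iff] at hi'
  obtain ⟨x, hx, ex⟩ := hi'.2 s hs
  have hx' := sList_lt hx
  have hxC := uSub_valid.el_mem (lt_size hx')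
  have h2 := sList_ok
  let xH : hTwo := ⟨uSub.el x, mem_hTwo.2 ⟨cm_le_KK.1 hxC.1, uSub_comm _ hxC.2, sList_comm hx⟩⟩
  rw [← ex, ← enc_pi (n := xH) (wT_rep hx') (el_tables x), ← encP_mul, ← encP_mul] at e
  have hk : (xH)⁻¹ * (c * i * c⁻¹) ∈ pTwo := by
    rw [← ker_eq hCm hu, MonoidHom.mem_ker, map_mul, map_inv, map_mul, map_mul, map_inv, encP_inj e,
      mul_inv_cancel_right, inv_mul_cancel]
  refine ⟨c, ?_⟩
  have hxt : xH * tH = tH * xH := Subtype.ext (t_spec.2.2.2.2 _ hxC.1)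
  rw [← mul_inv_cancel_left xH (c * i * c⁻¹), mul_assoc, ← pTwo_central hk tH, ← mul_assoc, hxt, mul_assoc]

include hCm hu in
/-- A subgroup without conjugates of the first involution has at most fourteen cosets. -/
theorem avoid_card (D : Subgroup hTwo) (hT : ∀ d ∈ D, ∀ c : hTwo, piH d ≠ piH (c * tH * c⁻¹)) :
    Nat.card (D.map piH) ≤ 14 := by
  classical
  have h := colour_ok
  simp only [Bool.and_eq_true, List.all_eq_true, Bool.or_eq_true, Bool.not_eq_true', List.any_eq_true,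
    List.mem_range, memL_iff, Nat.ble_eq] at h
  obtain ⟨⟨hlen, hcov⟩, hcls⟩ := h
  have hok : ∀ s : ↥(D.map piH), encP s ∈ okL := fun ⟨_, d, hd, rfl⟩ => by
    refine (hcov _ (img_mem hCm hu d)).resolve_right ?_
    rintro ⟨k, -, hk⟩
    obtain ⟨c, hc⟩ := timg_lift hk
    rw [← encP_pow, ← map_pow] at hc
    exact hT _ (pow_mem hd k) c (encP_inj hc.symm)
  have hC : ∀ s : ↥(D.map piH), ∃ k : Fin colours.length, encP s ∈ colours[k] := fun s => by
    obtain ⟨C, hC, hs⟩ := List.mem_flatten.1 (hok s)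
    obtain ⟨k, hk, rfl⟩ := List.getElem_of_mem hC
    exact ⟨⟨k, hk⟩, hs⟩
  choose f hf using hC
  refine le_trans (le_of_le_of_eq (Nat.card_le_card_of_injective f fun s r e => ?_) (Nat.card_fin _)) hlen
  have hr := hf r
  rw [← e] at hr
  rcases hcls _ (List.getElem_mem (f s).2) _ (hf s) _ hr with (h1 | h1) | h1
  · exact Subtype.ext (encP_inj (all2_beq_iff.1 h1))
  · exfalso
    rw [← encP_mul] at h1
    exact Bool.noConfusion (h1.symm.trans (memL_iff.2 (hok (s * r))))
  · exfalso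
    have h2 := List.any_eq_false.1 h1 _ (hok (s⁻¹ * r))
    rw [← encP_mul, Subgroup.coe_mul, Subgroup.coe_inv, mul_inv_cancel_left, eqL_self] at h2
    exact h2 rfl

/-- Fifteen conjugates of the first involution. -/
theorem fifteen : ∃ c : Fin 15 → hTwo, Function.Injective fun k => c k * tH * (c k)⁻¹ := by
  have h := timgs_ok
  simp only [Bool.and_eq_true, List.all_eq_true, List.mem_range, Bool.not_eq_true', Nat.beq_eq] at h
  obtain ⟨⟨⟨-, hd⟩, hlen⟩, -⟩ := h
  have hg : ∀ k : Fin 15, ∃ c : hTwo, encP (piH (c * tH * c⁻¹)) = tImgs.getD k [] := fun k =>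
    timg_lift (by rw [List.getD_eq_getElem _ _ (k.2.trans_le hlen.ge)]; exact List.getElem_mem _)
  choose c hc using hg
  refine ⟨c, fun i j e => ?_⟩
  have e' : tImgs.getD i [] = tImgs.getD j [] := by rw [← hc, ← hc]; exact congrArg (fun z => encP (piH z)) e
  rcases lt_trichotomy (i : ℕ) j with hl | hl | hl
  · have := hd j j.2 i hl; rw [← e', eqL_self] at this; exact Bool.noConfusion this
  · exact Fin.ext hl
  · have := hd i i.2 j hl; rw [e', eqL_self] at this; exact Bool.noConfusion this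

end

end Cfsg.Lib.CoThreeType
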