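import Cfsg.Agent.Lib.CoThreeType.NormRules

/-!
# The normalizer of the elementary subgroup with the swapping involution
-/

set_option autoImplicit false
set_option maxRecDepth 100000

namespace Cfsg.Lib.CoThreeType

open Equiv Cfsg.Lib.PermAut Cfsg.Lib.J3Type Subgroup

theorem wval_repW {M : Type*} [Group M] (C : J3Type.Cert) (g : ℕ → M) :
    ∀ fuel n, wval g (repW C fuel n) = repF C g fuel n
  | 0, n => rfl
  | fuel + 1, n => by
    rw [repW, repF]
    by_cases h : C.par.get 20 n / 32 < n
    · rw [if_pos h, show Nat.blt (Nat.div (C.par.get 20 n) 32) n = true from Nat.ble_eq ▸ h, cond_true,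
        wval_append, wval_repW C g fuel, wval_cons, wval_nil, mul_one]
      rfl
    · rw [if_neg h, show Nat.blt (Nat.div (C.par.get 20 n) 32) n = false from
        Bool.eq_false_iff.2 fun hb => h (Nat.le_of_ble_eq_true hb), cond_false]
      rfl

variable {G : Type*} [Group G] {t i : G} {ψ : Cm ≃* centralizer ({t} : Set G)}

/-- The pairs of the normalizer. -/
noncomputable def pairN (ψ : Cm ≃* centralizer ({t} : Set G)) (i : G) : Subgroup (G × P276) :=
  closure {y | ∃ j < 5, fP ψ i (baSig.getD j 0) = y}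

theorem pT_ba {j : ℕ} (hj : j < 5) : pT ψ i baLts j = fP ψ i (baSig.getD j 0) := by
  obtain ⟨-, hm, htab⟩ := baLts_ok
  rcases Nat.lt_or_ge j 4 with h | h
  · have ht := Nat.eq_of_beq_eq_true (List.all_eq_true.1 htab j (List.mem_range.2 h))
    have hpi : baLts.pi j = piL (baSig.getD j 0) := by
      rw [Lts.pi, if_neg (by omega), ht]; rfl
    have h6 : baSig.getD j 0 ≠ 6 := by interval_cases j <;> decide
    rw [pT, fP, gT, gam, hpi, if_neg (by omega), if_neg h6]
  · obtain rfl : j = 4 := by omega
    rw [pT, fP, gT, gam, Lts.pi, if_pos hm.symm, if_pos hm.symm, show baSig.getD 4 0 = 6 from rfl, if_pos rfl]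


variable [Finite G]

/-- Pairs of the normalizer are determined by the model. -/
theorem Cfg.pairN_inj (H : Cfg t ψ i dSg) {z : G × P276} (hz : z ∈ pairN ψ i) (hz2 : z.2 = 1) : z = 1 := by
  classical
  obtain ⟨V, hm, -⟩ := baLts_ok
  set f := pT ψ i baLts with hf
  have hfull := full_val H dSg_hom.1 V ex_ok baFull_ok
  rw [hm] at hfull
  have hloc : ∀ w, renOk baSig w = true → wval f w = wval (fP ψ i) (ren baSig w) := by
    intro w hw
    rw [ren_spec hw]
    rw [wval, wval]
    congr 1
    refine List.map_congr_left fun l hl => ?_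
    simp only [renOk, Bool.and_eq_true, List.all_eq_true, Nat.blt, Nat.ble_eq] at hw
    have : l / 2 < 5 := hw.1.1 l hl
    unfold lval
    rw [hf, pT_ba this]
  have hfullv : ∀ w ∈ fullW 8 baCertRel baCertAl baCertFree, wval f w = 1 := by
    intro w hw
    refine Prod.ext ?_ ?_
    · rw [pT_fst]; exact hfull w hw
    · have h := List.all_eq_true.1 baModel_ok w hw
      rw [Bool.and_eq_true] at h
      rw [hloc w h.1, fP_snd]
      exact trivG_spec h.2
  have hrules := rules_val baRules_ok hfullv
  have hV : Valid baCert f (graphC ψ) := by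
    refine ⟨fun ws hws w hw => hrules w (List.mem_flatten.2 ⟨ws, hws, hw⟩), fun s hs => ?_⟩
    rw [show baCert.subs = [0, 2, 4, 6] from rfl] at hs
    simp only [List.mem_cons, List.not_mem_nil, or_false] at hs
    rcases hs with rfl | rfl | rfl | rfl
    · exact pT_graph V (k := 0) (by omega)
    · exact pT_graph V (k := 1) (by omega)
    · exact pT_graph V (k := 2) (by omega)
    · exact pT_graph V (k := 3) (by omega)
  have hcl : pairN ψ i ≤ closure {y | ∃ j < baCert.gens.length, lval f (baCert.gens.getD j idL) = y} := by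
    refine closure_mono ?_
    rintro y ⟨j, hj, rfl⟩
    refine ⟨j, by rw [show baCert.gens = [0, 2, 4, 6, 8] from rfl]; exact hj, ?_⟩
    rw [show baCert.gens = [0, 2, 4, 6, 8] from rfl, ← pT_ba hj]
    interval_cases j <;> rfl
  obtain ⟨c, hc, hcH⟩ := mem_cover hV baCert_fact_ok baCert_live_zero baCert_row_ok (by decide) (hcl hz)
  rw [mem_graphC] at hcH
  rcases Nat.eq_zero_or_pos c with rfl | hc0
  · rw [baCert_live_zero, show rep baCert f 0 = 1 from rfl, inv_one, mul_one] at hcH
    exact eq_one_graph (mem_graphC.2 hcH) hz2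
  exfalso
  rw [show baCert.nLive = 15 from rfl] at hc
  have hr := List.all_eq_true.1 baRep_ok (c - 1) (List.mem_range.2 (by omega))
  rw [show Nat.add (c - 1) 1 = c by show c - 1 + 1 = c; omega] at hr
  simp only [Bool.and_eq_true, Bool.not_eq_true'] at hr
  set m := baCert.live.get 15 c
  obtain ⟨⟨ho, hg⟩, hne⟩ := hr
  have hmem : wval piL (ren baSig (repW baCert m m)) ∈ Cm := by
    have h1 := hcH.1
    rw [Prod.snd_mul, hz2, one_mul, Prod.snd_inv, inv_mem_iff] at h1
    rw [← fP_snd (ψ := ψ) (i := i), ← hloc _ ho, wval_repW]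
    exact h1
  obtain ⟨r1, r2⟩ := tabG_word hg
  have : sameB 9 276 ((ren baSig (repW baCert m m)).map tabG ++ [tTab])
      (tTab :: (ren baSig (repW baCert m m)).map tabG) = true := sameB_iff.2 fun x hx => by
    rw [← ev_rep (fun T hT => (List.mem_append.1 hT).elim (r1 T) (fun h => by
        rw [List.mem_singleton.1 h]; exact t_spec.1)) (⟨x, hx⟩ : Fin 276),
      ← ev_rep (fun T hT => (List.mem_cons.1 hT).elim (fun h => h ▸ t_spec.1) (r1 T)) (⟨x, hx⟩ : Fin 276)]
    simp only [List.map_append, List.prod_append, List.map_cons, List.prod_cons, List.map_nil, List.prod_nil,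
      mul_one, r2]
    rw [show toP 9 276 tTab = tP from rfl, t_spec.2.2.2.2 _ hmem]
    exact Nat.beq_refl _
  rw [this] at hne
  exact Bool.noConfusion hne

end Cfsg.Lib.CoThreeType
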