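import Cfsg.Agent.Lib.CoThreeType.TopData

/-!
Kernel checks of the certificate `topCert`, part 1.
-/

set_option autoImplicit false
set_option maxRecDepth 100000
-- the kernel checks run one after another, to bound the memory of the file
set_option Elab.async false
set_option linter.style.longLine false

namespace Cfsg.Lib.CoThreeType

open Cfsg.Lib.J3Type

theorem topCert_facts3 : factsOK topCert 12000 4000 = true := by decide +kernel

theorem topCert_facts4 : factsOK topCert 16000 4000 = true := by decide +kernel

theorem topCert_facts5 : factsOK topCert 20000 4000 = true := by decide +kernel

end Cfsg.Lib.CoThreeType
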