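import Cfsg.Agent.Lib.CoThreeType.TopCheck0
import Cfsg.Agent.Lib.CoThreeType.TopCheck1
import Cfsg.Agent.Lib.CoThreeType.TopCheck2
import Cfsg.Agent.Lib.CoThreeType.TopCheck3

/-!
Kernel checks of the certificate `topCert`.
-/

set_option autoImplicit false
set_option maxRecDepth 100000
set_option linter.style.longLine false

namespace Cfsg.Lib.CoThreeType

open Cfsg.Lib.J3Type

theorem topCert_rows : rowsOK topCert 0 552 = true := by decide +kernel

theorem topCert_fact_ok : ∀ i < topCert.nFacts, factOK topCert i = true := by
  intro i hi
  replace hi : i < 38734 := hi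
  by_cases h0 : i < 4000
  · exact factOK_of_factsOK topCert_facts0 (by omega) (by omega)
  by_cases h1 : i < 8000
  · exact factOK_of_factsOK topCert_facts1 (by omega) (by omega)
  by_cases h2 : i < 12000
  · exact factOK_of_factsOK topCert_facts2 (by omega) (by omega)
  by_cases h3 : i < 16000
  · exact factOK_of_factsOK topCert_facts3 (by omega) (by omega)
  by_cases h4 : i < 20000
  · exact factOK_of_factsOK topCert_facts4 (by omega) (by omega)
  by_cases h5 : i < 24000
  · exact factOK_of_factsOK topCert_facts5 (by omega) (by omega)
  by_cases h6 : i < 28000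
  · exact factOK_of_factsOK topCert_facts6 (by omega) (by omega)
  by_cases h7 : i < 32000
  · exact factOK_of_factsOK topCert_facts7 (by omega) (by omega)
  by_cases h8 : i < 36000
  · exact factOK_of_factsOK topCert_facts8 (by omega) (by omega)
  by_cases h9 : i < 38734
  · exact factOK_of_factsOK topCert_facts9 (by omega) (by omega)
  omega

theorem topCert_row_ok : ∀ c < topCert.nLive, rowOK topCert c = true := fun c hc =>
  rowOK_of_rowsOK topCert_rows (Nat.zero_le _) (by rw [Nat.zero_add]; exact hc)

theorem topCert_live_zero : topCert.live.get 15 0 = 0 := by decide +kernel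

end Cfsg.Lib.CoThreeType
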