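import Cfsg.Agent.Lib.CoThreeType.EmbedChecks
import Cfsg.Agent.Lib.CoThreeType.Norm
import Cfsg.Agent.Lib.CoThreeType.TopChecks
import Cfsg.Agent.Lib.MclType.MainChecks

/-!
# The model inside a group with a configuration
-/

set_option autoImplicit false
set_option maxRecDepth 100000
set_option linter.style.haveILetI false

namespace Cfsg.Lib.CoThreeType

open Equiv Cfsg.Lib.PermAut Cfsg.Lib.J3Type Subgroup
open Cfsg.Lib.MclType (wordEq_eq wval_rotW wval_redW zipChk_spec mclCert mclBase mclBase mclHint)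

variable {G : Type*} [Group G] {t i : G} {ψ : Cm ≃* centralizer ({t} : Set G)}

theorem letters_eq {f g : ℕ → G × P276} {σ w : List ℕ} (hw : renOk σ w = true)
    (h : ∀ k < σ.length, f k = g k) : wval f w = wval g w := by
  simp only [renOk, Bool.and_eq_true, List.all_eq_true, Nat.blt, Nat.ble_eq] at hw
  rw [wval, wval]
  congr 1
  refine List.map_congr_left fun l hl => ?_
  unfold lval
  rw [h (l / 2) (hw.1.1 l hl)]

/-- Pairs of a number, possibly times the involution. -/
def IsW (ψ : Cm ≃* centralizer ({t} : Set G)) (i : G) (z : G × P276) : Prop :=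
  ∃ x < 4608, z = (dG ψ x, dP x) ∨ z = (dG ψ x * i, dP x * piL 6)

theorem dP_sg {x : ℕ} (hx : x < 4608) : piL 6 * dP x * piL 6 = dP (dSg x) := by
  have r6 := (piL_rep (k := 6) (by norm_num)).1
  have key : ∀ k < 3, piL 6 * dP (dQk k) * piL 6 = dP (dSg (dQk k)) := by
    intro k hk
    obtain ⟨lq, eq⟩ := dQk_spec hk
    have hs := List.all_eq_true.1 six_conj k (List.mem_range.2 hk)
    have hw : ∀ T ∈ (dSub.word (dSg (dQk k))).map dSub.gT, Rep 9 (toP 9 276 T) T := fun T hT => by
      obtain ⟨j, hj, rfl⟩ := List.mem_map.1 hT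
      exact (dSub_valid.gen (gen_ok.2.symm ▸ word_lt (dSg_hom.1.lt _ lq) j hj)).1
    have hr : ∀ T ∈ [lTab.getD 6 0, dSub.gT k, lTab.getD 6 0], Rep 9 (toP 9 276 T) T := by
      intro T hT
      simp only [List.mem_cons, List.not_mem_nil, or_false] at hT
      rcases hT with rfl | rfl | rfl
      · exact r6
      · exact (dSub_valid.gen (gen_ok.2.symm ▸ hk)).1
      · exact r6
    have e := eq_of_sameB hr hw hs
    simp only [List.map_cons, List.map_nil, List.prod_cons, List.prod_nil, mul_one, List.map_map] at e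
    rw [eq, mul_assoc]
    exact e
  have hprod : ∀ w : List ℕ, (∀ k ∈ w, k < 3) → piL 6 * (w.map fun k => dP (dQk k)).prod * piL 6 =
      (w.map fun k => dP (dSg (dQk k))).prod := by
    intro w
    induction w with
    | nil => intro _; simpa using piL_six_sq
    | cons k w ih =>
      intro hw
      rw [List.map_cons, List.prod_cons, List.map_cons, List.prod_cons,
        ← ih fun j hj => hw j (List.mem_cons_of_mem _ hj), ← key k (hw k (List.mem_cons_self ..))]
      calc piL 6 * (dP (dQk k) * (w.map fun k => dP (dQk k)).prod) * piL 6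
          = piL 6 * dP (dQk k) * (piL 6 * piL 6) * (w.map fun k => dP (dQk k)).prod * piL 6 := by
            rw [piL_six_sq]; group
        _ = _ := by group
  rw [dP_word hx, hprod _ (word_lt hx), ← dSg_hom.1.word hx]

theorem six_not_mem : piL 6 ∉ Cm := by
  intro h
  have r6 := (piL_rep (k := 6) (by norm_num)).1
  have hs : sameB 9 276 [lTab.getD 6 0, tTab] [tTab, lTab.getD 6 0] = true := sameB_iff.2 fun x hx => by
    rw [← ev_rep (List.forall_mem_cons.2 ⟨r6, List.forall_mem_singleton.2 t_spec.1⟩) (⟨x, hx⟩ : Fin 276),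
      ← ev_rep (List.forall_mem_cons.2 ⟨t_spec.1, List.forall_mem_singleton.2 r6⟩) (⟨x, hx⟩ : Fin 276)]
    simp only [List.map_cons, List.prod_cons, List.map_nil, List.prod_nil, mul_one]
    rw [show toP 9 276 tTab = tP from rfl, show toP 9 276 (lTab.getD 6 0) = piL 6 from rfl,
      t_spec.2.2.2.2 _ h]
    exact Nat.beq_refl _
  rw [six_ne] at hs
  exact Bool.noConfusion hs

theorem Cfg.dG_six (H : Cfg t ψ i dSg) {x : ℕ} (hx : x < 4608) : i * dG ψ x = dG ψ (dSg x) * i := by
  rw [← H.act x hx, mul_assoc, H.sq, mul_one]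

theorem piL_six_dP {x : ℕ} (hx : x < 4608) : piL 6 * dP x = dP (dSg x) * piL 6 := by
  rw [← dP_sg hx, mul_assoc, piL_six_sq, mul_one]

theorem Cfg.isW_mul (H : Cfg t ψ i dSg) {z w : G × P276} (hz : IsW ψ i z) (hw : IsW ψ i w) : IsW ψ i (z * w) := by
  obtain ⟨x, hx, hz⟩ := hz
  obtain ⟨y, hy, hw⟩ := hw
  have hsy := dSg_hom.1.lt y hy
  rcases hz with rfl | rfl
  · obtain ⟨hm, em⟩ := dM_spec hx hy
    refine ⟨_, hm, ?_⟩
    rcases hw with rfl | rfl
    · exact Or.inl (Prod.ext (dG_mul ψ hx hy).symm em.symm)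
    · exact Or.inr (Prod.ext (by show dG ψ x * (dG ψ y * i) = _; rw [dG_mul ψ hx hy, mul_assoc])
        (by show dP x * (dP y * piL 6) = _; rw [em, mul_assoc]))
  · obtain ⟨hm, em⟩ := dM_spec hx hsy
    refine ⟨_, hm, ?_⟩
    rcases hw with rfl | rfl
    · refine Or.inr (Prod.ext ?_ ?_)
      · show dG ψ x * i * dG ψ y = _
        rw [dG_mul ψ hx hsy, mul_assoc, H.dG_six hy, mul_assoc]
      · show dP x * piL 6 * dP y = _
        rw [em, mul_assoc, piL_six_dP hy, mul_assoc]
    · refine Or.inl (Prod.ext ?_ ?_)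
      · show dG ψ x * i * (dG ψ y * i) = _
        rw [dG_mul ψ hx hsy, ← mul_assoc (dG ψ x * i), mul_assoc (dG ψ x), H.dG_six hy, ← mul_assoc, mul_assoc,
          H.sq, mul_one]
      · show dP x * piL 6 * (dP y * piL 6) = _
        rw [em, ← mul_assoc (dP x * piL 6), mul_assoc (dP x), piL_six_dP hy, ← mul_assoc, mul_assoc,
          piL_six_sq, mul_one]

theorem Cfg.isW_inv (H : Cfg t ψ i dSg) {z : G × P276} (hz : IsW ψ i z) : IsW ψ i z⁻¹ := by
  obtain ⟨x, hx, hz⟩ := hz
  obtain ⟨hv, ev⟩ := dIv_spec hx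
  have eG : dG ψ (dSub.iv x) = (dG ψ x)⁻¹ := by rw [dG, ev, ext_inv ψ (dP_mem hx)]; rfl
  rcases hz with rfl | rfl
  · exact ⟨_, hv, Or.inl (Prod.ext eG.symm ev.symm)⟩
  · refine ⟨_, dSg_hom.1.lt _ hv, Or.inr (Prod.ext ?_ ?_)⟩
    · show (dG ψ x * i)⁻¹ = _
      rw [mul_inv_rev, inv_eq_of_mul_eq_one_left H.sq, ← eG, H.dG_six hv]
    · show (dP x * piL 6)⁻¹ = _
      rw [mul_inv_rev, inv_eq_of_mul_eq_one_left piL_six_sq, ← ev, piL_six_dP hv]

/-- The pairs of the group with the swapped pair of involutions. -/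
noncomputable def pairW (ψ : Cm ≃* centralizer ({t} : Set G)) (i : G) : Subgroup (G × P276) :=
  closure {y | ∃ k ∈ [8, 9, 10, 6], fP ψ i k = y}

theorem Cfg.pairW_inj (H : Cfg t ψ i dSg) {z : G × P276} (hz : z ∈ pairW ψ i) (hz2 : z.2 = 1) : z = 1 := by
  have one : IsW ψ i 1 := ⟨_, root_lt, Or.inl (Prod.ext (dG_root ψ).symm dP_root.symm)⟩
  have hW : IsW ψ i z := by
    clear hz2
    induction hz using closure_induction with
    | mem y hy =>
      obtain ⟨k, hk, rfl⟩ := hy
      by_cases h6 : k = 6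
      · subst h6
        refine ⟨_, root_lt, Or.inr (Prod.ext ?_ ?_)⟩
        · show gam ψ i 6 = _
          rw [gam, if_pos rfl, dG_root, one_mul]
        · show piL 6 = _
          rw [dP_root, one_mul]
      · simp only [List.mem_cons, List.not_mem_nil, or_false] at hk
        obtain ⟨j, hj, rfl⟩ : ∃ j < 3, k = 8 + j := ⟨k - 8, by omega, by omega⟩
        have h := List.all_eq_true.1 wLet_ok j (List.mem_range.2 hj)
        simp only [Bool.and_eq_true, Nat.blt, Nat.ble_eq, Nat.beq_eq] at h
        obtain ⟨hn, he⟩ := h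
        have e : piL (8 + j) = dP (wLetters.getD j 0) := by
          refine dSub_valid.eq_el (piL_mem (by omega) h6) (dSub_size ▸ hn) ?_
          rw [he]
          exact codeOf_rep (piL_rep (k := 8 + j) (by omega)).1
        refine ⟨_, hn, Or.inl (Prod.ext ?_ e)⟩
        show gam ψ i (8 + j) = _
        rw [gam, if_neg h6, e]
        rfl
    | one => exact one
    | mul a b _ _ ha hb => exact H.isW_mul ha hb
    | inv a _ ha => exact H.isW_inv ha
  obtain ⟨x, hx, hW⟩ := hW
  rcases hW with rfl | rfl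
  · exact Prod.ext (by show dG ψ x = 1; rw [dG, show dP x = 1 from hz2, ext_one]) hz2
  · exfalso
    apply six_not_mem
    rw [eq_inv_of_mul_eq_one_right (show dP x * piL 6 = 1 from hz2)]
    exact inv_mem (dP_mem hx)

variable [Finite G]

/-- A trivial word in the letters of one kind is trivial in both groups. -/
theorem Cfg.kind_val (H : Cfg t ψ i dSg) {k : ℕ} (hk : k < 4) {u : List ℕ} (h1 : trivG u = true)
    (h2 : inS (kindList k) u = true) : wval (fP ψ i) u = 1 := by
  have hz : (wval (fP ψ i) u).2 = 1 := by rw [fP_snd]; exact trivG_spec h1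
  simp only [inS, List.all_eq_true, Bool.and_eq_true, inL_iff] at h2
  interval_cases k
  · refine eq_one_graph (t := t) (ψ := ψ) (wval_mem fun l hl => ?_) hz
    have hm : l / 2 ∈ [0, 1, 2, 3, 4, 5, 7, 8, 9, 10, 11] := (h2 l hl).2
    simp only [List.mem_cons, List.not_mem_nil, or_false] at hm
    exact fP_graph (by omega) (by omega)
  · refine H.pairN_inj (wval_mem fun l hl => ?_) hz
    have hm : l / 2 ∈ [1, 2, 3, 6, 11] := (h2 l hl).2
    simp only [List.mem_cons, List.not_mem_nil, or_false] at hm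
    rcases hm with e | e | e | e | e <;> rw [e]
    exacts [subset_closure ⟨0, by norm_num, rfl⟩, subset_closure ⟨1, by norm_num, rfl⟩,
      subset_closure ⟨2, by norm_num, rfl⟩, subset_closure ⟨4, by norm_num, rfl⟩,
      subset_closure ⟨3, by norm_num, rfl⟩]
  · have hsw := swap_ok
    simp only [Bool.and_eq_true, Nat.blt, Nat.ble_eq, Nat.beq_eq] at hsw
    obtain ⟨⟨hc, hfix⟩, hj⟩ := hsw
    set C : G × P276 := (dG ψ dSwap, dP dSwap) with hC
    have hCg : C ∈ graphC ψ := mem_graphC.2 ⟨dP_mem hc, rfl⟩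
    have hmem : wval (fP ψ i) u ∈ (pairN ψ i).comap (MulAut.conj C).toMonoidHom := by
      refine wval_mem fun l hl => ?_
      have hm : l / 2 ∈ [2, 5, 6] := (h2 l hl).2
      simp only [List.mem_cons, List.not_mem_nil, or_false] at hm
      show C * fP ψ i (l / 2) * C⁻¹ ∈ pairN ψ i
      have conv : ∀ j < 2, C * fP ψ i ([2, 5].getD j 0) * C⁻¹ ∈ pairN ψ i := by
        intro j hj2
        have h := List.all_eq_true.1 hj j (List.mem_range.2 hj2)
        simp only [Bool.and_eq_true, Nat.beq_eq] at h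
        obtain ⟨⟨hr, hg⟩, he⟩ := h
        set w := ren [1, 2, 3, 11] (swapWord.getD j []) with hw
        have hval : wval (fP ψ i) w ∈ graphC ψ ∧ wval (fP ψ i) w ∈ pairN ψ i := by
          rw [hw, ren_spec hr]
          simp only [renOk, Bool.and_eq_true, List.all_eq_true, Nat.blt, Nat.ble_eq] at hr
          constructor <;>
          · refine wval_mem fun l hl => ?_
            have h4 : l / 2 < 4 := hr.1.1 l hl
            first
              | exact fP_graph (by interval_cases (l / 2) <;> decide) (by interval_cases (l / 2) <;> decide)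
              | exact subset_closure ⟨l / 2, by omega, by interval_cases (l / 2) <;> rfl⟩
        have hk' : [2, 5].getD j 0 < 12 ∧ [2, 5].getD j 0 ≠ 6 := by interval_cases j <;> decide
        have e : C * fP ψ i ([2, 5].getD j 0) * C⁻¹ = wval (fP ψ i) w := by
          have hg1 : C * fP ψ i ([2, 5].getD j 0) * C⁻¹ ∈ graphC ψ :=
            mul_mem (mul_mem hCg (fP_graph hk'.1 hk'.2)) (inv_mem hCg)
          have e2 : dP dSwap * piL ([2, 5].getD j 0) = wval piL w * dP dSwap := by
            have hw1 := (mem_graphC.1 hval.1).1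
            rw [fP_snd] at hw1
            refine eq_of_code (mul_mem (dP_mem hc) (piL_mem hk'.1 hk'.2)) (mul_mem hw1 (dP_mem hc)) ?_
            obtain ⟨r1, r2⟩ := tabG_word hg
            have k1 : ∀ (l : List ℕ) (g : P276), (∀ T ∈ l, Rep 9 (toP 9 276 T) T) →
                codeOf ((l.map (toP 9 276)).prod * g) = l.foldr stepC (codeOf g) := by
              intro l g
              induction l with
              | nil => intro _; simp
              | cons T l ih =>
                intro hl
                rw [List.map_cons, List.prod_cons, mul_assoc, codeOf_mul (hl T (List.mem_cons_self ..)),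
                  ih fun S hS => hl S (List.mem_cons_of_mem _ hS), List.foldr_cons]
            have hd : dP dSwap = (((dSub.word dSwap).map dSub.gT).map (toP 9 276)).prod := by
              rw [List.map_map]; rfl
            have hdr : ∀ T ∈ (dSub.word dSwap).map dSub.gT, Rep 9 (toP 9 276 T) T := fun T hT => by
              obtain ⟨q, hq, rfl⟩ := List.mem_map.1 hT
              exact (dSub_valid.gen (gen_ok.2.symm ▸ word_lt hc q hq)).1
            rw [← r2, k1 _ _ r1, show codeOf (dP dSwap) = dSub.code.get 36 dSwap from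
              dSub_valid.code_el (dSub_size ▸ hc), ← he, hd, k1 _ _ hdr]
            exact congrArg _ (codeOf_rep (piL_rep hk'.1).1)
          obtain ⟨-, a1⟩ := mem_graphC.1 hg1
          obtain ⟨-, b1⟩ := mem_graphC.1 hval.1
          have snd : (C * fP ψ i ([2, 5].getD j 0) * C⁻¹).2 = (wval (fP ψ i) w).2 := by
            rw [fP_snd]
            show dP dSwap * piL _ * (dP dSwap)⁻¹ = _
            rw [e2, mul_inv_cancel_right]
          exact Prod.ext (by rw [a1, b1, snd]) snd
        rw [e]
        exact hval.2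
      rcases hm with e | e | e <;> rw [e]
      · exact conv 0 (by norm_num)
      · exact conv 1 (by norm_num)
      · have : C * fP ψ i 6 * C⁻¹ = fP ψ i 6 := by
          rw [hC]
          refine Prod.ext ?_ ?_
          · show dG ψ dSwap * gam ψ i 6 * (dG ψ dSwap)⁻¹ = gam ψ i 6
            have hcomm := H.dG_six hc
            rw [hfix] at hcomm
            rw [gam, if_pos rfl, ← hcomm, mul_inv_cancel_right]
          · show dP dSwap * piL 6 * (dP dSwap)⁻¹ = piL 6
            have hcomm := piL_six_dP hc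
            rw [hfix] at hcomm
            rw [← hcomm, mul_inv_cancel_right]
        rw [this]
        exact subset_closure ⟨4, by norm_num, rfl⟩
    have h := H.pairN_inj (z := C * wval (fP ψ i) u * C⁻¹) hmem (by
      show C.2 * (wval (fP ψ i) u).2 * C.2⁻¹ = 1
      rw [hz, mul_one, mul_inv_cancel])
    exact conj_eq_one_iff.1 h
  · refine H.pairW_inj (wval_mem fun l hl => ?_) hz
    have hm : l / 2 ∈ [8, 9, 10, 6] := (h2 l hl).2
    exact subset_closure ⟨_, hm, rfl⟩

theorem Cfg.mclBase_val (H : Cfg t ψ i dSg) {e : ℕ × List ℕ} (he : mclBaseOK e = true) :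
    wval (fun k => fP ψ i (sgMc.getD k 0)) e.2 = 1 := by
  simp only [mclBaseOK, Bool.and_eq_true] at he
  obtain ⟨⟨hs, hm⟩, hk⟩ := he
  have hsnd : (wval (fun k => fP ψ i (sgMc.getD k 0)) e.2).2 = 1 := by
    rw [← ren_spec hs, fP_snd]; exact trivG_spec hm
  cases h3 : Nat.blt e.1 3
  · rw [h3, cond_false, List.any_eq_true] at hk
    obtain ⟨a, -, ha⟩ := hk
    simp only [Bool.and_eq_true, List.any_eq_true] at ha
    obtain ⟨⟨hal, hT⟩, s, -, hw⟩ := ha
    refine Prod.ext ?_ hsnd
    have hloc : wval (fun k => fP ψ i (sgMc.getD k 0)) (ren sgTc (alWord 4 a)) =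
        wval (pT ψ i alLts) (alWord 4 a) := by
      rw [ren_spec hT]
      refine letters_eq hT fun k hk3 => ?_
      have hm2 : alLts.m = 2 := rfl
      have hk3' : k < 3 := hk3
      interval_cases k
      · show fP ψ i 0 = _
        rw [fP, pT, gT, gam, Lts.pi, if_neg (by omega), if_neg (by omega), if_neg (by omega)]
        rfl
      · show fP ψ i 1 = _
        rw [fP, pT, gT, gam, Lts.pi, if_neg (by omega), if_neg (by omega), if_neg (by omega)]
        rfl
      · show fP ψ i 6 = _
        rw [fP, pT, gT, gam, Lts.pi, if_pos hm2.symm, if_pos hm2.symm, if_pos rfl]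
    have h1 : (wval (fun k => fP ψ i (sgMc.getD k 0)) (ren sgTc (alWord 4 a))).1 = 1 := by
      rw [hloc, pT_fst]
      exact al_val H dSg_hom.1 alLts_ok hal
    rw [wordEq_eq hw, show (wval (fun k => fP ψ i (sgMc.getD k 0)) (Cfsg.Lib.MclType.rotW (ren sgTc (alWord 4 a)) s 0)).1 =
      wval (fun k => gam ψ i (sgMc.getD k 0)) (Cfsg.Lib.MclType.rotW (ren sgTc (alWord 4 a)) s 0) from
        wval_map (MonoidHom.fst G P276) _ _]
    refine wval_rotW _ ?_ _ _
    rw [← h1]
    exact (wval_map (MonoidHom.fst G P276) (fun k => fP ψ i (sgMc.getD k 0)) (ren sgTc (alWord 4 a))).symm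
  · rw [h3, cond_true] at hk
    rw [← ren_spec hs]
    have hlt : e.1 < 3 := Nat.lt_of_succ_le (Nat.le_of_ble_eq_true h3)
    exact H.kind_val (k := e.1) (by omega) hm hk

end Cfsg.Lib.CoThreeType
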