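import Cfsg.Agent.Lib.CoThreeType.Letters
import Cfsg.Agent.Lib.CoThreeType.ExtraData
import Cfsg.Agent.Lib.CoThreeType.TopData
import Cfsg.Agent.Lib.MclType.MainData

/-!
# The rules of the two main certificates, by kind
-/

set_option autoImplicit false
set_option maxRecDepth 100000

namespace Cfsg.Lib.CoThreeType

open Cfsg.Lib.PermAut Cfsg.Lib.J3Type
open Cfsg.Lib.MclType (wordEq rotW redW mclBase mclAl)

/-- The letters of the small certificate among the twelve. -/
def sgMc : List ℕ := [0, 1, 2, 3, 5, 6]

/-- The letters of the automorphism rules of the small certificate. -/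
def sgTc : List ℕ := [0, 1, 5]

/-- The letters of the automorphism rules among the twelve. -/
def sgUc : List ℕ := [0, 1, 6]

/-- The first two letters. -/
def alLts : Lts := ⟨[lTab.getD 0 0, lTab.getD 1 0], [lInv.getD 0 0, lInv.getD 1 0], [lPath.getD 0 [], lPath.getD 1 []]⟩

/-- The automorphism rules, with numbers of this model. -/
def alList : List (ℕ × List ℕ × List ℕ) := (mclAl.zip mclAlNum).map fun e => (e.2, e.1.2.1, e.1.2.2)

/-- The letters of a word lie in a list. -/
def kindList (k : ℕ) : List ℕ :=
  bif Nat.beq k 0 then [0, 1, 2, 3, 4, 5, 7, 8, 9, 10, 11] else bif Nat.beq k 1 then [1, 2, 3, 6, 11]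
  else bif Nat.beq k 2 then [2, 5, 6] else [8, 9, 10, 6]

/-- A base rule of the small certificate. -/
noncomputable def mclBaseOK (e : ℕ × List ℕ) : Bool :=
  renOk sgMc e.2 && trivG (ren sgMc e.2) &&
    (bif Nat.blt e.1 3 then inS (kindList e.1) (ren sgMc e.2)
    else alList.any fun a => alOK alLts dSg a && renOk sgTc (alWord 4 a) &&
      (List.range 40).any fun s => wordEq e.2 (rotW (ren sgTc (alWord 4 a)) s 0))

/-- A base rule of the large certificate. -/
noncomputable def topBaseOK (e : ℕ × List ℕ) : Bool :=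
  trivG e.2 && inS (kindList (bif Nat.beq e.1 2 then 3 else e.1)) e.2

/-- One rule of the small certificate. -/
def mclRuleOK (base : List (ℕ × List ℕ)) (w : List ℕ) (h : ℕ × ℕ × ℕ × ℕ) : Bool :=
  bif Nat.beq h.1 0 then (redW w).isEmpty
  else Nat.blt h.2.1 base.length && wordEq w (rotW (base.getD h.2.1 (0, [])).2 h.2.2.1 h.2.2.2)

end Cfsg.Lib.CoThreeType
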