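import Cfsg.Agent.Lib.CoThreeType.Chunk
import Cfsg.Agent.Lib.CoThreeType.EmbedDefs

/-!
# Kernel checks for the embedding
-/

set_option autoImplicit false
set_option maxRecDepth 100000
-- the kernel checks run one after another, to bound the memory of the file
set_option Elab.async false

namespace Cfsg.Lib.CoThreeType

open Cfsg.Lib.PermAut Cfsg.Lib.J3Type
open Cfsg.Lib.MclType (zipChk mclBase mclCert mclHint)

theorem alLts_ok : alLts.ok = true := by decide +kernel

theorem mclBase_ok : (mclBase.all fun l => l.all mclBaseOK) = true := by decide +kernel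

theorem topBase_ok0 : topBase0.all topBaseOK = true := by decide +kernel

theorem topBase_ok1 : topBase1.all topBaseOK = true := by decide +kernel

theorem topBase_ok2 : topBase2.all topBaseOK = true := by decide +kernel

theorem topBase_ok3 : topBase3.all topBaseOK = true := by decide +kernel

theorem topBase_ok4 : topBase4.all topBaseOK = true := by decide +kernel

theorem topBase_ok5 : topBase5.all topBaseOK = true := by decide +kernel

theorem topBase_ok6 : topBase6.all topBaseOK = true := by decide +kernel

theorem topBase_ok7 : topBase7.all topBaseOK = true := by decide +kernel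

theorem topBase_ok8 : topBase8.all topBaseOK = true := by decide +kernel

theorem topBase_ok9 : topBase9.all topBaseOK = true := by decide +kernel

theorem topBase_ok10 : topBase10.all topBaseOK = true := by decide +kernel

theorem topBase_ok11 : topBase11.all topBaseOK = true := by decide +kernel

theorem topBase_ok : (topBase.all fun l => l.all topBaseOK) = true := by
  simp only [topBase, List.all_cons, List.all_nil, topBase_ok0, topBase_ok1, topBase_ok2, topBase_ok3, topBase_ok4, topBase_ok5, topBase_ok6, topBase_ok7, topBase_ok8, topBase_ok9, topBase_ok10, topBase_ok11, Bool.and_self]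

theorem mclRules_ok :
    zipChk (fun ws hs => zipChk (mclRuleOK mclBase.flatten) ws hs) mclCert.rules mclHint = true := by decide +kernel

set_option maxHeartbeats 1000000 in -- long kernel checks
theorem topRules_ok :
    zipChk (ruleOK (topBase.flatten.map Prod.snd)) topCert.rules.flatten topHint = true := by
  refine zip_split 1000 ?_ (zip_split 1000 ?_ (zip_split 1000 ?_ ?_))
  all_goals decide +kernel

theorem six_ne : sameB 9 276 [lTab.getD 6 0, tTab] [tTab, lTab.getD 6 0] = false := by decide +kernel

theorem wLet_ok : ((List.range 3).all fun j => Nat.blt (wLetters.getD j 0) 4608 &&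
    Nat.beq (dSub.code.get 36 (wLetters.getD j 0)) (stepC (lTab.getD (Nat.add 8 j) 0) codeOne)) = true := by
  decide +kernel

theorem six_conj : ((List.range 3).all fun k =>
    sameB 9 276 [lTab.getD 6 0, dSub.gT k, lTab.getD 6 0] ((dSub.word (dSg (dQk k))).map dSub.gT)) = true := by
  decide +kernel

theorem swap_ok : (Nat.blt dSwap 4608 && Nat.beq (dSg dSwap) dSwap && (List.range 2).all fun j =>
    let w := ren [1, 2, 3, 11] (swapWord.getD j [])
    renOk [1, 2, 3, 11] (swapWord.getD j []) && okG w &&
      Nat.beq ((dSub.word dSwap).map dSub.gT |>.foldr stepC (stepC (lTab.getD ([2, 5].getD j 0) 0) codeOne))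
        ((w.map tabG).foldr stepC (dSub.code.get 36 dSwap))) = true := by decide +kernel

theorem mclSub_ok : mclSub.ok 9 276 = true ∧ mclSub.size = 40320 := by
  refine ⟨?_, ?_⟩ <;> decide +kernel

theorem mclSub_gens : (Nat.beq mclSub.g0 (lTab.getD 0 0) && Nat.beq mclSub.g1 (lTab.getD 1 0) &&
    (List.range 3).all fun j => pathOk mclSub.lev (mclPath.getD j []) &&
      sameB 9 276 [lTab.getD ([2, 3, 5].getD j 0) 0] (pickPath mclSub.lev (mclPath.getD j []))) = true := by
  decide +kernel

theorem kGen_ok : (((List.range 4).all fun j => Nat.beq (kGen.getD j 0) (lTab.getD ([0, 1, 6, 7].getD j 0) 0) &&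
      Nat.beq (kGen.getD (Nat.add 4 j) 0) (lInv.getD ([0, 1, 6, 7].getD j 0) 0)) &&
    stepsOk 9 276 kGen 8 kSteps && Nat.blt (kPlace.getD 0 0) kGen.length && Nat.blt (kPlace.getD 1 0) kGen.length &&
    Nat.blt (kPlace.getD 2 0) kGen.length && Nat.beq (kGen.getD (kPlace.getD 0 0) 0) CoThree.cert.a &&
    Nat.beq (kGen.getD (kPlace.getD 1 0) 0) CoThree.cert.c &&
    Nat.beq (kGen.getD (kPlace.getD 2 0) 0) CoThree.cert.d) = true := by decide +kernel

theorem aGen_ok : (((List.range 3).all fun j => Nat.beq (aGen.getD j 0) (lTab.getD ([0, 1, 7].getD j 0) 0) &&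
      Nat.beq (aGen.getD (Nat.add 3 j) 0) (lInv.getD ([0, 1, 7].getD j 0) 0)) &&
    stepsOk 9 276 aGen 6 aSteps && Nat.blt (aPlace.getD 0 0) aGen.length && Nat.blt (aPlace.getD 1 0) aGen.length &&
    Nat.beq (aGen.getD (aPlace.getD 0 0) 0) centSub.g0 &&
    Nat.beq (aGen.getD (aPlace.getD 1 0) 0) centSub.g1) = true := by decide +kernel

end Cfsg.Lib.CoThreeType
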