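import Cfsg.Agent.Lib.CoThreeType.Embed
import Cfsg.Agent.S0403

/-!
# The embedding of the model
-/

set_option autoImplicit false
set_option maxRecDepth 100000
set_option linter.style.haveILetI false

namespace Cfsg.Lib.CoThreeType

open Equiv Cfsg.Lib.PermAut Cfsg.Lib.J3Type Subgroup
open Cfsg.Lib.MclType (wordEq_eq wval_rotW wval_redW zipChk_spec mclCert mclBase mclHint)

theorem simple_spor : IsSimpleGroup ↥Cfsg.Spor.Co3 := by
  obtain ⟨hs, -⟩ := Cfsg.Agent.S0403.result Cfsg.Spor.leechV
    (show Cfsg.sqNorm Cfsg.Spor.vecV = 48 by decide +kernel)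
  have e : Cfsg.Spor.Co3 = (MulAction.stabilizer Cfsg.Co0 Cfsg.Spor.leechV).map Cfsg.Co0.subtype :=
    (Cfsg.Lib.PermAut.map_stab _).symm
  rw [e]
  exact ((MulAction.stabilizer Cfsg.Co0 Cfsg.Spor.leechV).equivMapOfInjective Cfsg.Co0.subtype
    Subtype.coe_injective).isSimpleGroup_congr.1 hs

variable {G : Type*} [Group G] [Finite G] {t i : G} {ψ : Cm ≃* centralizer ({t} : Set G)}

theorem Cfg.mcl_val (H : Cfg t ψ i dSg) : ∀ ws ∈ mclCert.rules, ∀ w ∈ ws,
    wval (fun k => fP ψ i (sgMc.getD k 0)) w = 1 := by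
  intro ws hws w hw
  obtain ⟨hs, h⟩ := zipChk_spec mclRules_ok ws hws
  obtain ⟨e, he⟩ := zipChk_spec h w hw
  unfold mclRuleOK at he
  cases h0 : Nat.beq e.1 0
  · rw [h0, cond_false, Bool.and_eq_true] at he
    rw [wordEq_eq he.2]
    refine wval_rotW _ (H.mclBase_val ?_) _ _
    have hlt : e.2.1 < mclBase.flatten.length := Nat.lt_of_succ_le (Nat.le_of_ble_eq_true he.1)
    rw [List.getD_eq_getElem _ _ hlt]
    obtain ⟨l, hl, hm⟩ := List.mem_flatten.1 (List.getElem_mem hlt)
    exact List.all_eq_true.1 (List.all_eq_true.1 mclBase_ok l hl) _ hm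
  · rw [h0, cond_true, List.isEmpty_iff] at he
    rw [← wval_redW _ w, he]
    rfl

theorem Cfg.top_val (H : Cfg t ψ i dSg) : ∀ ws ∈ topCert.rules, ∀ w ∈ ws, wval (fP ψ i) w = 1 := by
  have hfull : ∀ w ∈ topBase.flatten.map Prod.snd, wval (fP ψ i) w = 1 := by
    intro w hw
    obtain ⟨e, he, rfl⟩ := List.mem_map.1 hw
    obtain ⟨l, hl, hm⟩ := List.mem_flatten.1 he
    have h := List.all_eq_true.1 (List.all_eq_true.1 topBase_ok l hl) _ hm
    simp only [topBaseOK, Bool.and_eq_true] at h
    cases h2 : Nat.beq e.1 2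
    · rw [h2, cond_false] at h
      rcases Nat.lt_or_ge e.1 4 with hk | hk
      · exact H.kind_val hk h.1 h.2
      · refine H.kind_val (k := 3) (by norm_num) h.1 ?_
        have : kindList e.1 = kindList 3 := by
          unfold kindList
          rw [show Nat.beq e.1 0 = false from Bool.eq_false_iff.2 fun hb => by
              have := Nat.eq_of_beq_eq_true hb; omega,
            show Nat.beq e.1 1 = false from Bool.eq_false_iff.2 fun hb => by
              have := Nat.eq_of_beq_eq_true hb; omega, h2]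
          rfl
        rw [← this]; exact h.2
    · rw [h2, cond_true] at h
      exact H.kind_val (k := 3) (by norm_num) h.1 h.2
  exact fun ws hws w hw => rules_val topRules_ok hfull w (List.mem_flatten.2 ⟨ws, hws, hw⟩)

/-- The graph over the subgroup of the first two letters. -/
noncomputable def graphM (ψ : Cm ≃* centralizer ({t} : Set G)) : Subgroup (G × P276) :=
  graphC ψ ⊓ (mclSub.grp 9 276).comap (MonoidHom.snd G P276)

theorem card_graphM : Nat.card (graphM ψ) ≤ 40320 := by
  have hV := Sub.valid (b := 9) (N := 276) mclSub_ok.1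
  have hc : Nat.card (mclSub.grp 9 276) = 40320 := hV.card.trans mclSub_ok.2
  rw [← hc]
  refine Nat.card_le_card_of_injective (fun z => ⟨(z : G × P276).2, z.2.2⟩) fun a b e => ?_
  have e2 : (a : G × P276).2 = (b : G × P276).2 := congrArg Subtype.val e
  exact Subtype.ext (Prod.ext (by rw [(mem_graphC.1 a.2.1).2, (mem_graphC.1 b.2.1).2, e2]) e2)

theorem fP_graphM {k : ℕ} (hk : k ∈ [0, 1, 2, 3, 5]) : fP ψ i k ∈ graphM ψ := by
  have hV := Sub.valid (b := 9) (N := 276) mclSub_ok.1
  have h := mclSub_gens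
  simp only [Bool.and_eq_true, Nat.beq_eq] at h
  obtain ⟨⟨h0, h1⟩, h2⟩ := h
  simp only [List.mem_cons, List.not_mem_nil, or_false] at hk
  refine ⟨fP_graph (by omega) (by omega), ?_⟩
  show piL k ∈ mclSub.grp 9 276
  rcases hk with rfl | rfl | rfl | rfl | rfl
  · exact subset_closure (Or.inl (by rw [h0]; rfl))
  · exact subset_closure (Or.inr (by rw [Set.mem_singleton_iff, h1]; rfl))
  all_goals
    first
      | (have hh := List.all_eq_true.1 h2 0 (List.mem_range.2 (by norm_num))
         rw [Bool.and_eq_true] at hh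
         exact hV.mem_of_same (piL_rep (k := 2) (by norm_num)).1 hh.1 hh.2)
      | (have hh := List.all_eq_true.1 h2 1 (List.mem_range.2 (by norm_num))
         rw [Bool.and_eq_true] at hh
         exact hV.mem_of_same (piL_rep (k := 3) (by norm_num)).1 hh.1 hh.2)
      | (have hh := List.all_eq_true.1 h2 2 (List.mem_range.2 (by norm_num))
         rw [Bool.and_eq_true] at hh
         exact hV.mem_of_same (piL_rep (k := 5) (by norm_num)).1 hh.1 hh.2)

theorem mem_of_gen {gen : List ℕ} {steps : List (ℕ × ℕ)} {ks : List ℕ} {n : ℕ} {K : Subgroup P276}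
    (hn : ks.length = n) (hks : ∀ j < n, ks.getD j 0 < 12 ∧ piL (ks.getD j 0) ∈ K)
    (hg : ((List.range n).all fun j => Nat.beq (gen.getD j 0) (lTab.getD (ks.getD j 0) 0) &&
      Nat.beq (gen.getD (Nat.add n j) 0) (lInv.getD (ks.getD j 0) 0)) = true)
    (hst : stepsOk 9 276 gen (n + n) steps = true) {q T : ℕ} (hq : Nat.blt q gen.length = true)
    (hT : Nat.beq (gen.getD q 0) T = true) : toP 9 276 T ∈ K := by
  subst hn
  rw [← Nat.eq_of_beq_eq_true hT]
  refine (mem_of_stepsOk (K := K) (fun j hj => ?_) hst q (Nat.lt_of_succ_le (Nat.le_of_ble_eq_true hq))).2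
  rcases Nat.lt_or_ge j ks.length with hj' | hj'
  · have h := List.all_eq_true.1 hg j (List.mem_range.2 hj')
    simp only [Bool.and_eq_true, Nat.beq_eq] at h
    rw [h.1]
    exact ⟨(piL_rep (hks j hj').1).1, (hks j hj').2⟩
  · have hj2 : j - ks.length < ks.length := by omega
    have h := List.all_eq_true.1 hg (j - ks.length) (List.mem_range.2 hj2)
    simp only [Bool.and_eq_true, Nat.beq_eq] at h
    have e : Nat.add ks.length (j - ks.length) = j := Nat.add_sub_cancel' hj'
    rw [e] at h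
    rw [h.2]
    obtain ⟨-, r2, r3⟩ := piL_rep (hks _ hj2).1
    exact ⟨r2, r3 ▸ inv_mem (hks _ hj2).2⟩

/-- A configuration gives the model group with the whole centralizer. -/
theorem Cfg.embed (H : Cfg t ψ i dSg) : ∃ φ : ↥KK →* G, Function.Injective φ ∧
    φ ⟨tP, cm_le_KK.1 t_spec.2.2.2.1⟩ = t ∧ φ ⟨uP, cm_le_KK.1 (repTab_spec (k := 2) (by norm_num)).2.1⟩ = ext' ψ uP ∧
    centralizer ({t} : Set G) ≤ φ.range := by
  classical
  let f0 : ℕ → G × P276 := fun k => fP ψ i (sgMc.getD k 0)
  set B : Subgroup (G × P276) := closure {y | ∃ j < mclCert.gens.length, lval f0 (mclCert.gens.getD j idL) = y}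
    with hBdef
  have hB : Nat.card B ≤ 898128000 := by
    have hV : Valid mclCert f0 (graphM ψ) := by
      refine ⟨H.mcl_val, fun s hs => ?_⟩
      rw [show mclCert.subs = [0, 2, 4, 6, 8] from rfl] at hs
      simp only [List.mem_cons, List.not_mem_nil, or_false] at hs
      rcases hs with rfl | rfl | rfl | rfl | rfl
      · exact fP_graphM (k := 0) (by decide)
      · exact fP_graphM (k := 1) (by decide)
      · exact fP_graphM (k := 2) (by decide)
      · exact fP_graphM (k := 3) (by decide)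
      · exact fP_graphM (k := 5) (by decide)
    refine (card_closure_le hV Cfsg.Lib.MclType.mclCert_fact_ok Cfsg.Lib.MclType.mclCert_live_zero
      Cfsg.Lib.MclType.mclCert_row_ok (by rw [show mclCert.nLive = 22275 from rfl]; norm_num)).trans ?_
    rw [show mclCert.nLive = 22275 from rfl]
    exact (Nat.mul_le_mul_left _ card_graphM).trans (by norm_num)
  have hBm : ∀ k ∈ [0, 1, 6], fP ψ i k ∈ B := by
    intro k hk
    simp only [List.mem_cons, List.not_mem_nil, or_false] at hk
    rw [hBdef, show mclCert.gens = [0, 2, 10] from rfl]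
    rcases hk with rfl | rfl | rfl
    · exact subset_closure ⟨0, by norm_num, rfl⟩
    · exact subset_closure ⟨1, by norm_num, rfl⟩
    · exact subset_closure ⟨2, by norm_num, rfl⟩
  set D : Subgroup (G × P276) := closure {y | ∃ j < topCert.gens.length, lval (fP ψ i) (topCert.gens.getD j idL) = y}
    with hDdef
  have hD : Nat.card D ≤ 495766656000 := by
    have hV : Valid topCert (fP ψ i) B := by
      refine ⟨H.top_val, fun s hs => ?_⟩
      rw [show topCert.subs = [0, 2, 12] from rfl] at hs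
      simp only [List.mem_cons, List.not_mem_nil, or_false] at hs
      rcases hs with rfl | rfl | rfl
      · exact hBm 0 (by decide)
      · exact hBm 1 (by decide)
      · exact hBm 6 (by decide)
    refine (card_closure_le hV topCert_fact_ok topCert_live_zero topCert_row_ok
      (by rw [show topCert.nLive = 552 from rfl]; norm_num)).trans ?_
    rw [show topCert.nLive = 552 from rfl]
    exact (Nat.mul_le_mul_left _ hB).trans (by norm_num)
  have hlet : ∀ k ∈ [0, 1, 6, 7], fP ψ i k ∈ D := by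
    intro k hk
    simp only [List.mem_cons, List.not_mem_nil, or_false] at hk
    rw [hDdef, show topCert.gens = [0, 2, 12, 14] from rfl]
    rcases hk with rfl | rfl | rfl | rfl
    · exact subset_closure ⟨0, by norm_num, rfl⟩
    · exact subset_closure ⟨1, by norm_num, rfl⟩
    · exact subset_closure ⟨2, by norm_num, rfl⟩
    · exact subset_closure ⟨3, by norm_num, rfl⟩
  have hDK : ∀ z ∈ D, z.2 ∈ KK := by
    intro z hz
    have : D ≤ KK.comap (MonoidHom.snd G P276) := by
      rw [hDdef, show topCert.gens = [0, 2, 12, 14] from rfl, closure_le]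
      rintro y ⟨j, hj, rfl⟩
      have hj4 : j < 4 := hj
      interval_cases j
      · exact cm_le_KK.1 (piL_mem (k := 0) (by norm_num) (by norm_num))
      · exact cm_le_KK.1 (piL_mem (k := 1) (by norm_num) (by norm_num))
      · exact cm_le_KK.2
      · exact cm_le_KK.1 (piL_mem (k := 7) (by norm_num) (by norm_num))
    exact this hz
  let π : D →* ↥KK := ((MonoidHom.snd G P276).comp D.subtype).codRestrict _ fun z => hDK _ z.2
  have hπ : Function.Surjective π := by
    intro x
    have hle : KK ≤ D.map (MonoidHom.snd G P276) := by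
      have h := kGen_ok
      simp only [Bool.and_eq_true] at h
      obtain ⟨⟨⟨⟨⟨⟨⟨hg, hst⟩, l0⟩, l1⟩, l2⟩, a0⟩, a1⟩, a2⟩ := h
      have hks : ∀ j < 4, [0, 1, 6, 7].getD j 0 < 12 ∧ piL ([0, 1, 6, 7].getD j 0) ∈ D.map (MonoidHom.snd G P276) := by
        intro j hj
        have hm : [0, 1, 6, 7].getD j 0 ∈ [0, 1, 6, 7] ∧ [0, 1, 6, 7].getD j 0 < 12 := by
          interval_cases j <;> decide
        exact ⟨hm.2, fP ψ i _, hlet _ hm.1, rfl⟩
      show closure ({toP 9 276 CoThree.cert.a, toP 9 276 CoThree.cert.c, toP 9 276 CoThree.cert.d} : Set P276) ≤ _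
      rw [closure_le]
      rintro y (rfl | rfl | rfl)
      · exact mem_of_gen (ks := [0, 1, 6, 7]) rfl hks hg hst l0 a0
      · exact mem_of_gen (ks := [0, 1, 6, 7]) rfl hks hg hst l1 a1
      · exact mem_of_gen (ks := [0, 1, 6, 7]) rfl hks hg hst l2 a2
    obtain ⟨z, hz, e⟩ := hle x.2
    exact ⟨⟨z, hz⟩, Subtype.ext e⟩
  have hcK : Nat.card ↥KK = 495766656000 := kk_model.2
  have hπb : Function.Bijective π := (Nat.bijective_iff_surjective_and_card π).2
    ⟨hπ, le_antisymm (hD.trans hcK.ge) (Nat.card_le_card_of_surjective π hπ)⟩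
  let e := MulEquiv.ofBijective π hπb
  let φ : ↥KK →* G := ((MonoidHom.fst G P276).comp D.subtype).comp e.symm.toMonoidHom
  have hφ : ∀ z : D, φ (π z) = (z : G × P276).1 := fun z => by
    show ((e.symm (e z) : D) : G × P276).1 = _
    rw [e.symm_apply_apply]
  have hgraph : ∀ g : P276, g ∈ Cm → (ext' ψ g, g) ∈ D := by
    let S : Subgroup (G × P276) := closure {y | ∃ k ∈ [0, 1, 7], fP ψ i k = y}
    have hSD : S ≤ D := (closure_le _).2 fun y hy => by
      obtain ⟨k, hk, rfl⟩ := hy
      refine hlet k ?_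
      simp only [List.mem_cons, List.not_mem_nil, or_false] at hk ⊢
      omega
    have hSg : S ≤ graphC ψ := (closure_le _).2 fun y hy => by
      obtain ⟨k, hk, rfl⟩ := hy
      simp only [List.mem_cons, List.not_mem_nil, or_false] at hk
      exact fP_graph (by omega) (by omega)
    have h := aGen_ok
    simp only [Bool.and_eq_true] at h
    obtain ⟨⟨⟨⟨⟨hg, hst⟩, l0⟩, l1⟩, a0⟩, a1⟩ := h
    have hks : ∀ j < 3, [0, 1, 7].getD j 0 < 12 ∧ piL ([0, 1, 7].getD j 0) ∈ S.map (MonoidHom.snd G P276) := by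
      intro j hj
      have hm : [0, 1, 7].getD j 0 ∈ [0, 1, 7] ∧ [0, 1, 7].getD j 0 < 12 := by
        interval_cases j <;> decide
      exact ⟨hm.2, fP ψ i _, subset_closure ⟨_, hm.1, rfl⟩, rfl⟩
    have hle : Cm ≤ S.map (MonoidHom.snd G P276) := by
      rw [Cm, Sub.grp, closure_le]
      rintro y (rfl | rfl)
      · exact mem_of_gen (ks := [0, 1, 7]) rfl hks hg hst l0 a0
      · exact mem_of_gen (ks := [0, 1, 7]) rfl hks hg hst l1 a1
    intro g hg'
    obtain ⟨z, hz, rfl⟩ := hle hg'
    have := hSD hz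
    rwa [show z = (ext' ψ z.2, z.2) from Prod.ext (mem_graphC.1 (hSg hz)).2 rfl] at this
  have hext : ∀ (g : P276) (hg : g ∈ Cm), φ ⟨g, cm_le_KK.1 hg⟩ = ext' ψ g := fun g hg => by
    exact (congrArg φ (Subtype.ext rfl : (⟨g, cm_le_KK.1 hg⟩ : ↥KK) = π ⟨_, hgraph g hg⟩)).trans (hφ _)
  refine ⟨φ, ?_, ?_, hext _ (repTab_spec (k := 2) (by norm_num)).2.1, fun x hx => ?_⟩
  · haveI : IsSimpleGroup ↥KK := by
      obtain ⟨⟨e'⟩, -⟩ := kk_model
      exact e'.isSimpleGroup_congr.1 simple_spor
    rcases (inferInstance : φ.ker.Normal).eq_bot_or_eq_top with h | h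
    · exact (MonoidHom.ker_eq_bot_iff φ).1 h
    · exfalso
      have ht1 := MonoidHom.mem_ker.1 (h ▸ mem_top (⟨tP, cm_le_KK.1 t_spec.2.2.2.1⟩ : ↥KK))
      rw [hext _ t_spec.2.2.2.1] at ht1
      exact t_spec.2.1 (ext_inj ψ t_spec.2.2.2.1 (one_mem _) (ht1.trans (ext_one ψ).symm))
  · rw [hext _ t_spec.2.2.2.1, H.psiT]
  · obtain ⟨g, hg, rfl⟩ := ext_surj ψ hx
    exact ⟨⟨g, cm_le_KK.1 hg⟩, hext g hg⟩

end Cfsg.Lib.CoThreeType
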