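import Cfsg.Agent.Lib.CoThreeType.KillCheck0
import Cfsg.Agent.Lib.CoThreeType.KillCheck1

/-!
Kernel checks of the certificate `killCert`.
-/

set_option autoImplicit false
set_option maxRecDepth 100000
set_option linter.style.longLine false

namespace Cfsg.Lib.CoThreeType

open Cfsg.Lib.J3Type

theorem killCert_rows : rowsOK killCert 0 1 = true := by decide +kernel

theorem killCert_fact_ok : ∀ i < killCert.nFacts, factOK killCert i = true := by
  intro i hi
  replace hi : i < 17862 := hi
  by_cases h0 : i < 4000
  · exact factOK_of_factsOK killCert_facts0 (by omega) (by omega)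
  by_cases h1 : i < 8000
  · exact factOK_of_factsOK killCert_facts1 (by omega) (by omega)
  by_cases h2 : i < 12000
  · exact factOK_of_factsOK killCert_facts2 (by omega) (by omega)
  by_cases h3 : i < 16000
  · exact factOK_of_factsOK killCert_facts3 (by omega) (by omega)
  by_cases h4 : i < 17862
  · exact factOK_of_factsOK killCert_facts4 (by omega) (by omega)
  omega

theorem killCert_row_ok : ∀ c < killCert.nLive, rowOK killCert c = true := fun c hc =>
  rowOK_of_rowsOK killCert_rows (Nat.zero_le _) (by rw [Nat.zero_add]; exact hc)

theorem killCert_live_zero : killCert.live.get 15 0 = 0 := by decide +kernel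

end Cfsg.Lib.CoThreeType
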