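import Cfsg.Agent.Lib.CoThreeType.Stage

/-!
# The letters of the model in the group
-/

set_option autoImplicit false
set_option maxRecDepth 100000

namespace Cfsg.Lib.CoThreeType

open Equiv Cfsg.Lib.PermAut Cfsg.Lib.J3Type Subgroup

/-- The table of a signed letter. -/
def tabG (l : ℕ) : ℕ :=
  bif Nat.beq (Nat.mod l 2) 0 then lTab.getD (Nat.div l 2) 0 else lInv.getD (Nat.div l 2) 0

/-- All letters of a word are among the twelve. -/
def okG (w : List ℕ) : Bool := w.all fun l => Nat.blt l 24

/-- All letters of a word lie in the centralizer. -/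
def okC (w : List ℕ) : Bool := w.all fun l => Nat.blt l 24 && !(Nat.beq (Nat.div l 2) 6)

/-- The letters of a word lie in a list. -/
def inS (s : List ℕ) (w : List ℕ) : Bool := w.all fun l => Nat.blt l 24 && inL (Nat.div l 2) s

/-- A word is trivial in the model. -/
noncomputable def trivG (w : List ℕ) : Bool := okG w && sameB 9 276 (w.map tabG) []

/-- Renumbering the letters of a word. -/
def ren (σ : List ℕ) (w : List ℕ) : List ℕ :=
  w.map fun l => Nat.add (Nat.mul 2 (σ.getD (Nat.div l 2) 0)) (Nat.mod l 2)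

/-- All letters are below twice the number of renumbered ones. -/
def renOk (σ : List ℕ) (w : List ℕ) : Bool :=
  (w.all fun l => Nat.blt (Nat.div l 2) σ.length) && (σ.all fun k => Nat.blt k 12) && Nat.blt σ.length 15

theorem ren_spec {σ w : List ℕ} (h : renOk σ w = true) {M : Type*} [Group M] (f : ℕ → M) :
    wval f (ren σ w) = wval (fun k => f (σ.getD k 0)) w := by
  simp only [renOk, Bool.and_eq_true, List.all_eq_true, Nat.blt, Nat.ble_eq] at h
  obtain ⟨⟨hw, hσ⟩, hlen⟩ := h
  rw [wval, wval, ren, List.map_map]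
  congr 1
  refine List.map_congr_left fun l hl => ?_
  have hl' : l / 2 < σ.length := hw l hl
  have : σ.getD (l / 2) 0 < 12 := by
    rw [List.getD_eq_getElem _ _ hl']
    exact hσ _ (List.getElem_mem hl')
  show lval f (2 * σ.getD (l / 2) 0 + l % 2) = _
  unfold lval idL
  rw [if_neg (show ¬ 30 ≤ 2 * σ.getD (l / 2) 0 + l % 2 by omega), if_neg (show ¬ 30 ≤ l by omega),
    show (2 * σ.getD (l / 2) 0 + l % 2) % 2 = l % 2 by omega,
    show (2 * σ.getD (l / 2) 0 + l % 2) / 2 = σ.getD (l / 2) 0 by omega]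

theorem tabG_spec {l : ℕ} (hl : l < 24) :
    Rep 9 (toP 9 276 (tabG l)) (tabG l) ∧ toP 9 276 (tabG l) = lval piL l := by
  obtain ⟨h1, h2, h3⟩ := piL_rep (k := l / 2) (by omega)
  unfold tabG lval idL
  rw [if_neg (by omega), show Nat.mod l 2 = l % 2 from rfl, show Nat.div l 2 = l / 2 from rfl]
  rcases Nat.mod_two_eq_zero_or_one l with h | h
  · rw [h, show Nat.beq 0 0 = true from rfl, cond_true, if_pos rfl]
    exact ⟨h1, rfl⟩
  · rw [h, show Nat.beq 1 0 = false from rfl, cond_false, if_neg (by omega)]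
    exact ⟨h2, h3⟩

theorem tabG_word : ∀ {w : List ℕ}, okG w = true →
    (∀ T ∈ w.map tabG, Rep 9 (toP 9 276 T) T) ∧ ((w.map tabG).map (toP 9 276)).prod = wval piL w
  | [], _ => ⟨by simp, rfl⟩
  | l :: w, h => by
    simp only [okG, List.all_cons, Bool.and_eq_true] at h
    have hl : l < 24 := Nat.lt_of_succ_le (Nat.le_of_ble_eq_true h.1)
    obtain ⟨h1, h2⟩ := tabG_spec hl
    obtain ⟨i1, i2⟩ := tabG_word (w := w) h.2
    refine ⟨fun T hT => ?_, ?_⟩
    · rcases List.mem_cons.1 hT with rfl | hT
      exacts [h1, i1 T hT]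
    · rw [wval_cons, ← h2, ← i2]
      rfl

theorem trivG_spec {w : List ℕ} (h : trivG w = true) : wval piL w = 1 := by
  simp only [trivG, Bool.and_eq_true] at h
  obtain ⟨r1, r2⟩ := tabG_word h.1
  rw [← r2]
  simpa using eq_of_sameB r1 (by simp) h.2

theorem okC_mem {w : List ℕ} (hw : okC w = true) : wval piL w ∈ Cm := by
  induction w with
  | nil => exact one_mem _
  | cons l w ih =>
    simp only [okC, List.all_cons, Bool.and_eq_true, Nat.blt, Nat.ble_eq, Bool.not_eq_true'] at hw
    have hl : l < 24 := hw.1.1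
    have h6 : l / 2 ≠ 6 := fun e => by
      have h := hw.1.2
      rw [show Nat.div l 2 = 6 from e] at h
      exact Bool.noConfusion h
    rw [wval_cons]
    refine mul_mem ?_ (ih (by simpa [okC, Nat.blt] using hw.2))
    unfold lval idL
    rw [if_neg (by omega)]
    split
    · exact piL_mem (by omega) h6
    · exact inv_mem (piL_mem (by omega) h6)

variable {G : Type*} [Group G] {t i : G} {ψ : Cm ≃* centralizer ({t} : Set G)}

/-- The letters in the group. -/
noncomputable def gam (ψ : Cm ≃* centralizer ({t} : Set G)) (i : G) (k : ℕ) : G :=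
  if k = 6 then i else ext' ψ (piL k)

/-- The letters in both groups. -/
noncomputable def fP (ψ : Cm ≃* centralizer ({t} : Set G)) (i : G) (k : ℕ) : G × P276 :=
  (gam ψ i k, piL k)

theorem fP_graph {k : ℕ} (hk : k < 12) (h6 : k ≠ 6) : fP ψ i k ∈ graphC ψ :=
  mem_graphC.2 ⟨piL_mem hk h6, if_neg h6⟩

theorem fP_snd (w : List ℕ) : (wval (fP ψ i) w).2 = wval piL w :=
  wval_map (MonoidHom.snd G P276) (fP ψ i) w

theorem fP_fst (w : List ℕ) : (wval (fP ψ i) w).1 = wval (gam ψ i) w :=
  wval_map (MonoidHom.fst G P276) (fP ψ i) w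

/-- A value of a word lies in a subgroup containing its letters. -/
theorem wval_mem {M : Type*} [Group M] {f : ℕ → M} {S : Subgroup M} {w : List ℕ}
    (h : ∀ l ∈ w, f (l / 2) ∈ S) : wval f w ∈ S := by
  induction w with
  | nil => exact one_mem _
  | cons l w ih =>
    rw [wval_cons]
    refine mul_mem ?_ (ih fun x hx => h x (List.mem_cons_of_mem _ hx))
    unfold lval
    split
    · exact one_mem _
    · split
      · exact h l (List.mem_cons_self ..)
      · exact inv_mem (h l (List.mem_cons_self ..))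

theorem okC_graph {w : List ℕ} (hw : okC w = true) : wval (fP ψ i) w ∈ graphC ψ := by
  refine wval_mem fun l hl => ?_
  simp only [okC, List.all_eq_true, Bool.and_eq_true, Nat.blt, Nat.ble_eq, Bool.not_eq_true'] at hw
  obtain ⟨h1, h2⟩ := hw l hl
  have hl' : l < 24 := h1
  exact fP_graph (by omega) fun e => by rw [show Nat.div l 2 = 6 from e] at h2; exact Bool.noConfusion h2

theorem eq_one_graph {z : G × P276} (h : z ∈ graphC ψ) (h2 : z.2 = 1) : z = 1 :=
  Prod.ext (by rw [(mem_graphC.1 h).2, h2, ext_one]; rfl) h2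

end Cfsg.Lib.CoThreeType
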