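import Cfsg.Agent.Lib.CoThreeType.Chunk
import Cfsg.Agent.Lib.CoThreeType.ModelData
import Cfsg.Agent.Lib.PermAut.CoThreeData

/-!
# Kernel checks of the centralizer on 276 points
-/

set_option autoImplicit false
set_option maxRecDepth 100000
-- the kernel checks run one after another, to bound the memory of the file
set_option Elab.async false

namespace Cfsg.Lib.CoThreeType

open Cfsg.Lib.PermAut

set_option maxHeartbeats 1000000 in -- long kernel checks
theorem cent_ok : centSub.ok 9 276 = true := by
  refine sub_ok_of ?_ ?_ (closedB_step ?_ (all2_split 3 ?_ ?_) (closedB_step ?_ ?_ (closedB_step ?_ ?_ (closedB_step ?_ ?_ ?_))))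
  all_goals decide +kernel

theorem cent_size : centSub.size = 2903040 := by decide +kernel

theorem cent_base : centSub.base = [48, 0, 1, 2] := rfl

theorem t_ok : (invPairOk 9 276 tTab tTab && !(sameB 9 276 [tTab] []) &&
    sameB 9 276 [tTab, centSub.g0] [centSub.g0, tTab] && sameB 9 276 [tTab, centSub.g1] [centSub.g1, tTab] &&
    pathOk centSub.lev tPath && sameB 9 276 [tTab] (pickPath centSub.lev tPath)) = true := by decide +kernel

theorem letters_ok : ((List.range 12).all fun k =>
    invPairOk 9 276 (lTab.getD k 0) (lInv.getD k 0) && (Nat.beq k 6 || (pathOk centSub.lev (lPath.getD k []) &&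
      sameB 9 276 [lTab.getD k 0] (pickPath centSub.lev (lPath.getD k []))))) = true := by decide +kernel

theorem six_ok : sameB 9 276 [lTab.getD 6 0, lTab.getD 6 0] [] = true := by decide +kernel

theorem com_ok : (pathOk centSub.lev (tCom.getD 0 []) && pathOk centSub.lev (tCom.getD 1 []) &&
    sameB 9 276 (pickPath centSub.lev (tCom.getD 1 []) ++ (pickPath centSub.lev (tCom.getD 0 []) ++ [tTab]))
      (pickPath centSub.lev (tCom.getD 0 []) ++ pickPath centSub.lev (tCom.getD 1 []))) = true := by decide +kernel

theorem top_ok : (pathOk CoThree.cert.tr (topPath.getD 0 []) &&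
    sameB 9 276 [centSub.g0] (pickPath CoThree.cert.tr (topPath.getD 0 [])) &&
    pathOk CoThree.cert.tr (topPath.getD 1 []) &&
    sameB 9 276 [centSub.g1] (pickPath CoThree.cert.tr (topPath.getD 1 [])) &&
    pathOk CoThree.cert.tr (topPath.getD 2 []) &&
    sameB 9 276 [lTab.getD 6 0] (pickPath CoThree.cert.tr (topPath.getD 2 []))) = true := by decide +kernel

end Cfsg.Lib.CoThreeType
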