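import Cfsg.Agent.Lib.CoThreeType.NormData

/-!
Kernel checks of the certificate `baCert`, part 0.
-/

set_option autoImplicit false
set_option maxRecDepth 100000
-- the kernel checks run one after another, to bound the memory of the file
set_option Elab.async false
set_option linter.style.longLine false

namespace Cfsg.Lib.CoThreeType

open Cfsg.Lib.J3Type

theorem baCert_facts0 : factsOK baCert 0 3212 = true := by decide +kernel

end Cfsg.Lib.CoThreeType
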