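import Cfsg.Agent.Lib.CoThreeType.NormCheck0

/-!
Kernel checks of the certificate `baCert`.
-/

set_option autoImplicit false
set_option maxRecDepth 100000
set_option linter.style.longLine false

namespace Cfsg.Lib.CoThreeType

open Cfsg.Lib.J3Type

theorem baCert_rows : rowsOK baCert 0 15 = true := by decide +kernel

theorem baCert_fact_ok : ∀ i < baCert.nFacts, factOK baCert i = true := by
  intro i hi
  replace hi : i < 3212 := hi
  by_cases h0 : i < 3212
  · exact factOK_of_factsOK baCert_facts0 (by omega) (by omega)
  omega

theorem baCert_row_ok : ∀ c < baCert.nLive, rowOK baCert c = true := fun c hc =>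
  rowOK_of_rowsOK baCert_rows (Nat.zero_le _) (by rw [Nat.zero_add]; exact hc)

theorem baCert_live_zero : baCert.live.get 15 0 = 0 := by decide +kernel

end Cfsg.Lib.CoThreeType
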