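import Cfsg.Agent.Lib.CoThreeType.Fusion
import Cfsg.Agent.Lib.MclType.Words

/-!
# Rules in the letters of a subgroup of the centralizer and the swapping involution
-/

set_option autoImplicit false
set_option maxRecDepth 100000

namespace Cfsg.Lib.CoThreeType

open Equiv Cfsg.Lib.PermAut Cfsg.Lib.J3Type Subgroup
open Cfsg.Lib.MclType (wordEq wordEq_eq invW wval_invW rotW wval_rotW redW wval_redW zipChk zipChk_spec)

/-- Letters in the centralizer: tables, their inverses and their paths. -/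
structure Lts where
  tabs : List ℕ
  invs : List ℕ
  paths : List (List ℕ)

namespace Lts

variable (L : Lts)

/-- The number of the swapping involution among the letters. -/
def m : ℕ := L.tabs.length

/-- The table of a signed letter. -/
def tab (l : ℕ) : ℕ :=
  bif Nat.beq (Nat.mod l 2) 0 then L.tabs.getD (Nat.div l 2) 0 else L.invs.getD (Nat.div l 2) 0

/-- All letters of a word lie in the centralizer. -/
def okW (w : List ℕ) : Bool := w.all fun l => Nat.blt l (Nat.mul 2 L.m)

/-- The code of a word times the element with the given code. -/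
noncomputable def wcode (w : List ℕ) (c : ℕ) : ℕ := (w.map L.tab).foldr stepC c

/-- The letters lie in the centralizer. -/
noncomputable def ok : Bool :=
  Nat.blt L.m 15 && (List.range L.m).all fun k =>
    invPairOk 9 276 (L.tabs.getD k 0) (L.invs.getD k 0) && pathOk centSub.lev (L.paths.getD k []) &&
      sameB 9 276 [L.tabs.getD k 0] (pickPath centSub.lev (L.paths.getD k []))

/-- The letter as a permutation. -/
noncomputable def pi (k : ℕ) : P276 := if k = L.m then piL 6 else toP 9 276 (L.tabs.getD k 0)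

variable {L} (V : L.ok = true)

include V

theorem pi_spec {k : ℕ} (hk : k < L.m) : Rep 9 (L.pi k) (L.tabs.getD k 0) ∧
    Rep 9 (toP 9 276 (L.invs.getD k 0)) (L.invs.getD k 0) ∧ toP 9 276 (L.invs.getD k 0) = (L.pi k)⁻¹ ∧
    L.pi k ∈ Cm := by
  simp only [ok, Bool.and_eq_true] at V
  have h := List.all_eq_true.1 V.2 k (List.mem_range.2 hk)
  simp only [Bool.and_eq_true] at h
  obtain ⟨r1, r2, r3⟩ := rep_of_invPairOk (N := 276) h.1.1
  have e : L.pi k = toP 9 276 (L.tabs.getD k 0) := if_neg (Nat.ne_of_lt hk)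
  rw [e]
  exact ⟨r1, r2, r3, cm_valid.mem_of_same r1 h.1.2 h.2⟩

theorem small : L.m < 15 := by
  simp only [ok, Bool.and_eq_true, Nat.blt, Nat.ble_eq] at V
  exact V.1

theorem word_spec : ∀ {w : List ℕ}, L.okW w = true →
    wval L.pi w ∈ Cm ∧ ∀ g : P276, codeOf (wval L.pi w * g) = L.wcode w (codeOf g)
  | [], _ => ⟨one_mem _, fun g => by rw [wval_nil, one_mul]; rfl⟩
  | l :: w, h => by
    simp only [okW, List.all_cons, Bool.and_eq_true, Nat.blt, Nat.ble_eq] at h
    have hl : l < 2 * L.m := h.1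
    obtain ⟨i1, i2⟩ := word_spec (w := w) (by simpa [okW, Nat.blt] using h.2)
    obtain ⟨r1, r2, r3, r4⟩ := pi_spec V (k := l / 2) (by omega)
    have hs : lval L.pi l ∈ Cm ∧ Rep 9 (toP 9 276 (L.tab l)) (L.tab l) ∧ toP 9 276 (L.tab l) = lval L.pi l := by
      have := small V
      unfold lval idL tab
      rw [if_neg (by omega), show Nat.mod l 2 = l % 2 from rfl, show Nat.div l 2 = l / 2 from rfl]
      rcases Nat.mod_two_eq_zero_or_one l with h2 | h2
      · rw [h2, show Nat.beq 0 0 = true from rfl, cond_true, if_pos rfl, r1.toP_eq]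
        exact ⟨r4, r1, rfl⟩
      · rw [h2, show Nat.beq 1 0 = false from rfl, cond_false, if_neg (by omega), r3]
        refine ⟨inv_mem r4, ?_, rfl⟩
        rw [← r3]; exact r2
    rw [wval_cons]
    refine ⟨mul_mem hs.1 i1, fun g => ?_⟩
    rw [mul_assoc, ← hs.2.2, codeOf_mul hs.2.1, i2 g]
    rfl

theorem code_word {w : List ℕ} (hw : L.okW w = true) : codeOf (wval L.pi w) = L.wcode w codeOne := by
  rw [← mul_one (wval L.pi w), (word_spec V hw).2, codeOf_one]

theorem word_eq_one {w : List ℕ} (hw : L.okW w = true) (h : L.wcode w codeOne = codeOne) : wval L.pi w = 1 :=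
  eq_of_code (word_spec V hw).1 (one_mem _) ((code_word V hw).trans (h.trans codeOf_one.symm))

theorem word_eq_dP {w : List ℕ} {d : ℕ} (hd : d < 4608) (hw : L.okW w = true)
    (h : L.wcode w codeOne = dSub.code.get 36 d) : wval L.pi w = dP d :=
  dSub_valid.eq_el (word_spec V hw).1 (dSub_size ▸ hd) ((code_word V hw).trans h)

end Lts

variable {G : Type*} [Group G] {t i : G} {ψ : Cm ≃* centralizer ({t} : Set G)} {L : Lts}

/-- The letters in the group. -/
noncomputable def gT (ψ : Cm ≃* centralizer ({t} : Set G)) (i : G) (L : Lts) (k : ℕ) : G :=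
  if k = L.m then i else ext' ψ (L.pi k)

/-- The letters in both groups. -/
noncomputable def pT (ψ : Cm ≃* centralizer ({t} : Set G)) (i : G) (L : Lts) (k : ℕ) : G × P276 :=
  (gT ψ i L k, L.pi k)

/-- The graph of the isomorphism of the centralizers. -/
noncomputable def graphC (ψ : Cm ≃* centralizer ({t} : Set G)) : Subgroup (G × P276) :=
  (((centralizer ({t} : Set G)).subtype.comp ψ.toMonoidHom).prod Cm.subtype).range

theorem mem_graphC {z : G × P276} : z ∈ graphC ψ ↔ z.2 ∈ Cm ∧ z.1 = ext' ψ z.2 := by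
  constructor
  · rintro ⟨g, rfl⟩
    exact ⟨g.2, (ext_coe ψ g).symm⟩
  · rintro ⟨h1, h2⟩
    exact ⟨⟨z.2, h1⟩, Prod.ext (by rw [h2, ext', dif_pos h1]; rfl) rfl⟩

theorem pT_graph (V : L.ok = true) {k : ℕ} (hk : k < L.m) : pT ψ i L k ∈ graphC ψ :=
  mem_graphC.2 ⟨(Lts.pi_spec V hk).2.2.2, if_neg (Nat.ne_of_lt hk)⟩

theorem pT_fst (w : List ℕ) : (wval (pT ψ i L) w).1 = wval (gT ψ i L) w :=
  wval_map (MonoidHom.fst G P276) (pT ψ i L) w

theorem pT_snd (w : List ℕ) : (wval (pT ψ i L) w).2 = wval L.pi w :=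
  wval_map (MonoidHom.snd G P276) (pT ψ i L) w

theorem wval_graph (V : L.ok = true) {w : List ℕ} (hw : L.okW w = true) : wval (pT ψ i L) w ∈ graphC ψ := by
  induction w with
  | nil => exact one_mem _
  | cons l w ih =>
    simp only [Lts.okW, List.all_cons, Bool.and_eq_true, Nat.blt, Nat.ble_eq] at hw
    have hl : l < 2 * L.m := hw.1
    have := Lts.small V
    rw [wval_cons]
    refine mul_mem ?_ (ih (by simpa [Lts.okW, Nat.blt] using hw.2))
    unfold lval idL
    rw [if_neg (by omega)]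
    split
    · exact pT_graph V (by omega)
    · exact inv_mem (pT_graph V (by omega))

theorem gT_word (V : L.ok = true) {w : List ℕ} (hw : L.okW w = true) :
    wval (gT ψ i L) w = ext' ψ (wval L.pi w) := by
  rw [← pT_fst, ← pT_snd (ψ := ψ) (i := i)]
  exact (mem_graphC.1 (wval_graph V hw)).2

theorem gT_six (L : Lts) (hm : L.m < 15) : lval (gT ψ i L) (2 * L.m) = i ∧
    lval (gT ψ i L) (2 * L.m + 1) = i⁻¹ := by
  have e : gT ψ i L L.m = i := if_pos rfl
  constructor
  · unfold lval idL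
    rw [if_neg (show ¬ 30 ≤ 2 * L.m by omega), if_pos (show 2 * L.m % 2 = 0 by omega),
      show 2 * L.m / 2 = L.m by omega, e]
  · unfold lval idL
    rw [if_neg (show ¬ 30 ≤ 2 * L.m + 1 by omega), if_neg (show ¬ (2 * L.m + 1) % 2 = 0 by omega),
      show (2 * L.m + 1) / 2 = L.m by omega, e]

/-- The relator of the automorphism. -/
def alWord (il : ℕ) (e : ℕ × List ℕ × List ℕ) : List ℕ :=
  Nat.add il 1 :: (e.2.1 ++ il :: invW e.2.2)

/-- The relator without ambiguity. -/
def freeWord (il : ℕ) (e : ℕ × List ℕ × List ℕ) : List ℕ := (List.replicate e.1 (e.2.1 ++ [il])).flatten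

/-- The words with known value. -/
def fullW (il : ℕ) (rel : List (List ℕ)) (al fr : List (ℕ × List ℕ × List ℕ)) : List (List ℕ) :=
  [il, il] :: (rel ++ (al.map (alWord il) ++ fr.map (freeWord il)))

/-- The place in a list. -/
def posIn (e : ℕ) : List ℕ → ℕ
  | [] => 0
  | x :: l => bif Nat.beq e x then 0 else Nat.add 1 (posIn e l)

/-- The map induced by a relator on the elementary subgroup. -/
def fOn (f : ℕ → ℕ) (ex act : List ℕ) (e : ℕ) : ℕ := f (act.getD (posIn e ex) 0)

/-- Iteration of the induced map. -/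
def fIter (f : ℕ → ℕ) (ex act : List ℕ) : ℕ → ℕ → ℕ
  | 0, e => e
  | n + 1, e => fOn f ex act (fIter f ex act n e)

/-- A rule of the automorphism. -/
noncomputable def alOK (L : Lts) (f : ℕ → ℕ) (e : ℕ × List ℕ × List ℕ) : Bool :=
  Nat.blt e.1 4608 && L.okW e.2.1 && L.okW e.2.2 &&
    Nat.beq (L.wcode e.2.1 codeOne) (dSub.code.get 36 e.1) &&
    Nat.beq (L.wcode e.2.2 codeOne) (dSub.code.get 36 (f e.1))

/-- A relator without ambiguity. -/
noncomputable def freeOK (L : Lts) (f : ℕ → ℕ) (ex : List ℕ) (e : ℕ × List ℕ × List ℕ) : Bool :=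
  L.okW e.2.1 &&
    ex.all fun x =>
      Nat.blt x 4608 && Nat.blt (e.2.2.getD (posIn x ex) 0) 4608 &&
      Nat.beq ((dSub.word x).map dSub.gT |>.foldr stepC (L.wcode e.2.1 codeOne))
        (L.wcode e.2.1 (dSub.code.get 36 (e.2.2.getD (posIn x ex) 0))) &&
      inL (fOn f ex e.2.2 x) ex && Nat.beq (fIter f ex e.2.2 e.1 x) x &&
      (!(Nat.beq (fOn f ex e.2.2 x) x) || Nat.beq x dSub.root)

/-- The elementary subgroup contains the two involutions and is its own centralizer. -/
noncomputable def exB (ex : List ℕ) : Bool :=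
  inL dTn ex && inL dVn ex &&
    (List.range 4608).all fun x => inL x ex || ex.any fun e => !(Nat.beq (dM x e) (dM e x))

/-- The known words. -/
noncomputable def fullOK (L : Lts) (f : ℕ → ℕ) (ex : List ℕ) (rel : List (List ℕ))
    (al fr : List (ℕ × List ℕ × List ℕ)) : Bool :=
  rel.all (fun w => L.okW w && Nat.beq (L.wcode w codeOne) codeOne) && al.all (alOK L f) && fr.all (freeOK L f ex)

/-- One rule of a certificate. -/
def ruleOK (full : List (List ℕ)) (w : List ℕ) (h : ℕ × ℕ × ℕ) : Bool :=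
  bif Nat.beq h.1 0 then (redW w).isEmpty else wordEq w (rotW (full.getD (Nat.sub h.1 1) []) h.2.1 h.2.2)

theorem rules_val {M : Type*} [Group M] {g : ℕ → M} {full rules : List (List ℕ)} {hint : List (ℕ × ℕ × ℕ)}
    (h : zipChk (ruleOK full) rules hint = true) (hfull : ∀ w ∈ full, wval g w = 1) :
    ∀ w ∈ rules, wval g w = 1 := by
  intro w hw
  obtain ⟨e, he⟩ := zipChk_spec h w hw
  unfold ruleOK at he
  cases hb : Nat.beq e.1 0
  · rw [hb, cond_false] at he
    rw [wordEq_eq he]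
    refine wval_rotW g ?_ _ _
    rcases Nat.lt_or_ge (Nat.sub e.1 1) full.length with hk | hk
    · rw [List.getD_eq_getElem _ _ hk]
      exact hfull _ (List.getElem_mem hk)
    · rw [List.getD_eq_default _ _ hk]; rfl
  · rw [hb, cond_true, List.isEmpty_iff] at he
    rw [← wval_redW g w, he]; rfl

theorem Cfg.conj_act {f : ℕ → ℕ} (H : Cfg t ψ i f) {x : ℕ} (hx : x < 4608) :
    i⁻¹ * dG ψ x * i = dG ψ (f x) := by
  rw [inv_eq_of_mul_eq_one_left H.sq, H.act x hx]

theorem al_val {f : ℕ → ℕ} (H : Cfg t ψ i f) (hf : IsHom f) (V : L.ok = true) {e : ℕ × List ℕ × List ℕ}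
    (he : alOK L f e = true) : wval (gT ψ i L) (alWord (2 * L.m) e) = 1 := by
  simp only [alOK, Bool.and_eq_true, Nat.blt, Nat.ble_eq, Nat.beq_eq] at he
  obtain ⟨⟨⟨⟨hx, o1⟩, o2⟩, e1⟩, e2⟩ := he
  have v1 : wval (gT ψ i L) e.2.1 = dG ψ e.1 := by rw [gT_word V o1, Lts.word_eq_dP V hx o1 e1]; rfl
  have v2 : wval (gT ψ i L) e.2.2 = dG ψ (f e.1) := by
    rw [gT_word V o2, Lts.word_eq_dP V (hf.lt _ hx) o2 e2]; rfl
  obtain ⟨h4, h5⟩ := gT_six (ψ := ψ) (i := i) L (Lts.small V)
  rw [alWord, show Nat.add (2 * L.m) 1 = 2 * L.m + 1 from rfl, wval_cons, wval_append, wval_cons, wval_invW,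
    v1, v2, h4, h5, ← mul_assoc, ← mul_assoc, H.conj_act hx, mul_inv_cancel]

theorem free_val {f : ℕ → ℕ} (H : Cfg t ψ i f) (V : L.ok = true) {ex : List ℕ}
    (hex : exB ex = true) {e : ℕ × List ℕ × List ℕ} (he : freeOK L f ex e = true) :
    wval (gT ψ i L) (freeWord (2 * L.m) e) = 1 := by
  simp only [exB, Bool.and_eq_true, inL_iff] at hex
  obtain ⟨⟨hexT, hexV⟩, hcent⟩ := hex
  simp only [freeOK, Bool.and_eq_true] at he
  obtain ⟨hw, hall⟩ := he
  obtain ⟨hnC, hncode⟩ := Lts.word_spec V hw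
  set n := wval L.pi e.2.1 with hn
  have hnv : wval (gT ψ i L) e.2.1 = ext' ψ n := gT_word V hw
  obtain ⟨h4, -⟩ := gT_six (ψ := ψ) (i := i) L (Lts.small V)
  set u := ext' ψ n * i with hu
  have hu' : wval (gT ψ i L) (e.2.1 ++ [2 * L.m]) = u := by
    rw [wval_append, hnv, wval_cons, wval_nil, mul_one, h4]
  have hval : ∀ k, wval (gT ψ i L) (List.replicate k (e.2.1 ++ [2 * L.m])).flatten = u ^ k := by
    intro k
    induction k with
    | zero => simp [wval]
    | succ k ih => rw [List.replicate_succ, List.flatten_cons, wval_append, ih, hu', pow_succ']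
  rw [freeWord, hval]
  have hx : ∀ x ∈ ex, x < 4608 ∧ fOn f ex e.2.2 x ∈ ex ∧ u⁻¹ * dG ψ x * u = dG ψ (fOn f ex e.2.2 x) ∧
      fIter f ex e.2.2 e.1 x = x ∧ (fOn f ex e.2.2 x = x → x = dSub.root) := by
    intro x hxm
    have h := List.all_eq_true.1 hall x hxm
    simp only [Bool.and_eq_true, Bool.or_eq_true, Bool.not_eq_true', Nat.blt, Nat.ble_eq, Nat.beq_eq, inL_iff] at h
    obtain ⟨⟨⟨⟨⟨hx1, hy⟩, h3⟩, h4'⟩, h5⟩, h6⟩ := h
    have e' : dP x * n = n * dP (e.2.2.getD (posIn x ex) 0) := by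
      refine eq_of_code (mul_mem (dP_mem hx1) hnC) (mul_mem hnC (dP_mem hy)) ?_
      rw [hncode, dP, dP, dSub_valid.code_el (dSub_size ▸ hy), ← h3]
      have key : ∀ w : List ℕ, (∀ k ∈ w, k < 3) →
          codeOf ((w.map dSub.gP).prod * n) = (w.map dSub.gT).foldr stepC (L.wcode e.2.1 codeOne) := by
        intro w
        induction w with
        | nil => intro _; simpa using Lts.code_word V hw
        | cons k w ih =>
          intro hk
          rw [List.map_cons, List.prod_cons, mul_assoc, Num.gP,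
            codeOf_mul (dSub_valid.gen (gen_ok.2.symm ▸ hk k (List.mem_cons_self ..))).1,
            ih fun j hj => hk j (List.mem_cons_of_mem _ hj), List.map_cons, List.foldr_cons]
      exact key _ (word_lt hx1)
    have e'' : dG ψ x * ext' ψ n = ext' ψ n * dG ψ (e.2.2.getD (posIn x ex) 0) := by
      rw [dG, dG, ← ext_mul ψ (dP_mem hx1) hnC, ← ext_mul ψ hnC (dP_mem hy)]
      exact congrArg _ e'
    refine ⟨hx1, h4', ?_, h5, fun hfix => ?_⟩
    · rw [hu, fOn, ← H.conj_act hy]
      calc (ext' ψ n * i)⁻¹ * dG ψ x * (ext' ψ n * i) = i⁻¹ * ((ext' ψ n)⁻¹ * (dG ψ x * ext' ψ n)) * i := by group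
        _ = _ := by rw [e'', inv_mul_cancel_left]
    · rcases h6 with h6 | h6
      · rw [hfix, Nat.beq_refl] at h6; exact Bool.noConfusion h6
      · exact h6
  have hiter : ∀ x ∈ ex, ∀ k, fIter f ex e.2.2 k x ∈ ex ∧
      (u ^ k)⁻¹ * dG ψ x * u ^ k = dG ψ (fIter f ex e.2.2 k x) := by
    intro x hxm k
    induction k with
    | zero => exact ⟨hxm, by simp [fIter]⟩
    | succ k ih =>
      obtain ⟨-, h1, h2, -⟩ := hx _ ih.1
      refine ⟨h1, ?_⟩
      rw [fIter, ← h2, ← ih.2, pow_succ]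
      group
  have hfix : ∀ x ∈ ex, u ^ e.1 * dG ψ x = dG ψ x * u ^ e.1 := fun x hxm => by
    have := (hiter x hxm e.1).2
    rw [(hx x hxm).2.2.2.1] at this
    conv_lhs => rw [← this]
    group
  obtain ⟨d, hd, hdu⟩ := dG_surj ψ (x := u ^ e.1) (mem_centralizer_singleton_iff.2 (by
    have := hfix _ hexT
    rwa [show dG ψ dTn = t by rw [dG, dP_T.1, H.psiT]] at this)) (by
    have := hfix _ hexV
    rwa [show dG ψ dVn = ext' ψ vP by rw [dG, dP_T.2]] at this)
  have hdex : d ∈ ex := by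
    have h := List.all_eq_true.1 hcent d (List.mem_range.2 hd)
    rw [Bool.or_eq_true] at h
    rcases h with h | h
    · exact inL_iff.1 h
    · obtain ⟨z, hz, h⟩ := List.any_eq_true.1 h
      have hz' := (hx z hz).1
      have : dM d z = dM z d := dG_inj ψ (dM_spec hd hz').1 (dM_spec hz' hd).1 (by
        rw [dG_mul ψ hd hz', dG_mul ψ hz' hd, hdu, hfix z hz])
      rw [this, Nat.beq_refl] at h
      exact Bool.noConfusion h
  obtain ⟨-, h1, h2, -, h3⟩ := hx d hdex
  have : fOn f ex e.2.2 d = d := dG_inj ψ ((hx _ h1).1) hd (by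
    rw [← h2, hdu, mul_assoc, ← pow_succ, pow_succ', inv_mul_cancel_left])
  rw [← hdu, h3 this, dG_root]

theorem full_val {f : ℕ → ℕ} (H : Cfg t ψ i f) (hf : IsHom f) (V : L.ok = true) {ex : List ℕ} (hex : exB ex = true)
    {rel : List (List ℕ)} {al fr : List (ℕ × List ℕ × List ℕ)} (h : fullOK L f ex rel al fr = true) :
    ∀ w ∈ fullW (2 * L.m) rel al fr, wval (gT ψ i L) w = 1 := by
  simp only [fullOK, Bool.and_eq_true] at h
  obtain ⟨⟨hr, ha⟩, hfr⟩ := h
  intro w hw
  simp only [fullW, List.mem_cons, List.mem_append, List.mem_map] at hw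
  rcases hw with rfl | hw | ⟨e, he, rfl⟩ | ⟨e, he, rfl⟩
  · rw [wval_cons, wval_cons, wval_nil, mul_one, (gT_six L (Lts.small V)).1, H.sq]
  · have h' := List.all_eq_true.1 hr w hw
    simp only [Bool.and_eq_true, Nat.beq_eq] at h'
    rw [gT_word V h'.1, Lts.word_eq_one V h'.1 h'.2, ext_one]
  · exact al_val H hf V (List.all_eq_true.1 ha e he)
  · exact free_val H V hex (List.all_eq_true.1 hfr e he)

end Cfsg.Lib.CoThreeType
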