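import Cfsg.Agent.Lib.CoThreeType.Chunk
import Cfsg.Agent.Lib.CoThreeType.Stage
import Cfsg.Agent.Lib.CoThreeType.KillChecks
import Cfsg.Agent.Lib.CoThreeType.KillSubData
import Cfsg.Agent.Lib.CoThreeType.ExtraData

/-!
# Kernel checks for the collapse of the twisted automorphism
-/

set_option autoImplicit false
set_option maxRecDepth 100000
-- the kernel checks run one after another, to bound the memory of the file
set_option Elab.async false

namespace Cfsg.Lib.CoThreeType

open Cfsg.Lib.PermAut Cfsg.Lib.J3Type
open Cfsg.Lib.MclType (zipChk)

/-- The letters of the collapse. -/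
def killLts : Lts := ⟨killCertTabs, killCertInvs, killCertPaths⟩

theorem killLts_ok : killLts.ok = true ∧ killLts.m = 6 := by
  refine ⟨?_, rfl⟩; decide +kernel

/-- One element for the exceptional list. -/
def exPred (x : ℕ) : Bool := inL x dEx || dEx.any fun e => !(Nat.beq (dM x e) (dM e x))

theorem ex_head : (inL dTn dEx && inL dVn dEx) = true := by decide +kernel

theorem ex_ok0 : chunkB exPred 0 576 = true := by decide +kernel

theorem ex_ok1 : chunkB exPred 576 576 = true := by decide +kernel

theorem ex_ok2 : chunkB exPred 1152 576 = true := by decide +kernel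

theorem ex_ok3 : chunkB exPred 1728 576 = true := by decide +kernel

theorem ex_ok4 : chunkB exPred 2304 576 = true := by decide +kernel

theorem ex_ok5 : chunkB exPred 2880 576 = true := by decide +kernel

theorem ex_ok6 : chunkB exPred 3456 576 = true := by decide +kernel

theorem ex_ok7 : chunkB exPred 4032 576 = true := by decide +kernel

theorem ex_ok : exB dEx = true := by
  have h := (chunk_add (chunk_add (chunk_add (chunk_add (chunk_add (chunk_add (chunk_add ex_ok0 ex_ok1) ex_ok2) ex_ok3) ex_ok4) ex_ok5) ex_ok6) ex_ok7)
  simp only [Nat.reduceAdd] at h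
  have h' := chunk_all h
  simp only [exB, Bool.and_eq_true]
  exact ⟨Bool.and_eq_true_iff.1 ex_head, h'⟩

theorem killFull_ok : fullOK killLts dSgP dEx killCertRel killCertAl killCertFree = true := by decide +kernel

theorem killRules_ok :
    zipChk (ruleOK (fullW 12 killCertRel killCertAl killCertFree)) killCert.rules.flatten killCertHint = true := by
  decide +kernel

theorem killSub_gens : killSub.gensB = true ∧ killSub.rootB = true ∧ killSub.size = 1536 ∧ killSub.gens.length = 2 ∧
    ((List.range 2).all fun k => Nat.beq (killSub.gens.getD k 0) (killLts.tabs.getD (Nat.add 4 k) 0)) = true := by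
  refine ⟨?_, ?_, rfl, rfl, ?_⟩ <;> decide +kernel

theorem killSub_nodes : killSub.nodesB 0 1536 = true := by decide +kernel

theorem killOut_ok : ((List.range 1536).all fun x =>
    !(Nat.beq (killSub.code.get 36 x) (stepC (killLts.tabs.getD 1 0) codeOne))) = true := by decide +kernel

end Cfsg.Lib.CoThreeType
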