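import Cfsg.Agent.Lib.CoThreeType.Letters
import Cfsg.Agent.Lib.CoThreeType.NormChecks
import Cfsg.Agent.Lib.CoThreeType.TwistChecks

/-!
# Kernel checks for the normalizer
-/

set_option autoImplicit false
set_option maxRecDepth 100000
-- the kernel checks run one after another, to bound the memory of the file
set_option Elab.async false

namespace Cfsg.Lib.CoThreeType

open Cfsg.Lib.PermAut Cfsg.Lib.J3Type
open Cfsg.Lib.MclType (zipChk)

/-- The letters of the normalizer. -/
def baLts : Lts := ⟨baCertTabs, baCertInvs, baCertPaths⟩

/-- Their places among the twelve letters. -/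
def baSig : List ℕ := [1, 2, 3, 11, 6]

/-- The word of a representative. -/
def repW (C : J3Type.Cert) : ℕ → ℕ → List ℕ
  | 0, _ => []
  | fuel + 1, n =>
    bif Nat.blt (Nat.div (C.par.get 20 n) 32) n then
      repW C fuel (Nat.div (C.par.get 20 n) 32) ++ [Nat.mod (C.par.get 20 n) 32]
    else []

theorem baLts_ok : baLts.ok = true ∧ baLts.m = 4 ∧
    ((List.range 4).all fun k => Nat.beq (baLts.tabs.getD k 0) (lTab.getD (baSig.getD k 0) 0)) = true := by
  refine ⟨?_, rfl, ?_⟩ <;> decide +kernel

theorem baFull_ok : fullOK baLts dSg dEx baCertRel baCertAl baCertFree = true := by decide +kernel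

theorem baModel_ok : ((fullW 8 baCertRel baCertAl baCertFree).all fun w =>
    renOk baSig w && trivG (ren baSig w)) = true := by decide +kernel

theorem baRules_ok :
    zipChk (ruleOK (fullW 8 baCertRel baCertAl baCertFree)) baCert.rules.flatten baCertHint = true := by
  decide +kernel

theorem baRep_ok : ((List.range 14).all fun c =>
    let n := baCert.live.get 15 (Nat.add c 1)
    let w := repW baCert n n
    renOk baSig w && okG (ren baSig w) &&
      !(sameB 9 276 ((ren baSig w).map tabG ++ [tTab]) (tTab :: (ren baSig w).map tabG))) = true := by decide +kernel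

end Cfsg.Lib.CoThreeType
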