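import Cfsg.Agent.Lib.CoThreeType.Model

/-!
# Subgroups of the centralizer with numbered elements

An element is determined by its packed base images; its number points to those images and to a word in the
generators, and left multiplication by a generator is a stored table.
-/

set_option autoImplicit false
set_option maxRecDepth 100000

namespace Cfsg.Lib.CoThreeType

open Equiv Cfsg.Lib.PermAut Cfsg.Lib.J3Type

/-- A numbered subgroup. -/
structure Num where
  size : ℕ
  gens : List ℕ
  gInv : List ℕ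
  gPath : List (List ℕ)
  root : ℕ
  depth : ℕ
  code : Tree
  step : Tree
  par : Tree
  inv : Tree
  ord : Tree
  pos : Tree

namespace Num

variable (D : Num)

/-- The table of a generator. -/
def gT (k : ℕ) : ℕ := D.gens.getD k 0

/-- Left multiplication by a generator. -/
def stp (k x : ℕ) : ℕ := D.step.get 13 (Nat.add (Nat.mul D.gens.length x) k)

/-- The word of a number, following the parents. -/
def wordF : ℕ → ℕ → List ℕ
  | 0, _ => []
  | fuel + 1, x => bif Nat.beq x D.root then [] else
      Nat.mod (D.par.get 20 x) 8 :: wordF fuel (Nat.div (D.par.get 20 x) 8)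

/-- The word of a number. -/
def word (x : ℕ) : List ℕ := D.wordF D.depth x

/-- Left multiplication by a word. -/
def app : List ℕ → ℕ → ℕ
  | [], y => y
  | k :: w, y => D.stp k (app w y)

/-- The product of two numbers. -/
def mul (x y : ℕ) : ℕ := D.app (D.word x) y

/-- The number of the inverse. -/
def iv (x : ℕ) : ℕ := D.inv.get 13 x

/-- The generators lie in the centralizer. -/
noncomputable def gensB : Bool :=
  (List.range D.gens.length).all fun k =>
    invPairOk 9 276 (D.gT k) (D.gInv.getD k 0) && pathOk centSub.lev (D.gPath.getD k []) &&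
      sameB 9 276 [D.gT k] (pickPath centSub.lev (D.gPath.getD k []))

/-- The checks of one number. -/
noncomputable def nodeB (x : ℕ) : Bool :=
  ((List.range D.gens.length).all fun k => Nat.blt (D.stp k x) D.size &&
    Nat.beq (stepC (D.gT k) (D.code.get 36 x)) (D.code.get 36 (D.stp k x))) &&
  (D.word x).all (fun k => Nat.blt k D.gens.length) && Nat.beq (D.app (D.word x) D.root) x &&
  Nat.blt (D.iv x) D.size && Nat.beq (D.mul x (D.iv x)) D.root &&
  Nat.blt (D.pos.get 13 x) D.size && Nat.beq (D.ord.get 13 (D.pos.get 13 x)) x &&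
  (Nat.beq (Nat.add x 1) D.size ||
    Nat.blt (D.code.get 36 (D.ord.get 13 x)) (D.code.get 36 (D.ord.get 13 (Nat.add x 1))))

/-- The checks of a range of numbers. -/
noncomputable def nodesB (lo len : ℕ) : Bool := (List.range len).all fun j => D.nodeB (Nat.add lo j)

/-- The check of the root. -/
def rootB : Bool := Nat.blt D.root D.size && Nat.beq (D.code.get 36 D.root) codeOne

/-- What the checks give. -/
structure Valid : Prop where
  gens : D.gensB = true
  root : D.rootB = true
  node : ∀ x < D.size, D.nodeB x = true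

theorem node_of_nodes {lo len x : ℕ} (h : D.nodesB lo len = true) (h1 : lo ≤ x) (h2 : x < lo + len) :
    D.nodeB x = true := by
  have := List.all_eq_true.1 h (x - lo) (List.mem_range.2 (by omega))
  rwa [show Nat.add lo (x - lo) = x from Nat.add_sub_cancel' h1] at this

/-- A generator. -/
noncomputable def gP (k : ℕ) : P276 := toP 9 276 (D.gT k)

/-- The element with a number. -/
noncomputable def el (x : ℕ) : P276 := ((D.word x).map D.gP).prod

/-- The numbered subgroup. -/
noncomputable def grp : Subgroup P276 := Subgroup.closure {g | ∃ k < D.gens.length, g = D.gP k}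

variable {D} (V : D.Valid)

include V

theorem Valid.root_lt : D.root < D.size := by
  have h := V.root
  simp only [rootB, Bool.and_eq_true, Nat.blt, Nat.ble_eq] at h
  exact h.1

theorem Valid.code_root : D.code.get 36 D.root = codeOne := by
  have h := V.root
  simp only [rootB, Bool.and_eq_true, Nat.beq_eq] at h
  exact h.2

theorem Valid.gen {k : ℕ} (hk : k < D.gens.length) : Rep 9 (D.gP k) (D.gT k) ∧ D.gP k ∈ Cm := by
  have h := List.all_eq_true.1 V.gens k (List.mem_range.2 hk)
  simp only [Bool.and_eq_true] at h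
  obtain ⟨r, -, -⟩ := rep_of_invPairOk (N := 276) h.1.1
  exact ⟨r, cm_valid.mem_of_same r h.1.2 h.2⟩

theorem Valid.spec {x : ℕ} (hx : x < D.size) :
    (∀ k < D.gens.length, D.stp k x < D.size ∧ stepC (D.gT k) (D.code.get 36 x) = D.code.get 36 (D.stp k x)) ∧
    (∀ k ∈ D.word x, k < D.gens.length) ∧ D.app (D.word x) D.root = x ∧
    (D.iv x < D.size ∧ D.mul x (D.iv x) = D.root) ∧
    (D.pos.get 13 x < D.size ∧ D.ord.get 13 (D.pos.get 13 x) = x) ∧
    (x + 1 < D.size → D.code.get 36 (D.ord.get 13 x) < D.code.get 36 (D.ord.get 13 (x + 1))) := by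
  have h := V.node x hx
  simp only [nodeB, Bool.and_eq_true, Bool.or_eq_true, List.all_eq_true, List.mem_range, Nat.blt, Nat.ble_eq,
    Nat.beq_eq] at h
  obtain ⟨⟨⟨⟨⟨⟨⟨h1, h2⟩, h3⟩, h4⟩, h5⟩, h6⟩, h7⟩, h8⟩ := h
  exact ⟨h1, h2, h3, ⟨h4, h5⟩, ⟨h6, h7⟩, fun hlt => h8.resolve_left (Nat.ne_of_lt hlt)⟩

theorem Valid.app_lt : ∀ {w : List ℕ}, (∀ k ∈ w, k < D.gens.length) → ∀ {y : ℕ}, y < D.size → D.app w y < D.size
  | [], _, _, hy => hy
  | k :: _, hw, _, hy =>
    ((V.spec (Valid.app_lt (fun j hj => hw j (List.mem_cons_of_mem _ hj)) hy)).1 k (hw k (List.mem_cons_self ..))).1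

theorem Valid.word_mem : ∀ {w : List ℕ}, (∀ k ∈ w, k < D.gens.length) →
    (w.map D.gP).prod ∈ Cm ∧ (w.map D.gP).prod ∈ D.grp
  | [], _ => ⟨one_mem _, one_mem _⟩
  | k :: w, hw => by
    obtain ⟨h1, h2⟩ := Valid.word_mem (w := w) fun j hj => hw j (List.mem_cons_of_mem _ hj)
    have hk := hw k (List.mem_cons_self ..)
    rw [List.map_cons, List.prod_cons]
    exact ⟨mul_mem (V.gen hk).2 h1, mul_mem (Subgroup.subset_closure ⟨k, hk, rfl⟩) h2⟩

theorem Valid.code_app : ∀ {w : List ℕ}, (∀ k ∈ w, k < D.gens.length) → ∀ {y : ℕ}, y < D.size →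
    ∀ {g : P276}, codeOf g = D.code.get 36 y → codeOf ((w.map D.gP).prod * g) = D.code.get 36 (D.app w y)
  | [], _, y, _, g, hg => by simpa [app] using hg
  | k :: w, hw, y, hy, g, hg => by
    have hw' := fun j hj => hw j (List.mem_cons_of_mem _ hj)
    have hk := hw k (List.mem_cons_self ..)
    rw [List.map_cons, List.prod_cons, mul_assoc, gP, codeOf_mul (V.gen hk).1, Valid.code_app hw' hy hg]
    exact ((V.spec (V.app_lt hw' hy)).1 k hk).2

theorem Valid.el_mem {x : ℕ} (hx : x < D.size) : D.el x ∈ Cm ∧ D.el x ∈ D.grp := V.word_mem (V.spec hx).2.1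

theorem Valid.code_el {x : ℕ} (hx : x < D.size) : codeOf (D.el x) = D.code.get 36 x := by
  have h := V.code_app (V.spec hx).2.1 V.root_lt (g := 1) (codeOf_one.trans V.code_root.symm)
  rwa [mul_one, (V.spec hx).2.2.1] at h

theorem Valid.eq_el {g : P276} (hg : g ∈ Cm) {x : ℕ} (hx : x < D.size) (e : codeOf g = D.code.get 36 x) :
    g = D.el x := eq_of_code hg (V.el_mem hx).1 (e.trans (V.code_el hx).symm)

theorem Valid.el_app {w : List ℕ} (hw : ∀ k ∈ w, k < D.gens.length) {y : ℕ} (hy : y < D.size) :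
    D.el (D.app w y) = (w.map D.gP).prod * D.el y :=
  (V.eq_el (mul_mem (V.word_mem hw).1 (V.el_mem hy).1) (V.app_lt hw hy) (V.code_app hw hy (V.code_el hy))).symm

theorem Valid.el_mul {x y : ℕ} (hx : x < D.size) (hy : y < D.size) :
    D.mul x y < D.size ∧ D.el (D.mul x y) = D.el x * D.el y :=
  ⟨V.app_lt (V.spec hx).2.1 hy, V.el_app (V.spec hx).2.1 hy⟩

theorem Valid.el_root : D.el D.root = 1 :=
  (V.eq_el (one_mem _) V.root_lt (codeOf_one.trans V.code_root.symm)).symm

theorem Valid.el_iv {x : ℕ} (hx : x < D.size) : D.iv x < D.size ∧ D.el (D.iv x) = (D.el x)⁻¹ := by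
  obtain ⟨h1, h2⟩ := (V.spec hx).2.2.2.1
  refine ⟨h1, eq_inv_of_mul_eq_one_right ?_⟩
  rw [← (V.el_mul hx h1).2, h2, V.el_root]

theorem Valid.inj {x y : ℕ} (hx : x < D.size) (hy : y < D.size) (e : D.el x = D.el y) : x = y := by
  have hc : D.code.get 36 x = D.code.get 36 y := by rw [← V.code_el hx, ← V.code_el hy, e]
  have mono : ∀ j, ∀ i < j, j < D.size → D.code.get 36 (D.ord.get 13 i) < D.code.get 36 (D.ord.get 13 j) := by
    intro j
    induction j with
    | zero => intro i hi; omega
    | succ j ih =>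
      intro i hi hj
      have hs := (V.spec (x := j) (by omega)).2.2.2.2.2 hj
      rcases Nat.lt_succ_iff_lt_or_eq.1 hi with h | rfl
      · exact lt_trans (ih i h (by omega)) hs
      · exact hs
  obtain ⟨p1, p2⟩ := (V.spec hx).2.2.2.2.1
  obtain ⟨q1, q2⟩ := (V.spec hy).2.2.2.2.1
  rcases lt_trichotomy (D.pos.get 13 x) (D.pos.get 13 y) with h | h | h
  · have := mono _ _ h q1
    rw [p2, q2] at this
    omega
  · rw [← p2, h, q2]
  · have := mono _ _ h p1
    rw [p2, q2] at this
    omega

theorem Valid.surj {g : P276} (hg : g ∈ D.grp) : ∃ x < D.size, D.el x = g := by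
  have hg' : g ∈ Submonoid.closure {g | ∃ k < D.gens.length, g = D.gP k} := by
    rw [← Subgroup.closure_toSubmonoid_of_finite]; exact hg
  clear hg
  induction hg' using Submonoid.closure_induction_left with
  | one => exact ⟨_, V.root_lt, V.el_root⟩
  | mul_left z hz y hy ih =>
    obtain ⟨k, hk, rfl⟩ := hz
    obtain ⟨x, hx, rfl⟩ := ih
    refine ⟨D.app [k] x, V.app_lt (by simpa using hk) hx, ?_⟩
    rw [V.el_app (by simpa using hk) hx]
    simp

theorem Valid.grp_le : D.grp ≤ Cm := by
  rw [grp, Subgroup.closure_le]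
  rintro _ ⟨k, hk, rfl⟩
  exact (V.gen hk).2

theorem Valid.card : Nat.card D.grp = D.size := by
  refine (Nat.card_congr (Equiv.ofBijective (fun x : Fin D.size => (⟨D.el x, (V.el_mem x.2).2⟩ : D.grp))
    ⟨fun x y e => Fin.ext (V.inj x.2 y.2 (congrArg Subtype.val e)), fun g => ?_⟩)).symm.trans (Nat.card_fin _)
  obtain ⟨x, hx, e⟩ := V.surj g.2
  exact ⟨⟨x, hx⟩, Subtype.ext e⟩

end Num

end Cfsg.Lib.CoThreeType
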