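import Cfsg.Agent.Lib.CoThreeType.Classes

/-!
# Kernel checks distinguishing the three classes
-/

set_option autoImplicit false
set_option maxRecDepth 100000

namespace Cfsg.Lib.CoThreeType

open Cfsg.Lib.PermAut

theorem rep_ne : (!(Nat.beq (stepC tTab codeOne) (stepC vTab codeOne)) &&
    !(Nat.beq (stepC tTab codeOne) (stepC uTab codeOne)) && !(Nat.beq codeOne (stepC uTab codeOne)) &&
    Nat.beq (dSub.mul 418 418) dTn && Nat.blt 418 4608) = true := by decide +kernel

end Cfsg.Lib.CoThreeType
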