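import Cfsg.Agent.Lib.CoThreeType.Chunk
import Cfsg.Agent.Lib.CoThreeType.StdData
import Cfsg.Agent.Lib.CoThreeType.ClassChecks

/-!
# Kernel checks for the standard subgroup
-/

set_option autoImplicit false
set_option maxRecDepth 100000
-- the kernel checks run one after another, to bound the memory of the file
set_option Elab.async false

namespace Cfsg.Lib.CoThreeType

open Cfsg.Lib.PermAut Cfsg.Lib.J3Type

/-- The code of a product of tables. -/
noncomputable def wCode (l : List ℕ) : ℕ := l.foldr stepC codeOne

/-- Two products of tables agree. -/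
noncomputable def eqW (l m : List ℕ) : Bool := Nat.beq (wCode l) (wCode m)

/-- Two products of tables commute modulo the central involution. -/
noncomputable def comW (l m : List ℕ) : Bool := eqW (l ++ m) (m ++ l) || eqW (l ++ m) (tTab :: (m ++ l))

/-- The tables of a numbered element of the Sylow subgroup. -/
def sTabs (x : ℕ) : List ℕ := (sSub.word x).map sSub.gT

/-- The tables of a numbered element of the centralizer of the second involution. -/
def dTabs (x : ℕ) : List ℕ := (dSub.word x).map dSub.gT

/-- A path is good and its partner inverts it. -/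
noncomputable def pairB (u v : ℕ) : Bool :=
  pathOk centSub.lev (pthOf u) && pathOk centSub.lev (pthOf v) && eqW (pth (pthOf u) ++ pth (pthOf v)) []

/-- A derivation ending in an element not commuting with `A`. -/
noncomputable def opsB (A : List ℕ) : List (ℕ × ℕ × ℕ × ℕ) → List (List ℕ) → Bool
  | [], E => !(comW (E.getLastD []) A)
  | (i, j, u, v) :: os, E =>
    let y := E.getD (Nat.div i 2) []
    let x := E.getD j []
    Nat.blt (Nat.div i 2) E.length && Nat.blt j E.length &&
    bif Nat.beq (Nat.mod i 2) 0 then opsB A os (E ++ [y ++ x]) else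
      pairB u v && (eqW (y ++ y) [] || eqW (y ++ y) [tTab]) && !(eqW y []) && !(eqW y [tTab]) &&
        eqW (pth (pthOf u) ++ y) (y ++ pth (pthOf u)) &&
        opsB A os (E ++ [pth (pthOf u) ++ (x ++ pth (pthOf v))])

/-- The number of a representative. -/
def stdNum (k : ℕ) : ℕ := stdRep.getD k 0

/-- The allowed numbers. -/
def allowK (k : ℕ) : List ℕ := stdAllow.getD k []

/-- The certificates of a class. -/
def certK (k : ℕ) : List (ℕ × List (ℕ × ℕ × ℕ × ℕ)) := stdCert.getD k []

/-- The four central numbers. -/
def coreK (k : ℕ) : List ℕ := [sSub.root, stdT, stdNum k, sSub.mul stdT (stdNum k)]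

/-- The number is a conjugate of the given one, up to the four central numbers. -/
noncomputable def derivB (k r x : ℕ) : Bool :=
  let p := stdPar.get 32 (Nat.add (Nat.mul k 1024) x)
  let g := Nat.mod (Nat.div p 1024) 1024
  let m := Nat.mod p 1024
  Nat.blt r 1024 && comW (sTabs g) (sTabs (stdNum k)) && (coreK k).any (fun c => Nat.beq c m) &&
    Nat.beq x (sSub.mul (sSub.mul (sSub.mul g r) (sSub.iv g)) m)

/-- One number is excluded or allowed. -/
noncomputable def coverB (k x : ℕ) : Bool :=
  let q := Nat.div (stdPar.get 32 (Nat.add (Nat.mul k 1024) x)) 1048576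
  (allowK k).any (fun a => Nat.beq a x) || !(comW (sTabs x) (sTabs (stdNum k))) ||
    (Nat.blt q (certK k).length && derivB k ((certK k).getD q (0, [])).1 x)

/-- The certificates of a class work. -/
noncomputable def certsB (k : ℕ) : Bool :=
  (certK k).all fun e => Nat.blt e.1 1024 && opsB (sTabs (stdNum k)) e.2 [sTabs (stdNum k), sTabs e.1]

/-- The table of an involution or of an element squaring to the central one is sent to a representative. -/
noncomputable def kindB (x : ℕ) : Bool :=
  let k := stdKind.get 4 x
  let u := pthOf (stdPath.get 32 x)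
  let r := bif Nat.beq (Nat.mod k 2) 0 then sTabs (stdNum (Nat.div k 2)) else tTab :: sTabs (stdNum (Nat.div k 2))
  Nat.beq x sSub.root || Nat.beq x stdT ||
    (!(Nat.beq (sSub.mul x x) sSub.root) && !(Nat.beq (sSub.mul x x) stdT)) ||
    (Nat.blt k 8 && pathOk centSub.lev u && eqW (pth u ++ sTabs x) (r ++ pth u))

/-- The conjugating tables of a witness. -/
def swC (w : ℕ × ℕ × ℕ × ℕ) : List ℕ := pth (pthOf w.2.1)

/-- The second element of a witness. -/
def swX (w : ℕ × ℕ × ℕ × ℕ) : List ℕ := swC w ++ (sTabs w.1 ++ pth (pthOf w.2.2.1))

/-- A number commutes with both elements of a witness. -/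
noncomputable def swFix (w : ℕ × ℕ × ℕ × ℕ) (d : ℕ) : Bool :=
  eqW (dTabs d ++ sTabs w.1) (sTabs w.1 ++ dTabs d) && eqW (dTabs d ++ swX w) (swX w ++ dTabs d)

/-- The checks of a witness. -/
noncomputable def swB (w : ℕ × ℕ × ℕ × ℕ) : Bool :=
  Nat.blt w.1 1024 && pairB w.2.1 w.2.2.1 && eqW (swC w ++ [vTab]) (vTab :: swC w) &&
    !(comW (swX w) (sTabs w.1)) && Nat.beq ((List.range 4608).filter (swFix w)).length w.2.2.2 &&
    !(Nat.beq (Nat.mod w.2.2.2 128) 0)

/-- A number of one of the two subgroups has a witness. -/
noncomputable def twoB (x : ℕ) : Bool :=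
  let q := Nat.div (stdPar.get 32 x) 1048576
  (coreK 0).any (fun a => Nat.beq a x) || (Nat.blt q stdWit.length && derivB 0 (stdWit.getD q (0, 0, 0, 0)).1 x)

theorem std_named : (Nat.beq (sSub.code.get 36 stdT) (wCode [tTab]) && Nat.blt stdT 1024 &&
    Nat.beq (sSub.code.get 36 (stdNum 0)) (wCode [vTab]) && Nat.beq (sSub.code.get 36 (stdNum 3)) (wCode [uTab]) &&
    (List.range 4).all fun k => Nat.blt (stdNum k) 1024 &&
      Nat.beq (sSub.mul (stdNum k) (stdNum k)) ([sSub.root, stdT, stdT, sSub.root].getD k 0)) = true := by
  decide +kernel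

theorem std_size : ((List.range 4).all fun k =>
    Nat.beq ((List.range 1024).filter fun x => comW (sTabs x) (sTabs (stdNum k))).length (stdSize.getD k 0)) = true := by
  decide +kernel

theorem std_cover0_0 : chunkB (coverB 0) 0 256 = true := by decide +kernel

theorem std_cover0_1 : chunkB (coverB 0) 256 256 = true := by decide +kernel

theorem std_cover0_2 : chunkB (coverB 0) 512 256 = true := by decide +kernel

theorem std_cover0_3 : chunkB (coverB 0) 768 256 = true := by decide +kernel

theorem std_cover0_all : ((List.range 1024).all (coverB 0)) = true := by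
  have h := (chunk_add (chunk_add (chunk_add std_cover0_0 std_cover0_1) std_cover0_2) std_cover0_3)
  simp only [Nat.reduceAdd] at h
  exact chunk_all h

theorem std_cover1_0 : chunkB (coverB 1) 0 256 = true := by decide +kernel

theorem std_cover1_1 : chunkB (coverB 1) 256 256 = true := by decide +kernel

theorem std_cover1_2 : chunkB (coverB 1) 512 256 = true := by decide +kernel

theorem std_cover1_3 : chunkB (coverB 1) 768 256 = true := by decide +kernel

theorem std_cover1_all : ((List.range 1024).all (coverB 1)) = true := by
  have h := (chunk_add (chunk_add (chunk_add std_cover1_0 std_cover1_1) std_cover1_2) std_cover1_3)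
  simp only [Nat.reduceAdd] at h
  exact chunk_all h

theorem std_cover2_0 : chunkB (coverB 2) 0 256 = true := by decide +kernel

theorem std_cover2_1 : chunkB (coverB 2) 256 256 = true := by decide +kernel

theorem std_cover2_2 : chunkB (coverB 2) 512 256 = true := by decide +kernel

theorem std_cover2_3 : chunkB (coverB 2) 768 256 = true := by decide +kernel

theorem std_cover2_all : ((List.range 1024).all (coverB 2)) = true := by
  have h := (chunk_add (chunk_add (chunk_add std_cover2_0 std_cover2_1) std_cover2_2) std_cover2_3)
  simp only [Nat.reduceAdd] at h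
  exact chunk_all h

theorem std_cover3_0 : chunkB (coverB 3) 0 256 = true := by decide +kernel

theorem std_cover3_1 : chunkB (coverB 3) 256 256 = true := by decide +kernel

theorem std_cover3_2 : chunkB (coverB 3) 512 256 = true := by decide +kernel

theorem std_cover3_3 : chunkB (coverB 3) 768 256 = true := by decide +kernel

theorem std_cover3_all : ((List.range 1024).all (coverB 3)) = true := by
  have h := (chunk_add (chunk_add (chunk_add std_cover3_0 std_cover3_1) std_cover3_2) std_cover3_3)
  simp only [Nat.reduceAdd] at h
  exact chunk_all h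

theorem std_cover : ((List.range 4).all fun k => (List.range 1024).all (coverB k)) = true := by
  simp only [show List.range 4 = [0, 1, 2, 3] from rfl, List.all_cons, List.all_nil, std_cover0_all, std_cover1_all,
    std_cover2_all, std_cover3_all, Bool.and_self]

theorem std_certs : ((List.range 4).all certsB) = true := by decide +kernel

theorem std_kind : ((List.range 1024).all kindB) = true := by decide +kernel

set_option maxHeartbeats 1000000 in -- long kernel checks
theorem std_wit : (stdWit.all swB && (allowK 0).all twoB) = true := by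
  refine Bool.and_eq_true_iff.2 ⟨all_split 1 ?_ ?_, ?_⟩
  all_goals decide +kernel

theorem std_two : ((allowK 0).all fun x =>
    ((stdTwo.1).any (fun a => Nat.beq a x) || (stdTwo.2).any (fun a => Nat.beq a x)) &&
    ((stdTwo.1).any (fun a => Nat.beq a x) || (allowK 0).all fun y =>
      (stdTwo.2).any (fun a => Nat.beq a y) || !((allowK 0).any (fun a => Nat.beq a (sSub.mul y x))))) = true := by
  decide +kernel

theorem std_small : ((List.range 4).all fun k => (coreK k).all fun c => (allowK k).any (fun a => Nat.beq a c)) = true ∧
    ((allowK 1).all fun x => (coreK 1).any (fun a => Nat.beq a x)) = true ∧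
    ((allowK 3).all fun x => (coreK 3).any (fun a => Nat.beq a x)) = true ∧
    ((allowK 2).all fun x => Nat.beq (sSub.mul x x) sSub.root || Nat.beq (sSub.mul x x) stdT) = true ∧
    stdTwo.1.length = 16 ∧ stdTwo.2.length = 16 := by
  refine ⟨?_, ?_, ?_, ?_, rfl, rfl⟩ <;> decide +kernel

end Cfsg.Lib.CoThreeType
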