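import Cfsg.Agent.Lib.CoThreeType.StdModel

/-!
# A tightly embedded centralizer of the double cover is its centre
-/

set_option autoImplicit false
set_option linter.style.haveILetI false
set_option maxRecDepth 20000

namespace Cfsg.Lib.CoThreeType

open Equiv Cfsg.Lib.PermAut Subgroup

variable {G : Type*} [Group G] {L K : Subgroup G} {z : G}

/-- The centralizer of the involution is the product of the double cover and a tightly embedded subgroup. -/
structure StdSit (L K : Subgroup G) (z : G) : Prop where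
  zL : z ∈ L
  zK : z ∈ K
  z2 : z * z = 1
  z1 : z ≠ 1
  comm : ∀ l ∈ L, ∀ k ∈ K, l * k = k * l
  inter : ∀ x ∈ L, x ∈ K → x = 1 ∨ x = z
  dec : ∀ m, m * z = z * m → ∃ l ∈ L, ∃ k ∈ K, m = l * k
  tight : ∀ g, g * z ≠ z * g → Odd (Nat.card ↥(K ⊓ K.map (MulAut.conj g).toMonoidHom))

variable (ψ : Cm ≃* L)

open scoped Classical in
/-- The isomorphism extended to all permutations. -/
noncomputable def eL (g : P276) : G := if h : g ∈ Cm then (ψ ⟨g, h⟩ : G) else 1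

theorem eL_coe (g : Cm) : eL ψ (g : P276) = ψ g := by rw [eL, dif_pos g.2]

theorem eL_mem {g : P276} (hg : g ∈ Cm) : eL ψ g ∈ L := by rw [eL, dif_pos hg]; exact (ψ ⟨g, hg⟩).2

theorem eL_mul {g h : P276} (hg : g ∈ Cm) (hh : h ∈ Cm) : eL ψ (g * h) = eL ψ g * eL ψ h := by
  rw [show g * h = ((⟨g, hg⟩ * ⟨h, hh⟩ : Cm) : P276) from rfl, eL_coe, map_mul, Subgroup.coe_mul,
    ← eL_coe ψ ⟨g, hg⟩, ← eL_coe ψ ⟨h, hh⟩]

theorem eL_one : eL ψ 1 = 1 := by
  rw [show (1 : P276) = ((1 : Cm) : P276) from rfl, eL_coe, map_one, Subgroup.coe_one]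

theorem eL_inv {g : P276} (hg : g ∈ Cm) : eL ψ g⁻¹ = (eL ψ g)⁻¹ := by
  rw [eq_inv_iff_mul_eq_one, ← eL_mul ψ (inv_mem hg) hg, inv_mul_cancel, eL_one]

theorem eL_pow {g : P276} (hg : g ∈ Cm) : ∀ n : ℕ, eL ψ (g ^ n) = eL ψ g ^ n
  | 0 => by rw [pow_zero, pow_zero, eL_one]
  | n + 1 => by rw [pow_succ, pow_succ, eL_mul ψ (pow_mem hg n) hg, eL_pow hg n]

theorem eL_inj {g h : P276} (hg : g ∈ Cm) (hh : h ∈ Cm) (e : eL ψ g = eL ψ h) : g = h := by
  rw [eL, eL, dif_pos hg, dif_pos hh] at e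
  exact congrArg Subtype.val (ψ.injective (Subtype.ext e))

theorem eL_surj {x : G} (hx : x ∈ L) : ∃ g ∈ Cm, eL ψ g = x :=
  ⟨_, (ψ.symm ⟨x, hx⟩).2, by rw [eL_coe, MulEquiv.apply_symm_apply]⟩

namespace StdSit

variable {ψ} (S : StdSit L K z)

include S

theorem lz {l : G} (hl : l ∈ L) : l * z = z * l := S.comm l hl z S.zK

theorem kz {k : G} (hk : k ∈ K) : k * z = z * k := (S.comm z S.zL k hk).symm

theorem norm_K {m x : G} (hm : m * z = z * m) (hx : x ∈ K) : m * x * m⁻¹ ∈ K := by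
  obtain ⟨l, hl, k, hk, rfl⟩ := S.dec m hm
  rw [show l * k * x * (l * k)⁻¹ = l * (k * x * k⁻¹) * l⁻¹ by group, S.comm l hl _ (mul_mem (mul_mem hk hx) (inv_mem hk)),
    mul_inv_cancel_right]
  exact mul_mem (mul_mem hk hx) (inv_mem hk)

theorem norm_L {m x : G} (hm : m * z = z * m) (hx : x ∈ L) : m * x * m⁻¹ ∈ L := by
  obtain ⟨l, hl, k, hk, rfl⟩ := S.dec m hm
  rw [show l * k * x * (l * k)⁻¹ = l * (k * x * k⁻¹) * l⁻¹ by group, ← S.comm x hx k hk, mul_inv_cancel_right]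
  exact mul_mem (mul_mem hl hx) (inv_mem hl)

/-- An element of two-power order in two conjugates is trivial. -/
theorem odd_trivial {g x : G} (hg : g * z ≠ z * g) (hxK : x ∈ K) (hx' : g⁻¹ * x * g ∈ K) {n : ℕ}
    (hn : x ^ 2 ^ n = 1) : x = 1 := by
  have hmem : x ∈ K ⊓ K.map (MulAut.conj g).toMonoidHom :=
    ⟨hxK, g⁻¹ * x * g, hx', by show g * (g⁻¹ * x * g) * g⁻¹ = x; group⟩
  have h1 : orderOf x ∣ Nat.card ↥(K ⊓ K.map (MulAut.conj g).toMonoidHom) := Subgroup.orderOf_dvd_natCard _ hmem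
  have h2 : orderOf x ∣ 2 ^ n := orderOf_dvd_of_pow_eq_one hn
  have hco : Nat.Coprime (Nat.card ↥(K ⊓ K.map (MulAut.conj g).toMonoidHom)) (2 ^ n) :=
    (S.tight g hg).coprime_two_right.pow_right n
  exact orderOf_eq_one_iff.1 (Nat.eq_one_of_dvd_coprimes hco h1 h2)

end StdSit

/-- A conjugate of the involution inside its centralizer, written in the two factors. -/
structure Nbr (ψ : Cm ≃* L) (g : G) (a : P276) (k0 : G) : Prop where
  hz : g * z * g⁻¹ * z = z * (g * z * g⁻¹)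
  hne : g * z ≠ z * g
  amem : a ∈ Cm
  a1 : a ≠ 1
  at' : a ≠ tP
  a2 : a * a = 1 ∨ a * a = tP
  kmem : k0 ∈ K
  eq : g * z * g⁻¹ = eL ψ a * k0
  psiT : eL ψ tP = z

variable {ψ} {g : G} {a : P276} {k0 : G}

/-- The elements of the double cover belonging to the neighbour. -/
noncomputable def yGrp (S : StdSit L K z) (ψ : Cm ≃* L) (g : G) : Subgroup P276 where
  carrier := {x | x ∈ Cm ∧ ∃ k ∈ K, g⁻¹ * (eL ψ x * k) * g ∈ K ∧ eL ψ x * k * z = z * (eL ψ x * k)}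
  one_mem' := ⟨one_mem _, 1, one_mem _, by simp [eL_one, one_mem], by simp [eL_one]⟩
  mul_mem' {x y} := fun ⟨mx, k, hk, hk', hkz⟩ ⟨my, l, hl, hl', hlz⟩ => by
    have e : eL ψ (x * y) * (k * l) = eL ψ x * k * (eL ψ y * l) := by
      rw [eL_mul ψ mx my, mul_assoc, ← mul_assoc (eL ψ y) k l, S.comm _ (eL_mem ψ my) k hk]
      simp only [mul_assoc]
    refine ⟨mul_mem mx my, k * l, mul_mem hk hl, ?_, ?_⟩
    · rw [e, show g⁻¹ * (eL ψ x * k * (eL ψ y * l)) * g = g⁻¹ * (eL ψ x * k) * g * (g⁻¹ * (eL ψ y * l) * g) by group]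
      exact mul_mem hk' hl'
    · rw [e]; exact (Commute.mul_left hkz hlz).eq
  inv_mem' {x} := fun ⟨mx, k, hk, hk', hkz⟩ => by
    have e : eL ψ x⁻¹ * k⁻¹ = (eL ψ x * k)⁻¹ := by
      rw [eL_inv ψ mx, mul_inv_rev]
      exact (Commute.inv_inv (S.comm _ (eL_mem ψ mx) k hk)).eq
    refine ⟨inv_mem mx, k⁻¹, inv_mem hk, ?_, ?_⟩
    · rw [e, show g⁻¹ * (eL ψ x * k)⁻¹ * g = (g⁻¹ * (eL ψ x * k) * g)⁻¹ by group]
      exact inv_mem hk'
    · rw [e]; exact (Commute.inv_left hkz).eq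

theorem mem_yGrp {S : StdSit L K z} {x : P276} : x ∈ yGrp S ψ g ↔
    x ∈ Cm ∧ ∃ k ∈ K, g⁻¹ * (eL ψ x * k) * g ∈ K ∧ eL ψ x * k * z = z * (eL ψ x * k) := Iff.rfl

section Nbr

variable (S : StdSit L K z) (N : Nbr (K := K) (z := z) ψ g a k0)

include S N

theorem Nbr.zt {x : G} (hx : x ∈ L) (hxK : x ∈ K) : ∃ e, (e = 1 ∨ e = tP) ∧ eL ψ e = x := by
  rcases S.inter x hx hxK with rfl | rfl
  · exact ⟨1, Or.inl rfl, eL_one ψ⟩
  · exact ⟨tP, Or.inr rfl, N.psiT⟩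

/-- An element of the cover whose image is in the tight subgroup is central. -/
theorem Nbr.in_K {x : P276} (hx : x ∈ Cm) (h : eL ψ x ∈ K) : x = 1 ∨ x = tP := by
  obtain ⟨e, he, ee⟩ := N.zt S (eL_mem ψ hx) h
  have heC : e ∈ Cm := he.elim (fun h => h ▸ one_mem _) fun h => h ▸ t_spec.2.2.2.1
  rw [eL_inj ψ hx heC ee.symm]; exact he

theorem Nbr.zg_comm {w : G} (hw : g⁻¹ * w * g ∈ K) : w * (g * z * g⁻¹) = g * z * g⁻¹ * w := by
  calc w * (g * z * g⁻¹) = g * (g⁻¹ * w * g * z) * g⁻¹ := by group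
    _ = _ := by rw [S.kz hw]; group

theorem Nbr.pre : Pre (yGrp S ψ g) a := by
  have hzK : g⁻¹ * (g * z * g⁻¹) * g ∈ K := by
    rw [show g⁻¹ * (g * z * g⁻¹) * g = z by group]; exact S.zK
  refine ⟨fun x hx => hx.1, ⟨t_spec.2.2.2.1, z, S.zK, ?_, ?_⟩, ⟨N.amem, k0, N.kmem, N.eq ▸ hzK, N.eq ▸ N.hz⟩,
    ?_, ?_⟩
  · rw [N.psiT, S.z2, show g⁻¹ * 1 * g = 1 by group]; exact one_mem _
  · rw [N.psiT, S.z2, one_mul, mul_one]
  · rintro y ⟨my, k, hk, hk', -⟩
    have h := N.zg_comm S hk'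
    rw [N.eq] at h
    have e1 : eL ψ y * k * (eL ψ a * k0) = eL ψ (y * a) * (k * k0) := by
      rw [eL_mul ψ my N.amem, mul_assoc, ← mul_assoc k, ← S.comm _ (eL_mem ψ N.amem) k hk]; simp only [mul_assoc]
    have e2 : eL ψ a * k0 * (eL ψ y * k) = eL ψ (a * y) * (k0 * k) := by
      rw [eL_mul ψ N.amem my, mul_assoc, ← mul_assoc k0, ← S.comm _ (eL_mem ψ my) k0 N.kmem]; simp only [mul_assoc]
    rw [e1, e2] at h
    have hd : (a * y)⁻¹ * (y * a) ∈ Cm := mul_mem (inv_mem (mul_mem N.amem my)) (mul_mem my N.amem)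
    have hK : eL ψ ((a * y)⁻¹ * (y * a)) ∈ K := by
      have : eL ψ ((a * y)⁻¹ * (y * a)) = k0 * k * (k * k0)⁻¹ := by
        rw [eL_mul ψ (inv_mem (mul_mem N.amem my)) (mul_mem my N.amem), eL_inv ψ (mul_mem N.amem my)]
        rw [inv_mul_eq_iff_eq_mul, ← mul_assoc, ← h, mul_inv_cancel_right]
      rw [this]
      exact mul_mem (mul_mem N.kmem hk) (inv_mem (mul_mem hk N.kmem))
    rcases N.in_K S hd hK with e | e
    · exact Or.inl (inv_mul_eq_one.1 e).symm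
    · exact Or.inr (by rw [inv_mul_eq_iff_eq_mul.1 e, t_central (mul_mem N.amem my)])
  · rintro y ⟨my, k, hk, hk', hkz⟩ hy2 hy1 hyt c hc hcy x ⟨mx, l, hl, hl', hlz⟩
    set w := eL ψ y * k with hw
    -- the two-part of the element is an involution
    obtain ⟨i, m, hm, hord⟩ : ∃ i m, Odd m ∧ orderOf w = 2 ^ i * m := by
      rcases eq_or_ne (orderOf w) 0 with h0 | h0
      · exfalso
        obtain ⟨hwK⟩ : Nonempty (g⁻¹ * w * g ∈ K) := ⟨hk'⟩
        haveI : Finite ↥(K ⊓ K.map (MulAut.conj g).toMonoidHom) :=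
          Nat.finite_of_card_ne_zero (fun h => absurd (h ▸ S.tight g N.hne) (by decide))
        have hy2K : w * w ∈ K := by
          rw [hw, show eL ψ y * k * (eL ψ y * k) = eL ψ y * (k * eL ψ y) * k by group, ← S.comm _ (eL_mem ψ my) k hk,
            show eL ψ y * (eL ψ y * k) * k = eL ψ y * eL ψ y * (k * k) by group, ← eL_mul ψ my my]
          rcases hy2 with e | e <;> rw [e]
          · rw [eL_one, one_mul]; exact mul_mem hk hk
          · rw [N.psiT]; exact mul_mem S.zK (mul_mem hk hk)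
        have hmem : w * w ∈ K ⊓ K.map (MulAut.conj g).toMonoidHom :=
          ⟨hy2K, g⁻¹ * w * g * (g⁻¹ * w * g), mul_mem hwK hwK, by
            show g * (g⁻¹ * w * g * (g⁻¹ * w * g)) * g⁻¹ = _; group⟩
        obtain ⟨j, hj, e⟩ := isOfFinOrder_iff_pow_eq_one.1
          (isOfFinOrder_of_finite (⟨_, hmem⟩ : ↥(K ⊓ K.map (MulAut.conj g).toMonoidHom)))
        have e' : (w * w) ^ j = 1 := congrArg Subtype.val e
        rw [← pow_two, ← pow_mul] at e'
        exact absurd (orderOf_eq_zero_iff'.1 h0 (2 * j) (by omega)) (not_not.2 e')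
      · obtain ⟨i, m, hm, e⟩ := Nat.exists_eq_two_pow_mul_odd h0
        exact ⟨i, m, hm, e⟩
    set v := w ^ m with hv
    have hvy : v = eL ψ (y ^ m) * k ^ m := by
      rw [hv, hw, Commute.mul_pow (S.comm _ (eL_mem ψ my) k hk), eL_pow ψ my]
    obtain ⟨j, hj⟩ := hm
    have hym : y ^ m = y ∨ y ^ m = tP * y := by
      rw [hj, pow_succ, pow_mul, pow_two]
      rcases hy2 with e | e <;> rw [e]
      · exact Or.inl (by rw [one_pow, one_mul])
      · rcases Nat.even_or_odd j with ⟨q, hq⟩ | ⟨q, hq⟩ <;> rw [hq]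
        · exact Or.inl (by rw [← two_mul, pow_mul, pow_two, t_sq, one_pow, one_mul])
        · exact Or.inr (by rw [pow_succ, pow_mul, pow_two, t_sq, one_pow, one_mul])
    have hvK' : g⁻¹ * v * g ∈ K := by
      rw [hv, show g⁻¹ * w ^ m * g = (g⁻¹ * w * g) ^ m by rw [show g⁻¹ * w * g = g⁻¹ * w * g⁻¹⁻¹ by rw [inv_inv],
        conj_pow, inv_inv]]
      exact pow_mem hk' m
    have hv0 : v ^ 2 ^ i = 1 := by rw [hv, ← pow_mul, mul_comm, ← hord, pow_orderOf_eq_one]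
    have hvv : v * v = 1 := by
      have hKm : eL ψ (y ^ m) * eL ψ (y ^ m) ∈ K := by
        rw [← eL_mul ψ (pow_mem my m) (pow_mem my m)]
        have : y ^ m * y ^ m = y * y := by
          rcases hym with e | e <;> rw [e]
          rw [mul_assoc, ← mul_assoc y, t_central my]; simp only [← mul_assoc, t_sq, one_mul]
        rw [this]
        rcases hy2 with e | e <;> rw [e]
        · rw [eL_one]; exact one_mem _
        · rw [N.psiT]; exact S.zK
      refine S.odd_trivial N.hne ?_ (n := i) ?_ (by rw [← pow_two, ← pow_mul, mul_comm, pow_mul, hv0, one_pow])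
      · rw [hvy, mul_assoc, ← mul_assoc (k ^ m), ← S.comm _ (eL_mem ψ (pow_mem my m)) _ (pow_mem hk m)]
        rw [show eL ψ (y ^ m) * (eL ψ (y ^ m) * k ^ m * k ^ m) = eL ψ (y ^ m) * eL ψ (y ^ m) * (k ^ m * k ^ m) by group]
        exact mul_mem hKm (mul_mem (pow_mem hk m) (pow_mem hk m))
      · rw [show g⁻¹ * (v * v) * g = g⁻¹ * v * g * (g⁻¹ * v * g) by group]
        exact mul_mem hvK' hvK'
    have hv1 : v ≠ 1 := fun e => by
      have : eL ψ (y ^ m) ∈ K := by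
        rw [show eL ψ (y ^ m) = (k ^ m)⁻¹ from eq_inv_of_mul_eq_one_left (hvy ▸ e)]
        exact inv_mem (pow_mem hk m)
      rcases N.in_K S (pow_mem my m) this with h | h <;> rcases hym with h' | h' <;> rw [h'] at h
      · exact hy1 h
      · exact hyt (mul_left_cancel (a := tP) (h.trans t_sq.symm))
      · exact hyt h
      · exact hy1 (mul_left_cancel (a := tP) (h.trans (mul_one _).symm))
    have hcv : eL ψ c * v = v * eL ψ c := by
      rw [hvy]
      have h1 : Commute (eL ψ c) (eL ψ (y ^ m)) := by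
        show eL ψ c * _ = _ * eL ψ c
        rw [← eL_mul ψ hc (pow_mem my m), ← eL_mul ψ (pow_mem my m) hc]
        exact congrArg _ (Commute.pow_right hcy m).eq
      exact (h1.mul_right (S.comm _ (eL_mem ψ hc) _ (pow_mem hk m))).eq
    -- so the conjugating element normalizes the neighbour
    have hh : g⁻¹ * eL ψ c * g * z = z * (g⁻¹ * eL ψ c * g) := by
      by_contra hne
      have h1 : (g⁻¹ * eL ψ c * g)⁻¹ * (g⁻¹ * v * g) * (g⁻¹ * eL ψ c * g) = g⁻¹ * v * g := by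
        calc _ = g⁻¹ * ((eL ψ c)⁻¹ * (v * eL ψ c)) * g := by group
          _ = _ := by rw [← hcv, inv_mul_cancel_left]
      have := S.odd_trivial hne hvK' (h1.symm ▸ hvK') (n := 1) (by
        rw [pow_one, pow_two, show g⁻¹ * v * g * (g⁻¹ * v * g) = g⁻¹ * (v * v) * g by group, hvv]; group)
      exact hv1 (by
        calc v = g * (g⁻¹ * v * g) * g⁻¹ := by group
          _ = 1 := by rw [this]; group)
    have e : eL ψ (c * x * c⁻¹) * l = eL ψ c * (eL ψ x * l) * (eL ψ c)⁻¹ := by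
      rw [eL_mul ψ (mul_mem hc mx) (inv_mem hc), eL_mul ψ hc mx, eL_inv ψ hc]
      calc eL ψ c * eL ψ x * (eL ψ c)⁻¹ * l = eL ψ c * eL ψ x * ((eL ψ c)⁻¹ * l) := by group
        _ = eL ψ c * eL ψ x * (l * (eL ψ c)⁻¹) := by rw [S.comm _ (inv_mem (eL_mem ψ hc)) l hl]
        _ = _ := by group
    refine ⟨mul_mem (mul_mem hc mx) (inv_mem hc), l, hl, ?_, ?_⟩
    · rw [e, show g⁻¹ * (eL ψ c * (eL ψ x * l) * (eL ψ c)⁻¹) * g =
        g⁻¹ * eL ψ c * g * (g⁻¹ * (eL ψ x * l) * g) * (g⁻¹ * eL ψ c * g)⁻¹ by group]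
      exact S.norm_K hh hl'
    · rw [e]
      exact (((show Commute (eL ψ c) z from S.lz (eL_mem ψ hc)).mul_left hlz).mul_left
        (show Commute (eL ψ c) z from S.lz (eL_mem ψ hc)).inv_left).eq

/-- A neighbour element comes from the cover. -/
theorem Nbr.lift {w : G} (hw : g⁻¹ * w * g ∈ K) (hwz : w * z = z * w) :
    ∃ x ∈ yGrp S ψ g, ∃ k ∈ K, w = eL ψ x * k := by
  obtain ⟨l, hl, k, hk, rfl⟩ := S.dec w hwz
  obtain ⟨x, hx, rfl⟩ := eL_surj ψ hl
  exact ⟨x, ⟨hx, k, hk, hw, hwz⟩, k, hk, rfl⟩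

theorem Nbr.two_elt {x : P276} {k : G} (hx : x ∈ Cm) (hk : k ∈ K) {n : ℕ} (h : (eL ψ x * k) ^ 2 ^ n = 1) :
    IsPGroup 2 (zpowers x) := by
  have hK : eL ψ (x ^ 2 ^ n) ∈ K := by
    rw [eL_pow ψ hx]
    rw [Commute.mul_pow (S.comm _ (eL_mem ψ hx) k hk)] at h
    rw [eq_inv_of_mul_eq_one_left h]
    exact inv_mem (pow_mem hk _)
  have h1 : x ^ 2 ^ (n + 1) = 1 := by
    rw [pow_succ, pow_mul, pow_two]
    rcases N.in_K S (pow_mem hx _) hK with e | e <;> rw [e]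
    · exact mul_one 1
    · exact t_sq
  obtain ⟨j, -, hj⟩ := (Nat.dvd_prime_pow Nat.prime_two).1 (orderOf_dvd_of_pow_eq_one h1)
  exact IsPGroup.of_card (n := j) (by rw [Nat.card_zpowers, hj])

/-- A two-element of the neighbour over the four central elements is one of two. -/
theorem Nbr.four_of {x : P276} {k : G} (hk : k ∈ K) (hw : g⁻¹ * (eL ψ x * k) * g ∈ K) {n : ℕ}
    (hn : (eL ψ x * k) ^ 2 ^ n = 1) (h4 : Four a x) : eL ψ x * k = 1 ∨ eL ψ x * k = g * z * g⁻¹ := by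
  have hzz : (g * z * g⁻¹) * (g * z * g⁻¹) = 1 := by
    rw [show g * z * g⁻¹ * (g * z * g⁻¹) = g * (z * z) * g⁻¹ by group, S.z2]; group
  have key : eL ψ x * k * (g * z * g⁻¹)⁻¹ ∈ K → eL ψ x * k = g * z * g⁻¹ := fun hin => by
    refine mul_inv_eq_one.1 (S.odd_trivial N.hne hin ?_ (n := n + 1) ?_)
    · rw [show g⁻¹ * (eL ψ x * k * (g * z * g⁻¹)⁻¹) * g = g⁻¹ * (eL ψ x * k) * g * z⁻¹ by group]
      exact mul_mem hw (inv_mem S.zK)
    · rw [Commute.mul_pow (Commute.inv_right (N.zg_comm S hw)), inv_pow, pow_succ, pow_mul, hn, one_pow,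
        mul_comm (2 ^ n), pow_mul, pow_two (g * z * g⁻¹), hzz, one_pow, inv_one, one_mul]
  rcases h4 with e | e | e | e
  · exact Or.inl (S.odd_trivial N.hne (by rw [e, eL_one, one_mul]; exact hk) hw hn)
  · exact Or.inl (S.odd_trivial N.hne (by rw [e, N.psiT]; exact mul_mem S.zK hk) hw hn)
  · refine Or.inr (key ?_)
    rw [e, N.eq, mul_inv_rev, ← mul_assoc, mul_assoc (eL ψ a) k,
      S.comm _ (eL_mem ψ N.amem) _ (mul_mem hk (inv_mem N.kmem)), mul_inv_cancel_right]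
    exact mul_mem hk (inv_mem N.kmem)
  · refine Or.inr (key ?_)
    rw [e, N.eq, eL_mul ψ t_spec.2.2.2.1 N.amem, N.psiT, mul_inv_rev,
      show z * eL ψ a * k * (k0⁻¹ * (eL ψ a)⁻¹) = z * (eL ψ a * (k * k0⁻¹) * (eL ψ a)⁻¹) by group,
      S.comm _ (eL_mem ψ N.amem) _ (mul_mem hk (inv_mem N.kmem)), mul_inv_cancel_right]
    exact mul_mem S.zK (mul_mem hk (inv_mem N.kmem))

/-- The involution seen from its neighbour. -/
theorem Nbr.back : ∃ l1 k1 : G, g⁻¹ * l1 * g ∈ L ∧ g⁻¹ * k1 * g ∈ K ∧ z = l1 * k1 ∧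
    k1 * z = z * k1 ∧ k1 ^ 2 ^ 2 = 1 ∧ l1 * l1 * (k1 * k1) = 1 ∧
    ∀ w, g⁻¹ * w * g ∈ K → (l1 * w = w * l1 ∧ (w * z = z * w → w * k1 = k1 * w)) := by
  obtain ⟨l, hl, k, hk, e⟩ := S.dec (g⁻¹ * z * g) (by
    calc g⁻¹ * z * g * z = g⁻¹ * (z * (g * z * g⁻¹)) * g := by group
      _ = g⁻¹ * (g * z * g⁻¹ * z) * g := by rw [N.hz]
      _ = _ := by group)
  refine ⟨g * l * g⁻¹, g * k * g⁻¹, by rw [show g⁻¹ * (g * l * g⁻¹) * g = l by group]; exact hl,
    by rw [show g⁻¹ * (g * k * g⁻¹) * g = k by group]; exact hk, ?_, ?_, ?_, ?_, ?_⟩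
  · calc z = g * (g⁻¹ * z * g) * g⁻¹ := by group
      _ = _ := by rw [e]; group
  · have h1 : Commute (g⁻¹ * z * g) k := by
      rw [e]; exact Commute.mul_left (S.comm l hl k hk) (Commute.refl k)
    calc g * k * g⁻¹ * z = g * (k * (g⁻¹ * z * g)) * g⁻¹ := by group
      _ = _ := by rw [← h1.eq]; group
  · have h0 : l * l * (k * k) = 1 := by
      calc l * l * (k * k) = (l * k) * (l * k) := (Commute.mul_mul_mul_comm (S.comm l hl k hk).symm l k).symm
        _ = g⁻¹ * (z * z) * g := by rw [← e]; group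
        _ = 1 := by rw [S.z2]; group
    have hk2 : k * k = (l * l)⁻¹ := eq_inv_of_mul_eq_one_right h0
    have h4 : k * k * (k * k) = 1 := by
      rcases S.inter _ (inv_mem (mul_mem hl hl)) (hk2 ▸ mul_mem hk hk) with h | h <;> rw [hk2, h]
      · exact mul_one 1
      · exact S.z2
    rw [conj_pow, show (2 : ℕ) ^ 2 = 2 + 2 by norm_num, pow_add, pow_two, h4]; group
  · calc g * l * g⁻¹ * (g * l * g⁻¹) * (g * k * g⁻¹ * (g * k * g⁻¹)) = g * (l * l * (k * k)) * g⁻¹ := by group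
      _ = g * ((l * k) * (l * k)) * g⁻¹ := by rw [(Commute.mul_mul_mul_comm (S.comm l hl k hk).symm l k).symm]
      _ = g * (g⁻¹ * (z * z) * g) * g⁻¹ := by rw [← e]; group
      _ = 1 := by rw [S.z2]; group
  · intro w hw
    have h1 : g * l * g⁻¹ * w = w * (g * l * g⁻¹) := by
      calc g * l * g⁻¹ * w = g * (l * (g⁻¹ * w * g)) * g⁻¹ := by group
        _ = _ := by rw [S.comm l hl _ hw]; group
    refine ⟨h1, fun hwz => ?_⟩
    have e2 : g * k * g⁻¹ = (g * l * g⁻¹)⁻¹ * z := by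
      calc g * k * g⁻¹ = g * (l⁻¹ * (l * k)) * g⁻¹ := by group
        _ = _ := by rw [← e]; group
    rw [e2]
    exact (Commute.mul_right (Commute.inv_right (h1.symm : Commute w (g * l * g⁻¹))) hwz).eq

/-- If the neighbour meets the centralizer in at most two two-elements, it is small. -/
theorem Nbr.small_K (h : ∀ w, g⁻¹ * w * g ∈ K → w * z = z * w → ∀ n, w ^ 2 ^ n = 1 →
      w = 1 ∨ w = g * z * g⁻¹)
    (R : Subgroup G) [Finite R] (hR : R ≤ K) (h2 : IsPGroup 2 R) : Nat.card R ≤ 2 := by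
  classical
  obtain ⟨l1, k1, -, hk1, e, hk1z, hk4, -, hcomm⟩ := N.back S
  have hz' : ∀ w, g⁻¹ * w * g ∈ K → w * z = z * w := fun w hw => by
    rcases h k1 hk1 hk1z 2 hk4 with e1 | e1
    · rw [e1, mul_one] at e; rw [e]; exact ((hcomm w hw).1).symm
    · rw [e, e1]
      exact (Commute.mul_right ((hcomm w hw).1.symm : Commute w l1) (N.zg_comm S hw)).eq
  have hmem : ∀ r : R, g * (r : G) * g⁻¹ ∈ ({1, g * z * g⁻¹} : Finset G) := fun r => by
    obtain ⟨n, hn⟩ := h2 r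
    have hn' : (r : G) ^ 2 ^ n = 1 := by simpa using congrArg Subtype.val hn
    have hr : g⁻¹ * (g * (r : G) * g⁻¹) * g ∈ K := by
      rw [show g⁻¹ * (g * (r : G) * g⁻¹) * g = r by group]; exact hR r.2
    have := h _ hr (hz' _ hr) n (by rw [conj_pow, hn']; group)
    simpa using this
  refine (Nat.card_le_card_of_injective (fun r : R => (⟨_, hmem r⟩ : ({1, g * z * g⁻¹} : Finset G)))
    fun r s e => ?_).trans ?_
  · exact Subtype.ext (mul_left_cancel (mul_right_cancel (congrArg Subtype.val e)))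
  · rw [Nat.card_eq_finsetCard]; exact Finset.card_le_two

end Nbr

end Cfsg.Lib.CoThreeType
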