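import Cfsg.Agent.Lib.CoThreeType.StdGroup

/-!
# The four kinds of neighbours
-/

set_option autoImplicit false
set_option linter.style.haveILetI false
set_option maxRecDepth 20000

namespace Cfsg.Lib.CoThreeType

open Equiv Cfsg.Lib.PermAut Subgroup

variable {G : Type*} [Group G] [Finite G] {L K : Subgroup G} {z : G} {ψ : Cm ≃* L} {g : G} {a : P276} {k0 : G}

theorem pgroup_elt {H : Type*} [Group H] {x : H} (h : IsPGroup 2 (zpowers x)) : ∃ n, x ^ 2 ^ n = 1 := by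
  obtain ⟨n, hn⟩ := h ⟨x, mem_zpowers x⟩
  exact ⟨n, by simpa using congrArg Subtype.val hn⟩

theorem rA_sq : rA 1 * rA 1 = tP ∧ rA 2 * rA 2 = tP := by
  have h := std_named
  simp only [Bool.and_eq_true, List.all_eq_true, List.mem_range, Nat.blt, Nat.ble_eq, Nat.beq_eq] at h
  refine ⟨?_, ?_⟩
  · rw [rA, ← (el_facts (h.2 1 (by norm_num)).1 (h.2 1 (by norm_num)).1).2, (h.2 1 (by norm_num)).2]
    exact named.1
  · rw [rA, ← (el_facts (h.2 2 (by norm_num)).1 (h.2 2 (by norm_num)).1).2, (h.2 2 (by norm_num)).2]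
    exact named.1

theorem Nbr.not_four_witness (S : StdSit L K z) (N : Nbr (K := K) (z := z) ψ g vP k0) {x : P276} {k : G}
    (hx : x ∈ yGrp S ψ g) (hk : k ∈ K)
    (hc : ∀ w, g⁻¹ * w * g ∈ K → w * z = z * w → w * (eL ψ x * k) = eL ψ x * k * w)
    (h2 : IsPGroup 2 (zpowers x)) : Four vP x := by
  by_contra hn
  obtain ⟨s', ⟨ms, l, hl, hl', hlz⟩, hnc, -⟩ := (N.pre S).witness hx h2 hn
  apply hnc
  have h := hc _ hl' hlz
  have e1 : eL ψ s' * l * (eL ψ x * k) = eL ψ (s' * x) * (l * k) := by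
    rw [eL_mul ψ ms hx.1, mul_assoc, ← mul_assoc l, ← S.comm _ (eL_mem ψ hx.1) l hl]; simp only [mul_assoc]
  have e2 : eL ψ x * k * (eL ψ s' * l) = eL ψ (x * s') * (k * l) := by
    rw [eL_mul ψ hx.1 ms, mul_assoc, ← mul_assoc k, ← S.comm _ (eL_mem ψ ms) k hk]; simp only [mul_assoc]
  rw [e1, e2] at h
  have hd : (x * s')⁻¹ * (s' * x) ∈ Cm := mul_mem (inv_mem (mul_mem hx.1 ms)) (mul_mem ms hx.1)
  have hK : eL ψ ((x * s')⁻¹ * (s' * x)) ∈ K := by
    have : eL ψ ((x * s')⁻¹ * (s' * x)) = k * l * (l * k)⁻¹ := by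
      rw [eL_mul ψ (inv_mem (mul_mem hx.1 ms)) (mul_mem ms hx.1), eL_inv ψ (mul_mem hx.1 ms)]
      rw [inv_mul_eq_iff_eq_mul, ← mul_assoc, ← h, mul_inv_cancel_right]
    rw [this]
    exact mul_mem (mul_mem hk hl) (inv_mem (mul_mem hl hk))
  rcases N.in_K S hd hK with e | e
  · exact Or.inl (inv_mul_eq_one.1 e).symm
  · exact Or.inr (by rw [inv_mul_eq_iff_eq_mul.1 e, t_central (mul_mem hx.1 ms)])

/-- The neighbour is not of the second class. -/
theorem Nbr.v_false (S : StdSit L K z) (N : Nbr (K := K) (z := z) ψ g vP k0) (R : Sylow 2 K)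
    (hR : 4 ≤ Nat.card (R : Subgroup K)) : False := by
  classical
  haveI : Fact (Nat.Prime 2) := ⟨Nat.prime_two⟩
  obtain ⟨l1, k1, -, hk1, e, hk1z, hk4, -, hcomm⟩ := N.back S
  -- the whole neighbour centralizes the involution
  have hz' : ∀ w, g⁻¹ * w * g ∈ K → w * z = z * w := by
    obtain ⟨x, hx, k, hk, ek⟩ := N.lift S hk1 hk1z
    have h4 : Four vP x := N.not_four_witness S hx hk (fun w hw hwz => ek ▸ (hcomm w hw).2 hwz)
      (N.two_elt S hx.1 hk (n := 2) (ek ▸ hk4))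
    intro w hw
    rcases N.four_of S hk (ek ▸ hk1) (n := 2) (ek ▸ hk4) h4 with e1 | e1 <;> rw [← ek] at e1
    · rw [e1, mul_one] at e; rw [e]; exact ((hcomm w hw).1).symm
    · rw [e, e1]
      exact (Commute.mul_right ((hcomm w hw).1.symm : Commute w l1) (N.zg_comm S hw)).eq
  let inR : P276 → G → Prop := fun x k => ∃ r : (R : Subgroup K), ((r : K) : G) = g⁻¹ * (eL ψ x * k) * g
  let S2 : Subgroup P276 :=
    { carrier := {x | x ∈ Cm ∧ ∃ k ∈ K, inR x k}
      one_mem' := ⟨one_mem _, 1, one_mem _, 1, by simp [eL_one]⟩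
      mul_mem' := fun {x y} ⟨mx, k, hk, r, hr⟩ ⟨my, l, hl, s, hs⟩ => ⟨mul_mem mx my, k * l, mul_mem hk hl, r * s, by
        rw [Subgroup.coe_mul, Subgroup.coe_mul, hr, hs, eL_mul ψ mx my, mul_assoc (eL ψ x) (eL ψ y),
          ← mul_assoc (eL ψ y) k l, S.comm _ (eL_mem ψ my) k hk]
        group⟩
      inv_mem' := fun {x} ⟨mx, k, hk, r, hr⟩ => ⟨inv_mem mx, k⁻¹, inv_mem hk, r⁻¹, by
        rw [Subgroup.coe_inv, Subgroup.coe_inv, hr, eL_inv ψ mx,
          (Commute.inv_inv (S.comm _ (eL_mem ψ mx) k hk)).eq]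
        group⟩ }
  have hS2Y : S2 ≤ yGrp S ψ g := by
    rintro x ⟨mx, k, hk, r, hr⟩
    have hK : g⁻¹ * (eL ψ x * k) * g ∈ K := hr ▸ (r : K).2
    exact ⟨mx, k, hk, hK, hz' _ hK⟩
  have hpow : ∀ r : (R : Subgroup K), ∃ n, (g * ((r : K) : G) * g⁻¹) ^ 2 ^ n = 1 := fun r => by
    obtain ⟨n, hn⟩ := R.2 r
    refine ⟨n, ?_⟩
    have h := congrArg (fun u : (R : Subgroup K) => ((u : K) : G)) hn
    simp only [SubgroupClass.coe_pow, Subgroup.coe_one] at h
    rw [conj_pow, h]; group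
  have h2 : IsPGroup 2 S2 := by
    rintro ⟨x, mx, k, hk, r, hr⟩
    obtain ⟨n, hn⟩ := hpow r
    rw [hr, show g * (g⁻¹ * (eL ψ x * k) * g) * g⁻¹ = eL ψ x * k by group] at hn
    obtain ⟨j, hj⟩ := pgroup_elt (N.two_elt S mx hk hn)
    exact ⟨j, Subtype.ext (by simpa using hj)⟩
  have hle := (N.pre S).card_le hS2Y h2
  -- two elements of the cover over each element of the Sylow subgroup
  have hlift : ∀ r : (R : Subgroup K), ∃ x, x ∈ Cm ∧ ∃ k ∈ K, g * ((r : K) : G) * g⁻¹ = eL ψ x * k := fun r => by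
    have hr : g⁻¹ * (g * ((r : K) : G) * g⁻¹) * g ∈ K := by
      rw [show g⁻¹ * (g * ((r : K) : G) * g⁻¹) * g = ((r : K) : G) by group]; exact (r : K).2
    obtain ⟨x, hx, k, hk, h⟩ := N.lift S hr (hz' _ hr)
    exact ⟨x, hx.1, k, hk, h⟩
  choose f hfC fk hfk hf using hlift
  have hmem : ∀ r (ε : Fin 2), tP ^ (ε : ℕ) * f r ∈ S2 := fun r ε => by
    have he : tP ^ (ε : ℕ) ∈ Cm := pow_mem t_spec.2.2.2.1 _
    refine ⟨mul_mem he (hfC r), z ^ (ε : ℕ) * fk r, mul_mem (pow_mem S.zK _) (hfk r), r, ?_⟩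
    have hzε : eL ψ (tP ^ (ε : ℕ)) * eL ψ (f r) * (z ^ (ε : ℕ) * fk r) = eL ψ (f r) * fk r := by
      rw [eL_pow ψ t_spec.2.2.2.1, N.psiT, ← (Commute.pow_right (S.lz (eL_mem ψ (hfC r))) (ε : ℕ)).eq, mul_assoc,
        ← mul_assoc (z ^ (ε : ℕ)), ← (Commute.refl z).mul_pow, S.z2, one_pow, one_mul]
    rw [eL_mul ψ he (hfC r), hzε, ← hf]; group
  have hinj : Function.Injective (fun q : ↥(R : Subgroup K) × Fin 2 => (⟨_, hmem q.1 q.2⟩ : S2)) := by
    rintro ⟨r, ε⟩ ⟨s, δ⟩ heq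
    have h : tP ^ (ε : ℕ) * f r = tP ^ (δ : ℕ) * f s := congrArg Subtype.val heq
    have hrs : r = s := by
      obtain ⟨n, hn⟩ := hpow (r * s⁻¹)
      have e1 : g * (((r * s⁻¹ : (R : Subgroup K)) : K) : G) * g⁻¹ = eL ψ (f r * (f s)⁻¹) * (fk r * (fk s)⁻¹) := by
        rw [Subgroup.coe_mul, Subgroup.coe_mul, Subgroup.coe_inv, Subgroup.coe_inv, eL_mul ψ (hfC r) (inv_mem (hfC s)),
          eL_inv ψ (hfC s), show g * (((r : K) : G) * (((s : K) : G))⁻¹) * g⁻¹ =
            g * ((r : K) : G) * g⁻¹ * (g * ((s : K) : G) * g⁻¹)⁻¹ by group, hf, hf, mul_inv_rev]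
        calc eL ψ (f r) * fk r * ((fk s)⁻¹ * (eL ψ (f s))⁻¹)
            = eL ψ (f r) * ((fk r * (fk s)⁻¹) * (eL ψ (f s))⁻¹) := by group
          _ = eL ψ (f r) * ((eL ψ (f s))⁻¹ * (fk r * (fk s)⁻¹)) := by
            rw [S.comm _ (inv_mem (eL_mem ψ (hfC s))) _ (mul_mem (hfk r) (inv_mem (hfk s)))]
          _ = _ := by group
      have h4 : f r * (f s)⁻¹ = 1 ∨ f r * (f s)⁻¹ = tP := by
        have hd : f r * (f s)⁻¹ = (tP ^ (ε : ℕ))⁻¹ * tP ^ (δ : ℕ) := by
          calc f r * (f s)⁻¹ = (tP ^ (ε : ℕ))⁻¹ * (tP ^ (ε : ℕ) * f r) * (f s)⁻¹ := by group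
            _ = _ := by rw [h]; group
        rw [hd]
        fin_cases ε <;> fin_cases δ
        · simp
        · simp
        · exact Or.inr (by simpa using (inv_eq_of_mul_eq_one_right t_sq))
        · simp
      rw [e1] at hn
      have hK2 : eL ψ (f r * (f s)⁻¹) * (fk r * (fk s)⁻¹) ∈ K := by
        rcases h4 with e2 | e2 <;> rw [e2]
        · rw [eL_one, one_mul]; exact mul_mem (hfk r) (inv_mem (hfk s))
        · rw [N.psiT]; exact mul_mem S.zK (mul_mem (hfk r) (inv_mem (hfk s)))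
      have h1 := S.odd_trivial N.hne hK2 (by
        rw [← e1, show g⁻¹ * (g * (((r * s⁻¹ : (R : Subgroup K)) : K) : G) * g⁻¹) * g =
          (((r * s⁻¹ : (R : Subgroup K)) : K) : G) by group]
        exact ((r * s⁻¹ : (R : Subgroup K)) : K).2) hn
      rw [← e1, conj_eq_one_iff] at h1
      exact mul_inv_eq_one.1 (Subtype.ext (Subtype.ext h1))
    subst hrs
    have h' := mul_right_cancel h
    fin_cases ε <;> fin_cases δ
    · rfl
    · exact absurd (by simpa using h'.symm) t_spec.2.1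
    · exact absurd (by simpa using h') t_spec.2.1
    · rfl
  have h8 := Nat.card_le_card_of_injective _ hinj
  rw [Nat.card_prod, Nat.card_fin] at h8
  -- an element outside the four central ones
  obtain ⟨r, hr1, hr2⟩ : ∃ r : (R : Subgroup K), r ≠ 1 ∧ ((r : K) : G) ≠ z := by
    by_contra hn
    push Not at hn
    have := Nat.card_le_card_of_injective (fun r : (R : Subgroup K) => (⟨((r : K) : G), by
      by_cases h1 : r = 1
      · simp [h1]
      · simp [hn r h1]⟩ : ({1, z} : Finset G))) fun r s h => Subtype.ext (Subtype.ext (Subtype.mk.inj h))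
    rw [Nat.card_eq_finsetCard] at this
    have := Finset.card_le_two (a := (1 : G)) (b := z)
    omega
  have hrK : g⁻¹ * (g * ((r : K) : G) * g⁻¹) * g ∈ K := by
    rw [show g⁻¹ * (g * ((r : K) : G) * g⁻¹) * g = ((r : K) : G) by group]; exact (r : K).2
  obtain ⟨x, hx, k, hk, ek⟩ := N.lift S hrK (hz' _ hrK)
  obtain ⟨n, hn⟩ := hpow r
  rw [ek] at hn hrK
  have hx2 := N.two_elt S hx.1 hk hn
  have hn4 : ¬ Four vP x := fun h4 => by
    rcases N.four_of S hk hrK hn h4 with h | h <;> rw [← ek] at h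
    · exact hr1 (Subtype.ext (Subtype.ext (conj_eq_one_iff.1 h)))
    · exact hr2 (mul_left_cancel (mul_right_cancel h))
  obtain ⟨s', hs', -, hbound⟩ := (N.pre S).witness hx hx2 hn4
  -- the centralizer of the representative acts on the neighbour
  set M := centralizer ({z} : Set G)
  have hM : ∀ m : M, (m : G) * z = z * (m : G) := fun m => mem_centralizer_singleton_iff.1 m.2
  haveI hLn : (L.subgroupOf M).Normal := ⟨fun x hx m => by
    rw [mem_subgroupOf] at hx ⊢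
    exact S.norm_L (hM m) hx⟩
  let φ : K →* M ⧸ L.subgroupOf M := (QuotientGroup.mk' _).comp
    (Subgroup.inclusion fun k hk => mem_centralizer_singleton_iff.2 (S.kz hk))
  have hφs : Function.Surjective φ := fun q => by
    obtain ⟨m, rfl⟩ := QuotientGroup.mk'_surjective _ q
    obtain ⟨l, hl, k, hk, em⟩ := S.dec m (hM m)
    refine ⟨⟨k, hk⟩, (QuotientGroup.eq (s := L.subgroupOf M)).2 (mem_subgroupOf.2 ?_)⟩
    show k⁻¹ * (m : G) ∈ L
    rw [em, S.comm l hl k hk, inv_mul_cancel_left]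
    exact hl
  have hker : φ.ker = zpowers (⟨z, S.zK⟩ : K) := by
    ext x
    rw [MonoidHom.mem_ker, MonoidHom.comp_apply, QuotientGroup.mk'_apply, QuotientGroup.eq_one_iff, mem_subgroupOf]
    refine ⟨fun hx => ?_, fun hx => ?_⟩
    · rcases S.inter _ hx x.2 with h | h
      · rw [show x = 1 from Subtype.ext h]; exact one_mem _
      · rw [show x = ⟨z, S.zK⟩ from Subtype.ext h]; exact mem_zpowers _
    · obtain ⟨j, rfl⟩ := mem_zpowers_iff.1 hx
      show ((((⟨z, S.zK⟩ : K) ^ j : K)) : G) ∈ L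
      rw [SubgroupClass.coe_zpow]
      exact zpow_mem S.zL j
  have hcardK : Nat.card K = 2 * Nat.card (M ⧸ L.subgroupOf M) := by
    rw [← φ.ker.card_mul_index, index_ker, MonoidHom.range_eq_top.2 hφs, card_top, hker, Nat.card_zpowers,
      Subgroup.orderOf_mk, orderOf_eq_prime (p := 2) (by rw [pow_two, S.z2]) S.z1]
  have hcV : ∀ c : cV, g⁻¹ * eL ψ (c : P276) * g ∈ M := fun c => mem_centralizer_singleton_iff.2 (by
    have h1 : eL ψ (c : P276) * (g * z * g⁻¹) = g * z * g⁻¹ * eL ψ (c : P276) := by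
      rw [N.eq]
      refine (Commute.mul_right ?_ (S.comm _ (eL_mem ψ c.2.1) _ N.kmem)).eq
      show _ * _ = _ * _
      rw [← eL_mul ψ c.2.1 N.amem, ← eL_mul ψ N.amem c.2.1, mem_centralizer_singleton_iff.1 c.2.2]
    calc g⁻¹ * eL ψ (c : P276) * g * z = g⁻¹ * (eL ψ (c : P276) * (g * z * g⁻¹)) * g := by group
      _ = _ := by rw [h1]; group)
  let θ : cV →* M ⧸ L.subgroupOf M := (QuotientGroup.mk' _).comp
    { toFun := fun c => ⟨_, hcV c⟩
      map_one' := Subtype.ext (by simp [eL_one])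
      map_mul' := fun c d => Subtype.ext (by
        show g⁻¹ * eL ψ ((c : P276) * d) * g = _ * _
        rw [eL_mul ψ c.2.1 d.2.1]; group) }
  have hcentW : ∀ c ∈ θ.ker, ∀ y ∈ yGrp S ψ g, ((c : cV) : P276) * y = y * c := by
    rintro c hc y ⟨my, l, hl, hl', -⟩
    have hcL : g⁻¹ * eL ψ (c : P276) * g ∈ L := mem_subgroupOf.1 ((QuotientGroup.eq_one_iff _).1 hc)
    have h1 : eL ψ (c : P276) * (eL ψ y * l) = eL ψ y * l * eL ψ (c : P276) := by
      calc eL ψ (c : P276) * (eL ψ y * l)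
          = g * (g⁻¹ * eL ψ (c : P276) * g * (g⁻¹ * (eL ψ y * l) * g)) * g⁻¹ := by group
        _ = _ := by rw [S.comm _ hcL _ hl']; group
    rw [mul_assoc (eL ψ y), ← S.comm _ (eL_mem ψ c.2.1) l hl, ← mul_assoc, ← mul_assoc] at h1
    have h2 := mul_right_cancel h1
    rw [← eL_mul ψ c.2.1 my, ← eL_mul ψ my c.2.1] at h2
    exact eL_inj ψ (mul_mem c.2.1 my) (mul_mem my c.2.1) h2
  have hN := hbound (θ.ker.map cV.subtype) (Subgroup.map_subtype_le _) (by
    rintro _ ⟨c, hc, rfl⟩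
    exact ⟨hcentW c hc x hx, hcentW c hc s' hs'⟩)
  rw [Subgroup.card_map_of_injective cV.subtype_injective] at hN
  have hprod : Nat.card θ.ker * Nat.card θ.range = 4608 := by
    rw [← index_ker, θ.ker.card_mul_index, coset_bij.1, dSub_valid.card, dSub_gens.2.2.1]
  have hdvd : Nat.card θ.range ∣ Nat.card (M ⧸ L.subgroupOf M) := Subgroup.card_subgroup_dvd_card _
  have h16 : ¬ 16 ∣ Nat.card K := fun h => by
    have h1 : (R : Subgroup K).index * Nat.card (R : Subgroup K) = Nat.card K := Subgroup.index_mul_card _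
    obtain ⟨j, hj⟩ := R.2.exists_card_eq
    have hj3 : j ≤ 3 := by
      by_contra hj4
      have : 2 ^ 4 ≤ 2 ^ j := Nat.pow_le_pow_right (by norm_num) (by omega)
      rw [← hj] at this
      omega
    rw [← h1, hj] at h
    refine R.not_dvd_index ?_
    refine Nat.dvd_of_mul_dvd_mul_right (k := 2 ^ j) (pow_pos (by norm_num) j) ((dvd_trans ?_ h))
    rw [← pow_succ', show (16 : ℕ) = 2 ^ 4 by norm_num]
    exact pow_dvd_pow 2 (by omega)
  have h8' : ¬ 8 ∣ Nat.card θ.range := fun h => h16 (by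
    rw [hcardK, show (16 : ℕ) = 2 * 8 by norm_num]; exact mul_dvd_mul_left 2 (h.trans hdvd))
  have f1 : (Nat.card θ.ker).factorization 2 ≤ 6 := by
    by_contra hh
    exact hN ((Nat.Prime.pow_dvd_iff_le_factorization Nat.prime_two Nat.card_pos.ne').2 (show 7 ≤ _ by omega))
  have f2 : (Nat.card θ.range).factorization 2 ≤ 2 := by
    by_contra hh
    exact h8' ((Nat.Prime.pow_dvd_iff_le_factorization Nat.prime_two Nat.card_pos.ne').2 (show 3 ≤ _ by omega))
  have f3 : (4608 : ℕ).factorization 2 = 9 := by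
    rw [show (4608 : ℕ) = 2 ^ 9 * 9 by norm_num, Nat.factorization_mul (by norm_num) (by norm_num),
      Finsupp.add_apply, Nat.Prime.factorization_pow Nat.prime_two, Finsupp.single_eq_same,
      Nat.factorization_eq_zero_of_not_dvd (by norm_num : ¬ 2 ∣ 9)]
  rw [← hprod, Nat.factorization_mul Nat.card_pos.ne' Nat.card_pos.ne', Finsupp.add_apply] at f3
  omega

/-- The neighbour is not of a class allowing only the centre. -/
theorem Nbr.small_false (S : StdSit L K z) {j : ℕ} (hj : j = 1 ∨ j = 3) (N : Nbr (K := K) (z := z) ψ g (rA j) k0)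
    (R : Sylow 2 K) (hR : 4 ≤ Nat.card (R : Subgroup K)) : False := by
  have h : ∀ w, g⁻¹ * w * g ∈ K → w * z = z * w → ∀ n, w ^ 2 ^ n = 1 → w = 1 ∨ w = g * z * g⁻¹ := by
    intro w hw hwz n hn
    obtain ⟨x, hx, k, hk, rfl⟩ := N.lift S hw hwz
    exact N.four_of S hk hw hn ((N.pre S).small hj hx (N.two_elt S hx.1 hk hn))
  have := N.small_K S h ((R : Subgroup K).map K.subtype) (Subgroup.map_subtype_le _) (R.2.map _)
  rw [Subgroup.card_map_of_injective K.subtype_injective] at this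
  omega

/-- The neighbour is described by a representative. -/
theorem exists_nbr (S : StdSit L K z) (hψ : eL ψ tP = z) (hz : g * z * g⁻¹ * z = z * (g * z * g⁻¹))
    (hne : g * z ≠ z * g) {l k : G} (hl : l ∈ L) (hk : k ∈ K) (e : g * z * g⁻¹ = l * k) :
    ∃ ψ' : Cm ≃* L, ∃ j < 4, ∃ k0, Nbr (K := K) (z := z) ψ' g (rA j) k0 ∧ (l * l = 1 → rA j * rA j = 1) := by
  obtain ⟨x, hx, rfl⟩ := eL_surj ψ hl
  have hzz : g * z * g⁻¹ * (g * z * g⁻¹) = 1 := by
    rw [show g * z * g⁻¹ * (g * z * g⁻¹) = g * (z * z) * g⁻¹ by group, S.z2]; group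
  have h2 : x * x = 1 ∨ x * x = tP := by
    have h : eL ψ (x * x) ∈ K := by
      rw [eL_mul ψ hx hx]
      rw [e, show eL ψ x * k * (eL ψ x * k) = eL ψ x * (k * eL ψ x) * k by group, ← S.comm _ hl k hk,
        show eL ψ x * (eL ψ x * k) * k = eL ψ x * eL ψ x * (k * k) by group] at hzz
      rw [eq_inv_of_mul_eq_one_left hzz]
      exact inv_mem (mul_mem hk hk)
    rcases S.inter _ (eL_mem ψ (mul_mem hx hx)) h with h | h
    · exact Or.inl (eL_inj ψ (mul_mem hx hx) (one_mem _) (h.trans (eL_one ψ).symm))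
    · exact Or.inr (eL_inj ψ (mul_mem hx hx) t_spec.2.2.2.1 (h.trans hψ.symm))
  have hxK : ∀ (_ : x = 1 ∨ x = tP), False := fun h => by
    have hK : g * z * g⁻¹ ∈ K := by
      rw [e]
      rcases h with h | h <;> rw [h]
      · rw [eL_one, one_mul]; exact hk
      · rw [hψ]; exact mul_mem S.zK hk
    have := S.odd_trivial hne hK (by rw [show g⁻¹ * (g * z * g⁻¹) * g = z by group]; exact S.zK) (n := 1)
      (by rw [pow_one, pow_two, hzz])
    exact S.z1 (conj_eq_one_iff.1 this)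
  obtain ⟨j, hj, c, hc, hcx⟩ := class_rep hx h2 (fun h => hxK (Or.inl h)) (fun h => hxK (Or.inr h))
  let ψ' : Cm ≃* L := (MulAut.conj (⟨c, hc⟩ : Cm)⁻¹).trans ψ
  have ev : ∀ y ∈ Cm, eL ψ' y = eL ψ (c⁻¹ * y * c) := fun y hy => by
    rw [eL, eL, dif_pos hy, dif_pos (mul_mem (mul_mem (inv_mem hc) hy) hc)]
    show (ψ ((⟨c, hc⟩ : Cm)⁻¹ * ⟨y, hy⟩ * ((⟨c, hc⟩ : Cm)⁻¹)⁻¹) : G) = _
    rw [inv_inv]
    rfl
  have hψ' : eL ψ' tP = z := by
    rw [ev _ t_spec.2.2.2.1, mul_assoc, ← t_central hc, inv_mul_cancel_left, hψ]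
  obtain ⟨-, hrm, hr2⟩ := named.2.2.2.2 j hj
  have hr1 : rA j ≠ 1 ∧ rA j ≠ tP := by
    have back : ∀ y, c * x * c⁻¹ = y → x = c⁻¹ * y * c := fun y h => by rw [← h]; group
    refine ⟨fun h => hxK ?_, fun h => hxK ?_⟩ <;> rw [h] at hcx <;> rcases hcx with h' | h'
    · left; rw [back _ h']; group
    · right; rw [back _ h', mul_one, mul_assoc, ← t_central hc, inv_mul_cancel_left]
    · right; rw [back _ h', mul_assoc, ← t_central hc, inv_mul_cancel_left]
    · left; rw [back _ h', t_sq]; group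
  refine ⟨ψ', j, hj, if c * x * c⁻¹ = rA j then k else z * k, ?_, fun hll => ?_⟩
  · refine ⟨hz, hne, hrm, hr1.1, hr1.2, hr2, ?_, ?_, hψ'⟩
    · split_ifs
      exacts [hk, mul_mem S.zK hk]
    · rw [e, ev _ hrm]
      split_ifs with h
      · rw [← h]; congr 1; exact congrArg _ (by group)
      · rw [show c⁻¹ * rA j * c = tP * x by
          rw [show rA j = tP * (c * x * c⁻¹) by rw [hcx.resolve_left h, ← mul_assoc, t_sq, one_mul],
            ← mul_assoc c⁻¹, t_central (inv_mem hc)]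
          group, eL_mul ψ t_spec.2.2.2.1 hx, hψ, ← mul_assoc, mul_assoc z (eL ψ x) z, S.lz hl, ← mul_assoc z z,
          S.z2, one_mul]
  · have hxx : x * x = 1 := eL_inj ψ (mul_mem hx hx) (one_mem _) (by rw [eL_mul ψ hx hx, hll, eL_one])
    have hcc : c * x * c⁻¹ * (c * x * c⁻¹) = 1 := by
      rw [show c * x * c⁻¹ * (c * x * c⁻¹) = c * (x * x) * c⁻¹ by group, hxx]; group
    rcases hcx with h | h <;> rw [h] at hcc
    · exact hcc
    · rw [show tP * rA j * (tP * rA j) = tP * (rA j * tP) * rA j by group, t_central hrm] at hcc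
      simpa only [← mul_assoc, t_sq, one_mul] using hcc

/-- The second component of the conjugate cannot square to one. -/
theorem no_sq_one (S : StdSit L K z) (hψ : eL ψ tP = z) (R : Sylow 2 K) (hR : 4 ≤ Nat.card (R : Subgroup K))
    (hz : g * z * g⁻¹ * z = z * (g * z * g⁻¹)) (hne : g * z ≠ z * g) {l k : G} (hl : l ∈ L) (hk : k ∈ K)
    (e : g * z * g⁻¹ = l * k) (hll : l * l = 1) : False := by
  obtain ⟨ψ', j, hj, k0, N, hr⟩ := exists_nbr S hψ hz hne hl hk e
  have h1 := hr hll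
  interval_cases j
  · rw [named.2.2.1] at N; exact N.v_false S R hR
  · exact t_spec.2.1 (rA_sq.1.symm.trans h1)
  · exact t_spec.2.1 (rA_sq.2.symm.trans h1)
  · exact N.small_false S (Or.inr rfl) R hR

/-- A Sylow two-subgroup of the tightly embedded subgroup has order two. -/
theorem sylow_le_two (S : StdSit L K z) (hψ : eL ψ tP = z) (R : Sylow 2 K)
    (hz : g * z * g⁻¹ * z = z * (g * z * g⁻¹)) (hne : g * z ≠ z * g) : Nat.card (R : Subgroup K) ≤ 2 := by
  by_contra hlt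
  have hR : 4 ≤ Nat.card (R : Subgroup K) := by
    haveI : Fact (Nat.Prime 2) := ⟨Nat.prime_two⟩
    obtain ⟨j, hj⟩ := R.2.exists_card_eq
    have : 2 ≤ j := by
      by_contra h
      have : 2 ^ j ≤ 2 ^ 1 := Nat.pow_le_pow_right (by norm_num) (by omega)
      omega
    have : 2 ^ 2 ≤ 2 ^ j := Nat.pow_le_pow_right (by norm_num) this
    omega
  obtain ⟨l, hl, k, hk, e⟩ := S.dec (g * z * g⁻¹) hz
  obtain ⟨ψ', j, hj, k0, N, -⟩ := exists_nbr S hψ hz hne hl hk e
  interval_cases j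
  · rw [named.2.2.1] at N; exact N.v_false S R hR
  · exact N.small_false S (Or.inl rfl) R hR
  · obtain ⟨l1, k1, hl1, hk1, ez, hk1z, hk4, hsq, -⟩ := N.back S
    obtain ⟨x, hx, k2, hk2, ek⟩ := N.lift S hk1 hk1z
    have hxx := (N.pre S).square hx (N.two_elt S hx.1 hk2 (n := 2) (ek ▸ hk4))
    have hkk : k1 * k1 = 1 := by
      refine S.odd_trivial N.hne ?_ ?_ (n := 2) ?_
      · rw [ek, show eL ψ' x * k2 * (eL ψ' x * k2) = eL ψ' x * (k2 * eL ψ' x) * k2 by group,
          ← S.comm _ (eL_mem ψ' hx.1) k2 hk2,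
          show eL ψ' x * (eL ψ' x * k2) * k2 = eL ψ' x * eL ψ' x * (k2 * k2) by group, ← eL_mul ψ' hx.1 hx.1]
        rcases hxx with h | h <;> rw [h]
        · rw [eL_one, one_mul]; exact mul_mem hk2 hk2
        · rw [N.psiT]; exact mul_mem S.zK (mul_mem hk2 hk2)
      · rw [show g⁻¹ * (k1 * k1) * g = g⁻¹ * k1 * g * (g⁻¹ * k1 * g) by group]
        exact mul_mem hk1 hk1
      · rw [(Commute.refl k1).mul_pow, hk4, one_mul]
    rw [hkk, mul_one] at hsq
    refine no_sq_one (g := g⁻¹) S hψ R hR ?_ (fun h => hne ?_) hl1 hk1 ?_ ?_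
    · calc g⁻¹ * z * g⁻¹⁻¹ * z = g⁻¹ * (z * (g * z * g⁻¹)) * g := by group
        _ = g⁻¹ * (g * z * g⁻¹ * z) * g := by rw [hz]
        _ = _ := by group
    · exact (Commute.inv_left_iff.1 (h : Commute g⁻¹ z)).eq
    · rw [ez]; group
    · rw [show g⁻¹ * l1 * g * (g⁻¹ * l1 * g) = g⁻¹ * (l1 * l1) * g by group, hsq]; group
  · exact N.small_false S (Or.inr rfl) R hR

end Cfsg.Lib.CoThreeType
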