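import Cfsg.Agent.Lib.CoThreeType.StdKill
import Cfsg.Agent.Lib.CoThreeType.Final
import Cfsg.Agent.Lib.FTCons.StandardSubgroup
import Cfsg.Agent.Lib.Core.Cores
import Cfsg.Agent.Lib.Invol.Cyclic
import Cfsg.Agent.Lib.Linear.PermOrth
import Cfsg.Agent.S0814

/-!
# The third Conway group from a standard double cover of `Sp6(2)`
-/

set_option autoImplicit false
set_option linter.style.haveILetI false

namespace Cfsg.Lib.CoThreeType

open Subgroup
open scoped commutatorElement

/-- The projective symplectic group over the field with two elements. -/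
theorem psp_iso {F : Type*} [Field F] [Fintype F] (hF : Fintype.card F = 2) :
    Nonempty (Cfsg.PSp 3 F ≃* Matrix.symplecticGroup (Fin 3) (ZMod 2)) := by
  obtain ⟨e⟩ := Cfsg.Lib.Linear.PermModule.symp_equiv (ZMod.ringEquivOfPrime F Nat.prime_two hF) 3
  have hc : center (Matrix.symplecticGroup (Fin 3) F) = ⊥ := by
    refine eq_bot_iff.2 fun x hx => ?_
    have : e.symm x ∈ center (Matrix.symplecticGroup (Fin 3) (ZMod 2)) := mem_center_iff.2 fun y =>
      e.injective (by rw [map_mul, map_mul, e.apply_symm_apply]; exact mem_center_iff.1 hx _)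
    rw [show center (Matrix.symplecticGroup (Fin 3) (ZMod 2)) = ⊥ from Cfsg.Lib.SpSix.center_Sp, mem_bot,
      MulEquiv.map_eq_one_iff] at this
    exact mem_bot.2 this
  exact ⟨((QuotientGroup.quotientMulEquivOfEq hc).trans QuotientGroup.quotientBot).trans e.symm⟩

theorem psp_inner {F : Type*} [Field F] [Fintype F] (hF : Fintype.card F = 2) (φ : MulAut (Cfsg.PSp 3 F)) :
    ∃ a, ∀ x, φ x = a * x * a⁻¹ := by
  haveI : Fact (Nat.Prime 2) := ⟨Nat.prime_two⟩
  obtain ⟨π⟩ := psp_iso hF
  haveI : Finite (Cfsg.PSp 3 F) := Finite.of_equiv _ π.symm.toEquiv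
  have hcard := Cfsg.Agent.S0814.result (F := F) 2 1 le_rfl (by rw [hF, pow_one]) 3 (by norm_num) (by norm_num)
  norm_num at hcard
  have hinj : Function.Injective (MulAut.conj : Cfsg.PSp 3 F →* MulAut (Cfsg.PSp 3 F)) :=
    (injective_iff_map_eq_one _).2 fun a ha => by
      have : π a ∈ center (Matrix.symplecticGroup (Fin 3) (ZMod 2)) := mem_center_iff.2 fun y => by
        obtain ⟨b, rfl⟩ := π.surjective y
        have h : a * b * a⁻¹ = b := DFunLike.congr_fun ha b
        rw [← map_mul, ← map_mul]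
        exact congrArg π (mul_inv_eq_iff_eq_mul.1 h).symm
      rw [show center (Matrix.symplecticGroup (Fin 3) (ZMod 2)) = ⊥ from Cfsg.Lib.SpSix.center_Sp, mem_bot,
        MulEquiv.map_eq_one_iff] at this
      exact this
  haveI : Finite (MulAut (Cfsg.PSp 3 F)) := Nat.finite_of_card_ne_zero (by rw [hcard]; exact Nat.card_pos.ne')
  obtain ⟨a, ha⟩ := ((Nat.bijective_iff_injective_and_card _).2 ⟨hinj, hcard.symm⟩).2 φ
  exact ⟨a, fun x => by rw [← ha]; rfl⟩

/-- Every automorphism of the double cover is inner. -/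
theorem cover_inner {L : Type*} [Group L] [Group.IsPerfect L] {P : Type*} [Group P]
    (π : L ⧸ center L ≃* P) (hP : ∀ φ : MulAut P, ∃ a, ∀ x, φ x = a * x * a⁻¹) (α : MulAut L) :
    ∃ l : L, ∀ x, α x = l * x * l⁻¹ := by
  let q := π.toMonoidHom.comp (QuotientGroup.mk' (center L))
  let ᾱ : L ⧸ center L ≃* L ⧸ center L := QuotientGroup.congr _ _ α (by
    ext x
    refine ⟨?_, fun hx => ⟨α.symm x, mem_center_iff.2 fun y => α.injective ?_, α.apply_symm_apply x⟩⟩
    · rintro ⟨y, hy, rfl⟩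
      refine mem_center_iff.2 fun w => ?_
      obtain ⟨u, rfl⟩ := α.surjective w
      show α u * α y = α y * α u
      rw [← map_mul, ← map_mul, mem_center_iff.1 hy u]
    · rw [map_mul, map_mul, α.apply_symm_apply]; exact mem_center_iff.1 hx _)
  obtain ⟨a, ha⟩ := hP ((π.symm.trans ᾱ).trans π)
  obtain ⟨l, hl⟩ := QuotientGroup.mk'_surjective (center L) (π.symm a)
  refine ⟨l, fun x => ?_⟩
  have hq : ∀ x, l⁻¹ * α x * l * x⁻¹ ∈ center L := fun x => by
    rw [← QuotientGroup.eq_one_iff]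
    apply π.injective
    have e : π (QuotientGroup.mk (α x)) = a * π (QuotientGroup.mk x) * a⁻¹ := by
      rw [← ha]
      simp only [MulEquiv.trans_apply, MulEquiv.symm_apply_apply]
      rfl
    have el : π (QuotientGroup.mk l) = a := by
      rw [show (QuotientGroup.mk l : L ⧸ center L) = π.symm a from hl, π.apply_symm_apply]
    simp only [QuotientGroup.mk_mul, QuotientGroup.mk_inv, map_mul, map_inv, map_one, e, el]
    group
  let d : L →* center L :=
    { toFun := fun x => ⟨_, hq x⟩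
      map_one' := Subtype.ext (by simp)
      map_mul' := fun x y => Subtype.ext (by
        show l⁻¹ * α (x * y) * l * (x * y)⁻¹ = l⁻¹ * α x * l * x⁻¹ * (l⁻¹ * α y * l * y⁻¹)
        have hc := mem_center_iff.1 (hq y)
        calc l⁻¹ * α (x * y) * l * (x * y)⁻¹
            = l⁻¹ * α x * l * (l⁻¹ * α y * l * y⁻¹) * x⁻¹ := by rw [map_mul]; group
          _ = _ := by rw [mul_assoc _ (l⁻¹ * α y * l * y⁻¹), ← hc x⁻¹, ← mul_assoc]) }
  have hd : d.ker = ⊤ := by
    refine eq_top_iff.2 ?_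
    rw [← Group.IsPerfect.commutator_eq_top (G := L), commutator_def, commutator_le]
    intro u _ v _
    rw [MonoidHom.mem_ker, map_commutatorElement, commutatorElement_eq_one_iff_mul_comm]
    exact Subtype.ext (mem_center_iff.1 (d v).2 _)
  have h : l⁻¹ * α x * l * x⁻¹ = (1 : L) := by
    have h0 : d x = 1 := MonoidHom.mem_ker.1 (hd ▸ mem_top x : x ∈ d.ker)
    exact congrArg (fun u : center L => (u : L)) h0
  calc α x = l * (l⁻¹ * α x * l * x⁻¹) * x * l⁻¹ := by group
    _ = _ := by rw [h, mul_one]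

theorem co3_of_standard {G : Type*} [Group G] [Finite G] [IsSimpleGroup G] (hG : ¬ IsMulCommutative G)
    (hbal : ∀ t : G, orderOf t = 2 → Cfsg.centralizerPPrimeCore 2 t = ⊥)
    (L : Subgroup G) (hL : Cfsg.IsStandardSubgroup L)
    {F : Type*} [Field F] [Fintype F] (hF : Fintype.card F = 2)
    (hc : Nat.card (center L) = 2) (hX : Nonempty (↥L ⧸ center ↥L ≃* Cfsg.PSp 3 F)) :
    Cfsg.Spor.IsoCo3 G := by
  classical
  haveI : Fact (Nat.Prime 2) := ⟨Nat.prime_two⟩
  obtain ⟨π⟩ := hX
  obtain ⟨ρ⟩ := psp_iso hF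
  haveI : Group.IsPerfect ↥L := hL.1.1
  have hcov : Cfsg.IsNonsplitDoubleCover L (Matrix.symplecticGroup (Fin 3) (ZMod 2)) := by
    refine ⟨hc, ⟨π.trans ρ⟩, fun H hH => ?_⟩
    have hle : commutator ↥L ≤ H := by
      rw [commutator_def, commutator_le]
      intro u _ v _
      obtain ⟨⟨⟨a, ha⟩, ⟨b, hb⟩⟩, rfl⟩ := hH.2 u
      obtain ⟨⟨⟨c, hc⟩, ⟨d, hd⟩⟩, rfl⟩ := hH.2 v
      have e : ⁅a * b, c * d⁆ = ⁅b, d⁆ := by
        simp only [commutatorElement_def, mul_inv_rev]
        calc a * b * (c * d) * (b⁻¹ * a⁻¹) * (d⁻¹ * c⁻¹)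
            = a * ((b * c) * d * b⁻¹) * a⁻¹ * (d⁻¹ * c⁻¹) := by group
          _ = (b * c) * d * b⁻¹ * (a * a⁻¹) * (d⁻¹ * c⁻¹) := by
            rw [← mem_center_iff.1 ha ((b * c) * d * b⁻¹)]; group
          _ = c * (b * d * b⁻¹ * d⁻¹) * c⁻¹ := by rw [mem_center_iff.1 hc b]; group
          _ = b * d * b⁻¹ * d⁻¹ := by rw [← mem_center_iff.1 hc, mul_inv_cancel_right]
      show ⁅a * b, c * d⁆ ∈ H
      rw [e, commutatorElement_def]
      exact mul_mem (mul_mem (mul_mem hb hd) (inv_mem hb)) (inv_mem hd)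
    rw [Group.IsPerfect.commutator_eq_top, top_le_iff] at hle
    have hbot := hH.disjoint.eq_bot
    rw [hle, inf_top_eq] at hbot
    rw [hbot] at hc
    norm_num at hc
  obtain ⟨ψ⟩ := cover_iso cm_double_cover hcov
  set K := centralizer (L : Set G) with hK
  set z := eL ψ tP with hz
  have htC := t_spec.2.2.2.1
  have hzL : z ∈ L := eL_mem ψ htC
  have hzz : z * z = 1 := by rw [hz, ← eL_mul ψ htC htC, t_sq, eL_one]
  have hz1 : z ≠ 1 := fun e => t_spec.2.1 (eL_inj ψ htC (one_mem _) (e.trans (eL_one ψ).symm))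
  have hzo : orderOf z = 2 := orderOf_eq_prime (by rw [pow_two, hzz]) hz1
  have hzK : z ∈ K := mem_centralizer_iff.2 fun x hx => by
    obtain ⟨y, hy, rfl⟩ := eL_surj ψ hx
    rw [hz, ← eL_mul ψ hy htC, ← eL_mul ψ htC hy, t_central hy]
  have hcen : ∀ x ∈ L, x ∈ K → x = 1 ∨ x = z := fun x hx hxK => by
    have h1 : (⟨x, hx⟩ : L) ∈ center L := mem_center_iff.2 fun y => Subtype.ext (mem_centralizer_iff.1 hxK y y.2)
    have h2 : (⟨z, hzL⟩ : L) ∈ center L := mem_center_iff.2 fun y => Subtype.ext (mem_centralizer_iff.1 hzK y y.2)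
    obtain ⟨a, b, hab, hset⟩ := Nat.card_eq_two_iff.1 hc
    have hm : ∀ u : center L, u = a ∨ u = b := fun u => by
      have : u ∈ ({a, b} : Set _) := hset ▸ Set.mem_univ u
      simpa using this
    rcases hm ⟨_, h1⟩ with e1 | e1 <;> rcases hm ⟨_, h2⟩ with e2 | e2 <;> rcases hm 1 with e3 | e3
    all_goals first
      | exact Or.inr (congrArg (fun u : center L => ((u : L) : G)) (e1.trans e2.symm))
      | exact Or.inl (congrArg (fun u : center L => ((u : L) : G)) (e1.trans e3.symm))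
      | exact absurd (congrArg (fun u : center L => ((u : L) : G)) (e2.trans e3.symm)) hz1
  have hnorm : ∀ m : G, m * z = z * m → m ∈ normalizer (L : Set G) := fun m hm =>
    FTCons.standard_centralizer_le hL hzo hzK (mem_centralizer_singleton_iff.2 hm)
  have hnormC : ∀ m : G, m ∈ normalizer (K : Set G) → m * z = z * m := fun m hm => by
    rw [← hL.2.2.2] at hm
    have hmem : ∀ x ∈ L, m * x * m⁻¹ ∈ L := fun x hx => (mem_normalizer_iff.1 hm x).1 hx
    have hK' : m * z * m⁻¹ ∈ K := mem_centralizer_iff.2 fun x hx => by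
      have h' : m⁻¹ * x * m ∈ L := by
        have := (mem_normalizer_iff.1 (inv_mem hm) x).1 hx
        rwa [inv_inv] at this
      calc x * (m * z * m⁻¹) = m * (m⁻¹ * x * m * z) * m⁻¹ := by group
        _ = m * (z * (m⁻¹ * x * m)) * m⁻¹ := by rw [mem_centralizer_iff.1 hzK _ h']
        _ = _ := by group
    rcases hcen _ (hmem z hzL) hK' with h | h
    · exact absurd (conj_eq_one_iff.1 h) hz1
    · exact mul_inv_eq_iff_eq_mul.1 h
  have hdec : ∀ m, m * z = z * m → ∃ l ∈ L, ∃ k ∈ K, m = l * k := fun m hm => by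
    have hn := hnorm m hm
    let α : MulAut L :=
      { toFun := fun x => ⟨m * x * m⁻¹, (mem_normalizer_iff.1 hn x).1 x.2⟩
        invFun := fun x => ⟨m⁻¹ * x * m, by
          have := (mem_normalizer_iff.1 (inv_mem hn) x).1 x.2
          rwa [inv_inv] at this⟩
        left_inv := fun x => Subtype.ext (by show m⁻¹ * (m * (x : G) * m⁻¹) * m = x; group)
        right_inv := fun x => Subtype.ext (by show m * (m⁻¹ * (x : G) * m) * m⁻¹ = x; group)
        map_mul' := fun x y => Subtype.ext (by show m * ((x : G) * y) * m⁻¹ = _; simp [mul_assoc]) }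
    obtain ⟨l, hl⟩ := cover_inner π (psp_inner hF) α
    refine ⟨l, l.2, (l : G)⁻¹ * m, mem_centralizer_iff.2 fun b hb => ?_, by group⟩
    have e : m * b * m⁻¹ = (l : G) * b * (l : G)⁻¹ := congrArg Subtype.val (hl ⟨b, hb⟩)
    calc b * ((l : G)⁻¹ * m) = (l : G)⁻¹ * ((l : G) * b * (l : G)⁻¹) * m := by group
      _ = _ := by rw [← e]; group
  have S : StdSit L K z :=
    ⟨hzL, hzK, hzz, hz1, fun l hl k hk => mem_centralizer_iff.1 hk l hl, hcen, hdec,
      fun g hg => hL.2.1.2 g fun h => hg (hnormC g h)⟩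
  have hZ : center G = ⊥ := (inferInstance : (center G).Normal).eq_bot_or_eq_top.resolve_right fun h =>
    hG ⟨⟨fun a b => (mem_center_iff.1 (h ▸ mem_top a : a ∈ center G) b).symm⟩⟩
  haveI : (pPrimeCore 2 G).Normal := inferInstance
  have hO : Cfsg.oddCore G = ⊥ := by
    refine (inferInstance : (pPrimeCore 2 G).Normal).eq_bot_or_eq_top.resolve_right fun h => ?_
    have h2 : 2 ∣ Nat.card (pPrimeCore 2 G) := by
      rw [h, card_top, ← hzo]; exact orderOf_dvd_natCard z
    exact Nat.Prime.not_coprime_iff_dvd.2 ⟨2, Nat.prime_two, h2, dvd_rfl⟩ (Cfsg.Lib.Core.pPrimeCore_coprime 2 G)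
  obtain ⟨g, hgc, hgne⟩ : ∃ g : G, g * z * g⁻¹ * z = z * (g * z * g⁻¹) ∧ g * z ≠ z * g := by
    by_contra hn
    push Not at hn
    refine not_isolated hzo hO hZ ⟨hzo, fun g hg => ?_⟩
    rw [hn g hg.eq.symm, mul_inv_cancel_right]
  obtain ⟨R⟩ := (inferInstance : Nonempty (Sylow 2 K))
  have hR := sylow_le_two S hz.symm R hgc hgne
  -- the centralizer of the double cover has a normal complement of odd order
  have heven : Even (Nat.card K) := hL.2.1.1
  have hR2 : Nat.card (R : Subgroup K) = 2 := by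
    obtain ⟨j, hj⟩ := R.2.exists_card_eq
    rcases j with _ | j
    · exfalso
      refine R.not_dvd_index ?_
      have := (R : Subgroup K).index_mul_card
      rw [hj, pow_zero, mul_one] at this
      rw [this]
      exact even_iff_two_dvd.1 heven
    · have : 2 ≤ 2 ^ (j + 1) := by simpa using Nat.pow_le_pow_right (show 0 < 2 by norm_num) (show 1 ≤ j + 1 by omega)
      omega
  obtain ⟨H, hH⟩ := Invol.exists_index_two_of_isCyclic heven R (isCyclic_of_prime_card (p := 2) hR2)
  have hHodd : Odd (Nat.card H) := by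
    rw [← Nat.not_even_iff_odd, even_iff_two_dvd]
    intro h
    have h1 : 2 * 2 ∣ Nat.card K := by rw [← H.card_mul_index, hH]; exact mul_dvd_mul_right h 2
    rw [← (R : Subgroup K).index_mul_card, hR2] at h1
    exact R.not_dvd_index (Nat.dvd_of_mul_dvd_mul_right (by norm_num) h1)
  haveI : H.Normal := normal_of_index_eq_two hH
  have hchar : ∀ k : K, k ∈ H ↔ Odd (orderOf k) := fun k => by
    refine ⟨fun h => hHodd.of_dvd_nat (Subgroup.orderOf_dvd_natCard H h), ?_⟩
    intro h
    by_contra hk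
    obtain ⟨m, hm⟩ := h
    have : k ^ orderOf k ∈ H ↔ k ∈ H := by
      rw [hm, pow_succ]
      exact H.mul_mem_cancel_left (by rw [pow_mul]; exact pow_mem (sq_mem_of_index_two hH k) m)
    exact hk (this.1 (by rw [pow_orderOf_eq_one]; exact one_mem _))
  set M := centralizer ({z} : Set G) with hM
  let i : K →* M := Subgroup.inclusion fun k hk => mem_centralizer_singleton_iff.2 (S.kz hk)
  have hn : (H.map i).Normal := ⟨by
    rintro _ ⟨k, hk, rfl⟩ m
    have hmz := mem_centralizer_singleton_iff.1 m.2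
    refine ⟨⟨(m : G) * k * (m : G)⁻¹, S.norm_K hmz k.2⟩, (hchar _).2 ?_, Subtype.ext rfl⟩
    rw [Subgroup.orderOf_mk, show (m : G) * k * (m : G)⁻¹ = (MulAut.conj (m : G)) k from rfl,
      MulEquiv.orderOf_eq, Subgroup.orderOf_coe]
    exact (hchar k).1 hk⟩
  have hcore := hbal z hzo
  have hHbot : H = ⊥ := by
    have h1 : H.map i ≤ pPrimeCore 2 M := le_sSup ⟨hn, by
      rw [Subgroup.card_map_of_injective (Subgroup.inclusion_injective _)]
      exact hHodd.coprime_two_right⟩
    refine eq_bot_iff.2 fun k hk => ?_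
    have h2 : ((i k : M) : G) ∈ Cfsg.centralizerPPrimeCore 2 z := ⟨i k, h1 ⟨k, hk, rfl⟩, rfl⟩
    rw [hcore, mem_bot] at h2
    exact mem_bot.2 (Subtype.ext h2)
  have hK2 : Nat.card K = 2 := by
    have h := H.card_mul_index
    rw [hHbot, card_bot, one_mul] at h
    rw [← h, ← hHbot, hH]
  have hKz : ∀ k ∈ K, k = 1 ∨ k = z := fun k hk => by
    obtain ⟨a, b, hab, hset⟩ := Nat.card_eq_two_iff.1 hK2
    have hm : ∀ u : K, u = a ∨ u = b := fun u => by
      have : u ∈ ({a, b} : Set _) := hset ▸ Set.mem_univ u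
      simpa using this
    rcases hm ⟨k, hk⟩ with e1 | e1 <;> rcases hm ⟨z, hzK⟩ with e2 | e2 <;> rcases hm 1 with e3 | e3
    all_goals first
      | exact Or.inr (congrArg Subtype.val (e1.trans e2.symm))
      | exact Or.inl (congrArg Subtype.val (e1.trans e3.symm))
      | exact absurd (congrArg Subtype.val (e2.trans e3.symm)) hz1
  have hCL : centralizer ({z} : Set G) = L := le_antisymm (fun m hm => by
    obtain ⟨l, hl, k, hk, rfl⟩ := hdec m (mem_centralizer_singleton_iff.1 hm)
    rcases hKz k hk with rfl | rfl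
    · rwa [mul_one]
    · exact mul_mem hl hzL) fun l hl => mem_centralizer_singleton_iff.2 (S.lz hl)
  exact co3_of_centralizer hO hZ hzo (hCL ▸ hcov)

end Cfsg.Lib.CoThreeType
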