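import Cfsg.Agent.Lib.CoThreeType.StdChecks
import Cfsg.Agent.Lib.CoThreeType.Fusion
import Cfsg.Agent.Lib.CoThreeType.DescentBase

/-!
# Subgroups of the double cover resembling a tightly embedded neighbour
-/

set_option autoImplicit false
set_option maxRecDepth 100000
set_option linter.style.haveILetI false

namespace Cfsg.Lib.CoThreeType

open Equiv Cfsg.Lib.PermAut Cfsg.Lib.J3Type

/-- The product of some tables. -/
noncomputable def wP (l : List ℕ) : P276 := (l.map (toP 9 276)).prod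

/-- The tables represent an element of the centralizer. -/
def GoodW (l : List ℕ) : Prop := (∀ T ∈ l, Rep 9 (toP 9 276 T) T) ∧ wP l ∈ Cm

theorem wP_append (l m : List ℕ) : wP (l ++ m) = wP l * wP m := by simp [wP]

theorem wP_single (T : ℕ) : wP [T] = toP 9 276 T := by simp [wP]

theorem goodW_nil : GoodW [] := ⟨fun _ h => absurd h List.not_mem_nil, by simpa [wP] using one_mem Cm⟩

theorem GoodW.append {l m : List ℕ} (hl : GoodW l) (hm : GoodW m) : GoodW (l ++ m) :=
  ⟨fun T hT => (List.mem_append.1 hT).elim (hl.1 T) (hm.1 T), by rw [wP_append]; exact mul_mem hl.2 hm.2⟩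

theorem codeOf_wP : ∀ {l : List ℕ}, (∀ T ∈ l, Rep 9 (toP 9 276 T) T) → codeOf (wP l) = wCode l
  | [], _ => by simp [wP, wCode, codeOf_one]
  | T :: l, h => by
    rw [wP, List.map_cons, List.prod_cons, codeOf_mul (h T (List.mem_cons_self ..)), wCode, List.foldr_cons]
    exact congrArg (stepC T) (codeOf_wP fun S hS => h S (List.mem_cons_of_mem _ hS))

theorem eqW_iff {l m : List ℕ} (hl : GoodW l) (hm : GoodW m) : eqW l m = true ↔ wP l = wP m := by
  rw [eqW, Nat.beq_eq, ← codeOf_wP hl.1, ← codeOf_wP hm.1]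
  exact ⟨eq_of_code hl.2 hm.2, congrArg codeOf⟩

theorem good_t : GoodW [tTab] ∧ wP [tTab] = tP :=
  ⟨⟨fun T hT => by rw [List.mem_singleton.1 hT]; exact t_spec.1, by rw [wP_single]; exact t_spec.2.2.2.1⟩, wP_single _⟩

theorem t_central {g : P276} (hg : g ∈ Cm) : g * tP = tP * g := t_spec.2.2.2.2 g hg

theorem t_sq : tP * tP = 1 := t_spec.2.2.1

/-- Two elements commute up to the central involution. -/
def Comm2 (x a : P276) : Prop := x * a = a * x ∨ x * a = tP * (a * x)

theorem Comm2.symm {x a : P276} (h : Comm2 x a) : Comm2 a x := by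
  rcases h with h | h
  · exact Or.inl h.symm
  · exact Or.inr (by rw [h, ← mul_assoc, t_sq, one_mul])

theorem comW_iff {l m : List ℕ} (hl : GoodW l) (hm : GoodW m) : comW l m = true ↔ Comm2 (wP l) (wP m) := by
  rw [comW, Bool.or_eq_true, eqW_iff (hl.append hm) (hm.append hl), show tTab :: (m ++ l) = [tTab] ++ (m ++ l) from rfl,
    eqW_iff (hl.append hm) (good_t.1.append (hm.append hl))]
  simp only [wP_append, good_t.2, Comm2]

theorem good_sTabs {x : ℕ} (hx : x < 1024) : GoodW (sTabs x) ∧ wP (sTabs x) = sSub.el x := by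
  have hx' : x < sSub.size := sSub_gens.2.2.symm ▸ hx
  have e : wP (sTabs x) = sSub.el x := by
    rw [wP, sTabs, List.map_map]; rfl
  refine ⟨⟨fun T hT => ?_, e ▸ (sSub_valid.el_mem hx').1⟩, e⟩
  obtain ⟨k, hk, rfl⟩ := List.mem_map.1 hT
  exact (sSub_valid.gen ((sSub_valid.spec hx').2.1 k hk)).1

theorem good_dTabs {x : ℕ} (hx : x < 4608) : GoodW (dTabs x) ∧ wP (dTabs x) = dSub.el x := by
  have hx' : x < dSub.size := dSub_gens.2.2.1.symm ▸ hx
  have e : wP (dTabs x) = dSub.el x := by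
    rw [wP, dTabs, List.map_map]; rfl
  refine ⟨⟨fun T hT => ?_, e ▸ (dSub_valid.el_mem hx').1⟩, e⟩
  obtain ⟨k, hk, rfl⟩ := List.mem_map.1 hT
  exact (dSub_valid.gen ((dSub_valid.spec hx').2.1 k hk)).1

theorem good_pth {u : List ℕ} (hu : pathOk centSub.lev u = true) : GoodW (pth u) ∧ wP (pth u) = pP u :=
  ⟨⟨cm_valid.good_of_path hu, cm_valid.mem_of_path hu⟩, rfl⟩

theorem pairB_spec {u v : ℕ} (h : pairB u v = true) : GoodW (pth (pthOf u)) ∧ GoodW (pth (pthOf v)) ∧
    wP (pth (pthOf v)) = (wP (pth (pthOf u)))⁻¹ := by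
  simp only [pairB, Bool.and_eq_true] at h
  obtain ⟨⟨hu, hv⟩, he⟩ := h
  refine ⟨(good_pth hu).1, (good_pth hv).1, eq_inv_of_mul_eq_one_right ?_⟩
  rw [← wP_append, (eqW_iff ((good_pth hu).1.append (good_pth hv).1) goodW_nil).1 he]
  simp [wP]

/-- The elements commuting with an element up to the central involution. -/
noncomputable def cBar (a : P276) : Subgroup P276 where
  carrier := {g | g ∈ Cm ∧ Comm2 g a}
  one_mem' := ⟨one_mem _, Or.inl (by rw [one_mul, mul_one])⟩
  mul_mem' {g h} := fun ⟨mg, hg⟩ ⟨mh, hh⟩ => by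
    refine ⟨mul_mem mg mh, ?_⟩
    rcases hh with hh | hh <;> rcases hg with hg | hg
    · exact Or.inl (by rw [mul_assoc, hh, ← mul_assoc, hg, mul_assoc])
    · exact Or.inr (by rw [mul_assoc, hh, ← mul_assoc, hg]; simp only [mul_assoc])
    · refine Or.inr ?_
      rw [mul_assoc, hh, ← mul_assoc, t_central mg, mul_assoc, ← mul_assoc g, hg]
      simp only [mul_assoc]
    · refine Or.inl ?_
      rw [mul_assoc, hh, ← mul_assoc, t_central mg, mul_assoc, ← mul_assoc g, hg]
      simp only [← mul_assoc, t_sq, one_mul]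
  inv_mem' {g} := fun ⟨mg, hg⟩ => by
    refine ⟨inv_mem mg, ?_⟩
    rcases hg with hg | hg
    · exact Or.inl (Commute.inv_left hg)
    · refine Or.inr (mul_left_cancel (a := g) ?_)
      rw [mul_inv_cancel_left, ← mul_assoc g tP, t_central mg, mul_assoc, ← mul_assoc g a, hg]
      simp only [← mul_assoc, t_sq, one_mul, mul_inv_cancel_right]

theorem mem_cBar {g a : P276} : g ∈ cBar a ↔ g ∈ Cm ∧ Comm2 g a := Iff.rfl

theorem t_cBar (a : P276) (ha : a ∈ Cm) : tP ∈ cBar a := ⟨t_spec.2.2.2.1, Or.inl (t_central ha).symm⟩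

theorem conj_self {g a : P276} (h : g ∈ cBar a) : g * a * g⁻¹ = a ∨ g * a * g⁻¹ = tP * a := by
  rcases h.2 with h | h
  · exact Or.inl (by rw [h, mul_inv_cancel_right])
  · exact Or.inr (by rw [h, ← mul_assoc, mul_inv_cancel_right])

/-- The four elements generated by the element and the central involution. -/
def Four (a x : P276) : Prop := x = 1 ∨ x = tP ∨ x = a ∨ x = tP * a

theorem four_conj {g a x : P276} (hg : g ∈ cBar a) (hx : Four a x) : Four a (g * x * g⁻¹) := by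
  have ht : g * tP * g⁻¹ = tP := by rw [t_central hg.1, mul_inv_cancel_right]
  rcases hx with rfl | rfl | rfl | rfl
  · exact Or.inl (by group)
  · exact Or.inr (Or.inl ht)
  · exact (conj_self hg).elim (fun e => Or.inr (Or.inr (Or.inl e))) fun e => Or.inr (Or.inr (Or.inr e))
  · have e : g * (tP * a) * g⁻¹ = tP * (g * a * g⁻¹) := by
      rw [← mul_assoc g tP, t_central hg.1]; simp only [mul_assoc]
    rcases conj_self hg with h | h <;> rw [e, h]
    · exact Or.inr (Or.inr (Or.inr rfl))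
    · exact Or.inr (Or.inr (Or.inl (by rw [← mul_assoc, t_sq, one_mul])))

/-- What is known about the inverse image of a tightly embedded neighbour. -/
structure Pre (Y : Subgroup P276) (a : P276) : Prop where
  le : Y ≤ Cm
  tmem : tP ∈ Y
  amem : a ∈ Y
  comm : ∀ y ∈ Y, Comm2 y a
  inv : ∀ y ∈ Y, y * y = 1 ∨ y * y = tP → y ≠ 1 → y ≠ tP → ∀ c ∈ Cm, c * y = y * c → ∀ x ∈ Y, c * x * c⁻¹ ∈ Y

theorem Pre.four {Y : Subgroup P276} {a x : P276} (H : Pre Y a) (h : Four a x) : x ∈ Y := by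
  rcases h with rfl | rfl | rfl | rfl
  exacts [one_mem _, H.tmem, H.amem, mul_mem H.tmem H.amem]

theorem Pre.cbar {Y : Subgroup P276} {a : P276} (H : Pre Y a) : Y ≤ cBar a := fun y hy => ⟨H.le hy, H.comm y hy⟩

theorem Pre.conj {Y : Subgroup P276} {a : P276} (H : Pre Y a) {c : P276} (hc : c ∈ cBar a) :
    Pre (Y.map (MulAut.conj c).toMonoidHom) a := by
  refine ⟨?_, ⟨tP, H.tmem, ?_⟩, ⟨c⁻¹ * a * c, H.four ?_, ?_⟩, ?_, ?_⟩
  · rintro _ ⟨y, hy, rfl⟩
    exact mul_mem (mul_mem hc.1 (H.le hy)) (inv_mem hc.1)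
  · show c * tP * c⁻¹ = tP
    rw [t_central hc.1, mul_inv_cancel_right]
  · simpa using four_conj (inv_mem hc) (Or.inr (Or.inr (Or.inl rfl)) : Four a a)
  · show c * (c⁻¹ * a * c) * c⁻¹ = a
    group
  · rintro _ ⟨y, hy, rfl⟩
    exact (mul_mem (mul_mem hc (H.cbar hy)) (inv_mem hc)).2
  · rintro _ ⟨y, hy, rfl⟩ h2 h1 ht d hd hdy _ ⟨x, hx, rfl⟩
    change c * y * c⁻¹ * (c * y * c⁻¹) = 1 ∨ c * y * c⁻¹ * (c * y * c⁻¹) = tP at h2
    change c * y * c⁻¹ ≠ 1 at h1
    change c * y * c⁻¹ ≠ tP at ht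
    change d * (c * y * c⁻¹) = c * y * c⁻¹ * d at hdy
    refine ⟨c⁻¹ * d * c * x * (c⁻¹ * d * c)⁻¹, H.inv y hy ?_ (fun e => h1 ?_) (fun e => ht ?_) _
      (mul_mem (mul_mem (inv_mem hc.1) hd) hc.1) ?_ x hx, ?_⟩
    · refine h2.imp (fun e => ?_) fun e => ?_
      · calc y * y = c⁻¹ * (c * y * c⁻¹ * (c * y * c⁻¹)) * c := by group
          _ = 1 := by rw [e]; group
      · calc y * y = c⁻¹ * (c * y * c⁻¹ * (c * y * c⁻¹)) * c := by group
          _ = tP := by rw [e, mul_assoc, ← t_central hc.1, inv_mul_cancel_left]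
    · rw [e]; group
    · rw [e, t_central hc.1, mul_inv_cancel_right]
    · calc c⁻¹ * d * c * y = c⁻¹ * (d * (c * y * c⁻¹)) * c := by group
        _ = y * (c⁻¹ * d * c) := by rw [hdy]; group
    · show c * (c⁻¹ * d * c * x * (c⁻¹ * d * c)⁻¹) * c⁻¹ = d * (c * x * c⁻¹) * d⁻¹
      group

theorem mem_conj_map {Y : Subgroup P276} {c x : P276} (hx : x ∈ Y) :
    c * x * c⁻¹ ∈ Y.map (MulAut.conj c).toMonoidHom := ⟨x, hx, rfl⟩

/-- A representative. -/
noncomputable def rA (k : ℕ) : P276 := sSub.el (stdNum k)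

theorem named : sSub.el stdT = tP ∧ stdT < 1024 ∧ rA 0 = vP ∧ rA 3 = uP ∧
    ∀ k < 4, stdNum k < 1024 ∧ rA k ∈ Cm ∧ (rA k * rA k = 1 ∨ rA k * rA k = tP) := by
  have h := std_named
  simp only [Bool.and_eq_true, List.all_eq_true, List.mem_range, Nat.blt, Nat.ble_eq, Nat.beq_eq] at h
  obtain ⟨⟨⟨⟨h1, h2⟩, h3⟩, h4⟩, h5⟩ := h
  have hs : ∀ {x}, x < 1024 → x < sSub.size := fun hx => sSub_gens.2.2.symm ▸ hx
  have e1 : sSub.el stdT = tP := eq_of_code (sSub_valid.el_mem (hs h2)).1 t_spec.2.2.2.1 (by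
    rw [sSub_valid.code_el (hs h2), h1, ← good_t.2, codeOf_wP good_t.1.1])
  refine ⟨e1, h2, ?_, ?_, fun k hk => ?_⟩
  · exact eq_of_code (sSub_valid.el_mem (hs (h5 0 (by norm_num)).1)).1 (repTab_spec (k := 1) (by norm_num)).2.1
      (by rw [rA, sSub_valid.code_el (hs (h5 0 (by norm_num)).1), h3]
          exact (codeOf_rep (repTab_spec (k := 1) (by norm_num)).1).symm)
  · exact eq_of_code (sSub_valid.el_mem (hs (h5 3 (by norm_num)).1)).1 (repTab_spec (k := 2) (by norm_num)).2.1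
      (by rw [rA, sSub_valid.code_el (hs (h5 3 (by norm_num)).1), h4]
          exact (codeOf_rep (repTab_spec (k := 2) (by norm_num)).1).symm)
  · obtain ⟨hlt, hsq⟩ := h5 k hk
    refine ⟨hlt, (sSub_valid.el_mem (hs hlt)).1, ?_⟩
    rw [rA, ← (sSub_valid.el_mul (hs hlt) (hs hlt)).2, hsq]
    interval_cases k
    · exact Or.inl sSub_valid.el_root
    · exact Or.inr e1
    · exact Or.inr e1
    · exact Or.inl sSub_valid.el_root

theorem rA_lt {k : ℕ} (hk : k < 4) : stdNum k < 1024 := (named.2.2.2.2 k hk).1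

theorem rA_mem {k : ℕ} (hk : k < 4) : rA k ∈ Cm := (named.2.2.2.2 k hk).2.1

theorem el_facts {x y : ℕ} (hx : x < 1024) (hy : y < 1024) :
    sSub.mul x y < 1024 ∧ sSub.el (sSub.mul x y) = sSub.el x * sSub.el y := by
  have := sSub_valid.el_mul (sSub_gens.2.2.symm ▸ hx) (sSub_gens.2.2.symm ▸ hy)
  rwa [sSub_gens.2.2] at this

theorem el_inv {x : ℕ} (hx : x < 1024) : sSub.iv x < 1024 ∧ sSub.el (sSub.iv x) = (sSub.el x)⁻¹ := by
  have := sSub_valid.el_iv (x := x) (sSub_gens.2.2.symm ▸ hx)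
  rwa [sSub_gens.2.2] at this

theorem el_inj {x y : ℕ} (hx : x < 1024) (hy : y < 1024) (e : sSub.el x = sSub.el y) : x = y :=
  sSub_valid.inj (sSub_gens.2.2.symm ▸ hx) (sSub_gens.2.2.symm ▸ hy) e

theorem el_surj {g : P276} (hg : g ∈ sSub.grp) : ∃ x < 1024, sSub.el x = g := by
  obtain ⟨x, hx, e⟩ := sSub_valid.surj hg
  exact ⟨x, sSub_gens.2.2 ▸ hx, e⟩

theorem el_root' : sSub.root < 1024 ∧ sSub.el sSub.root = 1 :=
  ⟨sSub_gens.2.2 ▸ sSub_valid.root_lt, sSub_valid.el_root⟩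

theorem core_spec {k : ℕ} (hk : k < 4) {m : ℕ} (hm : m ∈ coreK k) : m < 1024 ∧ Four (rA k) (sSub.el m) := by
  simp only [coreK, List.mem_cons, List.not_mem_nil, or_false] at hm
  rcases hm with rfl | rfl | rfl | rfl
  · exact ⟨el_root'.1, Or.inl el_root'.2⟩
  · exact ⟨named.2.1, Or.inr (Or.inl named.1)⟩
  · exact ⟨rA_lt hk, Or.inr (Or.inr (Or.inl rfl))⟩
  · exact ⟨(el_facts named.2.1 (rA_lt hk)).1, Or.inr (Or.inr (Or.inr (by
      rw [(el_facts named.2.1 (rA_lt hk)).2, named.1]; rfl)))⟩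

theorem any_beq {l : List ℕ} {x : ℕ} : l.any (fun a => Nat.beq a x) = true ↔ x ∈ l := by
  simp [List.any_eq_true]

theorem cBar_el {k x : ℕ} (hk : k < 4) (hx : x < 1024) :
    comW (sTabs x) (sTabs (stdNum k)) = true ↔ sSub.el x ∈ cBar (rA k) := by
  rw [comW_iff (good_sTabs hx).1 (good_sTabs (rA_lt hk)).1, (good_sTabs hx).2, (good_sTabs (rA_lt hk)).2]
  exact ⟨fun h => ⟨(sSub_valid.el_mem (sSub_gens.2.2.symm ▸ hx)).1, h⟩, fun h => h.2⟩

theorem derivB_spec {k r x : ℕ} (hk : k < 4) (h : derivB k r x = true) :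
    r < 1024 ∧ ∃ g m, g ∈ cBar (rA k) ∧ Four (rA k) m ∧ sSub.el x = g * sSub.el r * g⁻¹ * m := by
  simp only [derivB, Bool.and_eq_true, Nat.blt, Nat.ble_eq, List.any_eq_true, Nat.beq_eq] at h
  generalize hg : Nat.mod (Nat.div (stdPar.get 32 (Nat.add (Nat.mul k 1024) x)) 1024) 1024 = g at h
  obtain ⟨⟨⟨hr, hcom⟩, m, hm, hmp⟩, hx⟩ := h
  have hg' : g < 1024 := hg ▸ Nat.mod_lt _ (by norm_num)
  obtain ⟨hm', h4⟩ := core_spec hk hm
  refine ⟨hr, sSub.el g, sSub.el m, (cBar_el hk hg').1 hcom, h4, ?_⟩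
  rw [← hmp] at hx
  rw [hx, (el_facts (el_facts (el_facts hg' hr).1 (el_inv hg').1).1 hm').2,
    (el_facts (el_facts hg' hr).1 (el_inv hg').1).2, (el_facts hg' hr).2, (el_inv hg').2]

theorem opsB_sound {Y : Subgroup P276} {a : P276} (H : Pre Y a) {A : List ℕ} (hA : GoodW A) (ha : wP A = a) :
    ∀ (os : List (ℕ × ℕ × ℕ × ℕ)) (E : List (List ℕ)), (∀ l ∈ E, GoodW l ∧ wP l ∈ Y) → E ≠ [] →
      opsB A os E = true → False
  | [], E, hE, hne, h => by
    have hm : E.getLastD [] ∈ E := by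
      rw [List.getLastD_eq_getLast?, List.getLast?_eq_getLast_of_ne_nil hne]
      exact List.getLast_mem hne
    obtain ⟨hg, hy⟩ := hE _ hm
    simp only [opsB, Bool.not_eq_true'] at h
    have := (comW_iff hg hA).2 (ha ▸ H.comm _ hy)
    rw [this] at h
    exact Bool.noConfusion h
  | (i, j, u, v) :: os, E, hE, hne, h => by
    simp only [opsB, Bool.and_eq_true, Nat.blt, Nat.ble_eq] at h
    obtain ⟨⟨hi, hj⟩, h⟩ := h
    have get : ∀ n, n < E.length → GoodW (E.getD n []) ∧ wP (E.getD n []) ∈ Y := fun n hn => by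
      rw [List.getD_eq_getElem _ _ hn]; exact hE _ (List.getElem_mem hn)
    obtain ⟨gy, hy⟩ := get _ hi
    obtain ⟨gx, hx⟩ := get _ hj
    have step : ∀ l, GoodW l ∧ wP l ∈ Y → opsB A os (E ++ [l]) = true → False := fun l hl h' =>
      opsB_sound H hA ha os _ (fun m hm => (List.mem_append.1 hm).elim (hE m) fun e =>
        (List.mem_singleton.1 e).symm ▸ hl) (by simp) h'
    cases hc : Nat.beq (Nat.mod i 2) 0
    · rw [hc, cond_false] at h
      simp only [Bool.and_eq_true, Bool.or_eq_true, Bool.not_eq_true'] at h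
      obtain ⟨⟨⟨⟨⟨hp, hsq⟩, hn1⟩, hnt⟩, hcy⟩, h⟩ := h
      obtain ⟨gu, gv, einv⟩ := pairB_spec hp
      refine step _ ⟨gu.append (gx.append gv), ?_⟩ h
      rw [wP_append, wP_append, einv, ← mul_assoc]
      refine H.inv _ hy ?_ (fun e => ?_) (fun e => ?_) _ gu.2 ?_ _ hx
      · refine hsq.imp (fun e => ?_) fun e => ?_
        · have := (eqW_iff (gy.append gy) goodW_nil).1 e
          rw [wP_append] at this
          simpa [wP] using this
        · have := (eqW_iff (gy.append gy) good_t.1).1 e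
          rwa [wP_append, good_t.2] at this
      · rw [(eqW_iff gy goodW_nil).2 (by rw [e]; simp [wP])] at hn1
        exact Bool.noConfusion hn1
      · rw [(eqW_iff gy good_t.1).2 (by rw [e, good_t.2])] at hnt
        exact Bool.noConfusion hnt
      · have := (eqW_iff (gu.append gy) (gy.append gu)).1 hcy
        rwa [wP_append, wP_append] at this
    · rw [hc, cond_true] at h
      exact step _ ⟨gy.append gx, by rw [wP_append]; exact mul_mem hy hx⟩ h

/-- A numbered element of the subgroup is allowed. -/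
theorem Pre.allowed {Y : Subgroup P276} {k x : ℕ} (hk : k < 4) (H : Pre Y (rA k)) (hx : x < 1024)
    (hy : sSub.el x ∈ Y) : x ∈ allowK k := by
  have h := List.all_eq_true.1 (List.all_eq_true.1 std_cover k (List.mem_range.2 hk)) x (List.mem_range.2 hx)
  simp only [coverB, Bool.or_eq_true, Bool.not_eq_true', Bool.and_eq_true, Nat.blt, Nat.ble_eq] at h
  rcases h with (h | h) | ⟨hq, h⟩
  · exact any_beq.1 h
  · rw [(cBar_el hk hx).2 (H.cbar hy)] at h
    exact Bool.noConfusion h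
  generalize Nat.div (stdPar.get 32 (Nat.add (Nat.mul k 1024) x)) 1048576 = q at hq h
  obtain ⟨hr, g, m, hg, hm, e⟩ := derivB_spec hk h
  exfalso
  rw [List.getD_eq_getElem _ _ hq] at e hr
  have hc := List.all_eq_true.1 (List.all_eq_true.1 std_certs k (List.mem_range.2 hk)) _ (List.getElem_mem hq)
  simp only [Bool.and_eq_true, Nat.blt, Nat.ble_eq] at hc
  have H' := H.conj (inv_mem hg)
  have hA := good_sTabs (rA_lt hk)
  refine opsB_sound H' hA.1 (a := rA k) hA.2 _ _ (fun l hl => ?_) (List.cons_ne_nil _ _) hc.2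
  simp only [List.mem_cons, List.not_mem_nil, or_false] at hl
  rcases hl with rfl | rfl
  · exact ⟨hA.1, hA.2 ▸ H'.amem⟩
  · refine ⟨(good_sTabs hr).1, ?_⟩
    rw [(good_sTabs hr).2]
    refine ⟨sSub.el x * m⁻¹, mul_mem hy (inv_mem (H.four hm)), ?_⟩
    show g⁻¹ * (sSub.el x * m⁻¹) * g⁻¹⁻¹ = _
    rw [e]; group

/-- The order of a subgroup described by a test on numbers. -/
theorem card_of_filter {D : Num} (V : D.Valid) (H : Subgroup P276) (hle : H ≤ D.grp) (p : ℕ → Bool)
    (hp : ∀ x < D.size, p x = true ↔ D.el x ∈ H) : Nat.card H = ((List.range D.size).filter p).length := by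
  classical
  let F := ((List.range D.size).filter p).toFinset
  have hF : ∀ {x}, x ∈ F → x < D.size ∧ p x = true := fun hx => by simpa [F] using hx
  have e : (H : Set P276) = ↑(F.image D.el) := by
    ext g
    simp only [SetLike.mem_coe, Finset.coe_image, Set.mem_image]
    refine ⟨fun hg => ?_, ?_⟩
    · obtain ⟨x, hx, rfl⟩ := V.surj (hle hg)
      exact ⟨x, by simp [F, hx, (hp x hx).2 hg], rfl⟩
    · rintro ⟨x, hx, rfl⟩
      exact (hp x (hF hx).1).1 (hF hx).2
  rw [← List.toFinset_card_of_nodup ((List.nodup_range).filter p),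
    ← Finset.card_image_of_injOn (f := D.el) (s := F) fun a ha b hb h => V.inj (hF ha).1 (hF hb).1 h,
    ← Set.ncard_coe_finset, ← e]
  rfl

theorem card_part {k : ℕ} (hk : k < 4) : Nat.card ↥(sSub.grp ⊓ cBar (rA k)) = [1024, 1024, 1024, 256].getD k 0 := by
  rw [card_of_filter sSub_valid _ inf_le_left (fun x => comW (sTabs x) (sTabs (stdNum k))) fun x hx => by
    rw [cBar_el hk (sSub_gens.2.2 ▸ hx)]
    exact ⟨fun h => ⟨(sSub_valid.el_mem hx).2, h⟩, fun h => h.2⟩, sSub_gens.2.2]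
  have h := List.all_eq_true.1 std_size k (List.mem_range.2 hk)
  rw [Nat.beq_eq] at h
  exact h

theorem u_bar_le : Nat.card (cBar uP) ≤ 768 := by
  classical
  have hC : Nat.card ↥(Cm ⊓ Subgroup.centralizer {uP}) = 384 := by
    rw [cU_eq]; exact uSub_valid.card.trans uSub_gens.2.2.1
  by_cases hs : ∃ s ∈ cBar uP, s * uP ≠ uP * s
  · obtain ⟨s, hs, hsu⟩ := hs
    have mem1 : ∀ g : cBar uP, (g : P276) * uP = uP * g → (g : P276) ∈ Cm ⊓ Subgroup.centralizer {uP} :=
      fun g hg => ⟨g.2.1, Subgroup.mem_centralizer_singleton_iff.2 hg⟩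
    have mem2 : ∀ g : cBar uP, (g : P276) * uP ≠ uP * g → s⁻¹ * g ∈ Cm ⊓ Subgroup.centralizer {uP} := by
      intro g hg
      refine ⟨(Cm).mul_mem ((Cm).inv_mem hs.1) g.2.1, Subgroup.mem_centralizer_singleton_iff.2 ?_⟩
      have eg := g.2.2.resolve_left hg
      have es := hs.2.resolve_left hsu
      calc s⁻¹ * (g : P276) * uP = s⁻¹ * (tP * (uP * g)) := by rw [mul_assoc, eg]
        _ = s⁻¹ * (tP * (uP * s)) * (s⁻¹ * g) := by group
        _ = uP * (s⁻¹ * g) := by rw [← es, inv_mul_cancel_left]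
    let f : cBar uP → ↥(Cm ⊓ Subgroup.centralizer {uP}) ⊕ ↥(Cm ⊓ Subgroup.centralizer {uP}) := fun g =>
      if hg : (g : P276) * uP = uP * g then Sum.inl ⟨g, mem1 g hg⟩ else Sum.inr ⟨s⁻¹ * g, mem2 g hg⟩
    have hf : Function.Injective f := by
      intro g h e
      simp only [f] at e
      split_ifs at e
      · exact Subtype.ext (Subtype.mk.inj (Sum.inl.inj e))
      · exact Subtype.ext (mul_left_cancel (Subtype.mk.inj (Sum.inr.inj e)))
    have := Nat.card_le_card_of_injective f hf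
    rw [Nat.card_sum, hC] at this
    omega
  · push Not at hs
    have : cBar uP ≤ Cm ⊓ Subgroup.centralizer {uP} := fun g hg =>
      ⟨hg.1, Subgroup.mem_centralizer_singleton_iff.2 (hs g hg)⟩
    have := Nat.le_of_dvd Nat.card_pos (Subgroup.card_dvd_of_le this)
    omega

theorem not_dvd_bar {k : ℕ} (hk : k < 4) : ¬ 2 * [1024, 1024, 1024, 256].getD k 0 ∣ Nat.card (cBar (rA k)) := by
  intro h
  have hd : Nat.card (cBar (rA k)) ∣ 2903040 := card_Cm ▸ Subgroup.card_dvd_of_le fun g hg => hg.1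
  interval_cases k
  · exact absurd (h.trans hd) (by norm_num)
  · exact absurd (h.trans hd) (by norm_num)
  · exact absurd (h.trans hd) (by norm_num)
  · rw [named.2.2.2.1] at h hd
    have h3 : 384 ∣ Nat.card (cBar uP) := by
      have := Subgroup.card_dvd_of_le (show Cm ⊓ Subgroup.centralizer {uP} ≤ cBar uP from fun g hg =>
        ⟨hg.1, Or.inl (Subgroup.mem_centralizer_singleton_iff.1 hg.2)⟩)
      rwa [show Nat.card ↥(Cm ⊓ Subgroup.centralizer {uP}) = 384 by
        rw [cU_eq]; exact uSub_valid.card.trans uSub_gens.2.2.1] at this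
    have h4 := Nat.lcm_dvd h h3
    norm_num at h4
    have := Nat.le_of_dvd Nat.card_pos h4
    have := u_bar_le
    omega

/-- A two-subgroup goes into the numbered Sylow subgroup, fixing the representative. -/
theorem exists_into {k : ℕ} (hk : k < 4) {S : Subgroup P276} (hS : S ≤ cBar (rA k)) (h2 : IsPGroup 2 S) :
    ∃ c ∈ cBar (rA k), ∀ s ∈ S, c * s * c⁻¹ ∈ sSub.grp := by
  haveI : Fact (Nat.Prime 2) := ⟨Nat.prime_two⟩
  set Q := (sSub.grp ⊓ cBar (rA k)).subgroupOf (cBar (rA k)) with hQ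
  have hc : Nat.card Q = [1024, 1024, 1024, 256].getD k 0 :=
    (Nat.card_congr (Subgroup.subgroupOfEquivOfLe inf_le_right).toEquiv).trans (card_part hk)
  have hp : IsPGroup 2 Q := by
    interval_cases k
    exacts [IsPGroup.of_card (n := 10) hc, IsPGroup.of_card (n := 10) hc, IsPGroup.of_card (n := 10) hc,
      IsPGroup.of_card (n := 8) hc]
  have hidx : ¬ 2 ∣ Q.index := fun h => not_dvd_bar hk (by
    rw [← hc, ← Q.card_mul_index, mul_comm 2]; exact mul_dvd_mul_left _ h)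
  obtain ⟨R, hR⟩ := (h2.of_equiv (Subgroup.subgroupOfEquivOfLe hS).symm).exists_le_sylow
  obtain ⟨g, hg⟩ := MulAction.exists_smul_eq (cBar (rA k)) R (hp.toSylow hidx)
  refine ⟨g, g.2, fun s hs => ?_⟩
  have : g * ⟨s, hS hs⟩ * g⁻¹ ∈ (hp.toSylow hidx : Subgroup (cBar (rA k))) := by
    rw [← hg]; exact ⟨⟨s, hS hs⟩, hR (Subgroup.mem_subgroupOf.2 hs), rfl⟩
  exact (Subgroup.mem_subgroupOf.1 this).1

theorem Pre.into {Y : Subgroup P276} {k : ℕ} (hk : k < 4) (H : Pre Y (rA k)) {S : Subgroup P276} (hS : S ≤ Y)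
    (h2 : IsPGroup 2 S) : ∃ c ∈ cBar (rA k), ∀ s ∈ S, ∃ x ∈ allowK k, x < 1024 ∧ sSub.el x = c * s * c⁻¹ := by
  obtain ⟨c, hc, hin⟩ := exists_into hk (hS.trans H.cbar) h2
  refine ⟨c, hc, fun s hs => ?_⟩
  obtain ⟨x, hx, e⟩ := el_surj (hin s hs)
  exact ⟨x, (H.conj hc).allowed hk hx (e.symm ▸ mem_conj_map (hS hs)), hx, e⟩

theorem Pre.one_into {Y : Subgroup P276} {k : ℕ} (hk : k < 4) (H : Pre Y (rA k)) {s : P276} (hs : s ∈ Y)
    (h2 : IsPGroup 2 (Subgroup.zpowers s)) :
    ∃ c ∈ cBar (rA k), ∃ x ∈ allowK k, x < 1024 ∧ sSub.el x = c * s * c⁻¹ := by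
  obtain ⟨c, hc, h⟩ := H.into hk (Subgroup.zpowers_le.2 hs) h2
  exact ⟨c, hc, h s (Subgroup.mem_zpowers s)⟩

theorem back_four {a s c : P276} (hc : c ∈ cBar a) (h : Four a (c * s * c⁻¹)) : Four a s := by
  have := four_conj (inv_mem hc) h
  rwa [show c⁻¹ * (c * s * c⁻¹) * c⁻¹⁻¹ = s by group] at this

/-- Two classes allow nothing beyond the four central elements. -/
theorem Pre.small {Y : Subgroup P276} {k : ℕ} (hk : k = 1 ∨ k = 3) (H : Pre Y (rA k)) {s : P276} (hs : s ∈ Y)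
    (h2 : IsPGroup 2 (Subgroup.zpowers s)) : Four (rA k) s := by
  have hk4 : k < 4 := by omega
  obtain ⟨c, hc, x, hxa, -, e⟩ := H.one_into hk4 hs h2
  have hmem : x ∈ coreK k := by
    rcases hk with rfl | rfl
    · exact any_beq.1 (List.all_eq_true.1 std_small.2.1 x hxa)
    · exact any_beq.1 (List.all_eq_true.1 std_small.2.2.1 x hxa)
  exact back_four hc (e ▸ (core_spec hk4 hmem).2)

/-- One class allows only elements squaring into the centre. -/
theorem Pre.square {Y : Subgroup P276} (H : Pre Y (rA 2)) {s : P276} (hs : s ∈ Y)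
    (h2 : IsPGroup 2 (Subgroup.zpowers s)) : s * s = 1 ∨ s * s = tP := by
  obtain ⟨c, hc, x, hxa, hx, e⟩ := H.one_into (by norm_num) hs h2
  have h := List.all_eq_true.1 std_small.2.2.2.1 x hxa
  simp only [Bool.or_eq_true, Nat.beq_eq] at h
  have e2 : sSub.el (sSub.mul x x) = c * (s * s) * c⁻¹ := by rw [(el_facts hx hx).2, e]; group
  refine h.imp (fun h => ?_) fun h => ?_
  · rw [h, el_root'.2] at e2
    calc s * s = c⁻¹ * (c * (s * s) * c⁻¹) * c := by group
      _ = 1 := by rw [← e2]; group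
  · rw [h, named.1] at e2
    calc s * s = c⁻¹ * (c * (s * s) * c⁻¹) * c := by group
      _ = tP := by rw [← e2, mul_assoc, ← t_central hc.1, inv_mul_cancel_left]

/-- In the second class a two-subgroup has order at most sixteen. -/
theorem Pre.card_le {Y : Subgroup P276} (H : Pre Y vP) {S : Subgroup P276} (hS : S ≤ Y) (h2 : IsPGroup 2 S) :
    Nat.card S ≤ 16 := by
  classical
  rw [← named.2.2.1] at H
  obtain ⟨c, hc, h⟩ := H.into (by norm_num) hS h2
  choose f hf hflt hfe using h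
  have key : ∃ L : List ℕ, L.length = 16 ∧ ∀ s (hs : s ∈ S), f s hs ∈ L := by
    by_cases hA : ∀ s (hs : s ∈ S), f s hs ∈ stdTwo.1
    · exact ⟨_, std_small.2.2.2.2.1, hA⟩
    · push Not at hA
      obtain ⟨a, ha, haA⟩ := hA
      refine ⟨stdTwo.2, std_small.2.2.2.2.2, fun s hs => ?_⟩
      have h := List.all_eq_true.1 std_two _ (hf a ha)
      simp only [Bool.and_eq_true, Bool.or_eq_true, any_beq, List.all_eq_true, Bool.not_eq_true'] at h
      refine ((h.2.resolve_left haA) _ (hf s hs)).resolve_right fun hn => ?_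
      have e : f (s * a) (mul_mem hs ha) = sSub.mul (f s hs) (f a ha) :=
        el_inj (hflt _ _) (el_facts (hflt _ _) (hflt _ _)).1 (by
          rw [(el_facts (hflt _ _) (hflt _ _)).2, hfe, hfe, hfe]; group)
      rw [any_beq.2 (e ▸ hf (s * a) (mul_mem hs ha))] at hn
      exact Bool.noConfusion hn
  obtain ⟨L, hL, hLm⟩ := key
  refine (Nat.card_le_card_of_injective (fun s : S => (⟨f s.1 s.2, List.mem_toFinset.2 (hLm _ _)⟩ : L.toFinset))
    fun s r e => Subtype.ext ?_).trans ((Nat.card_eq_finsetCard _).trans_le (hL ▸ List.toFinset_card_le L))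
  have h1 := congrArg sSub.el (congrArg Subtype.val e)
  simp only at h1
  rw [hfe, hfe] at h1
  exact mul_left_cancel (mul_right_cancel h1)

theorem swFix_iff {w : ℕ × ℕ × ℕ × ℕ} (hw : swB w = true) {d : ℕ} (hd : d < 4608) :
    swFix w d = true ↔ dSub.el d * sSub.el w.1 = sSub.el w.1 * dSub.el d ∧
      dSub.el d * wP (swX w) = wP (swX w) * dSub.el d := by
  simp only [swB, Bool.and_eq_true, Nat.blt, Nat.ble_eq] at hw
  obtain ⟨⟨⟨⟨⟨hr, hp⟩, -⟩, -⟩, -⟩, -⟩ := hw
  obtain ⟨gu, gv, -⟩ := pairB_spec hp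
  obtain ⟨gd, ed⟩ := good_dTabs hd
  obtain ⟨gr, er⟩ := good_sTabs hr
  have gX : GoodW (swX w) := gu.append (gr.append gv)
  rw [swFix, Bool.and_eq_true, eqW_iff (gd.append gr) (gr.append gd), eqW_iff (gd.append gX) (gX.append gd)]
  simp only [wP_append, ed, er]

theorem comm2_of_mul {x m r : P276} (hx : x ∈ Cm) (h : Comm2 x (r * m)) (hm : Comm2 x m) (hr : r ∈ Cm)
    (hmC : m ∈ Cm) : Comm2 x r := by
  have h1 : r * m ∈ cBar x := ⟨mul_mem hr hmC, h.symm⟩
  have h2 : m ∈ cBar x := ⟨hmC, hm.symm⟩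
  have := mul_mem h1 (inv_mem h2)
  rw [mul_inv_cancel_right] at this
  exact (And.right this).symm

theorem v_facts : vP ∈ Cm ∧ vP * vP = 1 ∧ vP ≠ 1 ∧ vP ≠ tP := by
  have h1 : vP ∈ Cm ∧ vP * vP = 1 :=
    ⟨(repTab_spec (k := 1) (by norm_num)).2.1, (repTab_spec (k := 1) (by norm_num)).2.2⟩
  refine ⟨h1.1, h1.2, fun e => ?_, fun e => rep_facts.2.2.1 e.symm⟩
  have h := Subgroup.card_dvd_of_le (show Cm ≤ cV from fun g hg =>
    ⟨hg, Subgroup.mem_centralizer_singleton_iff.2 (by rw [e, mul_one, one_mul])⟩)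
  rw [coset_bij.1, card_Cm, dSub_valid.card, dSub_gens.2.2.1] at h
  exact absurd h (by norm_num)

set_option maxHeartbeats 1000000 in
/-- In the second class an element outside the four central ones has a partner with small common centralizer. -/
theorem Pre.witness {Y : Subgroup P276} (H : Pre Y vP) {s : P276} (hs : s ∈ Y)
    (h2 : IsPGroup 2 (Subgroup.zpowers s)) (hn : ¬ Four vP s) :
    ∃ s' ∈ Y, ¬ Comm2 s' s ∧ ∀ N : Subgroup P276, N ≤ cV → (∀ n ∈ N, n * s = s * n ∧ n * s' = s' * n) →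
      ¬ 128 ∣ Nat.card N := by
  have hv := named.2.2.1
  obtain ⟨c, hc, x, hxa, hx, e⟩ := (hv.symm ▸ H : Pre Y (rA 0)).one_into (by norm_num) hs h2
  rw [hv] at hc
  have hsw := std_wit
  simp only [Bool.and_eq_true, List.all_eq_true] at hsw
  have h := hsw.2 x hxa
  simp only [twoB, Bool.or_eq_true, Bool.and_eq_true, any_beq, Nat.blt, Nat.ble_eq] at h
  rcases h with h | ⟨hq, h⟩
  · refine absurd (back_four hc ?_) hn
    rw [← e, ← hv]; exact (core_spec (by norm_num) h).2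
  rw [List.getD_eq_getElem _ _ hq] at h
  have hw := hsw.1 _ (List.getElem_mem hq)
  generalize stdWit[Nat.div (stdPar.get 32 x) 1048576]'hq = w at h hw
  obtain ⟨hr, g, m, hg, hm, ex⟩ := derivB_spec (by norm_num) h
  rw [hv] at hg hm
  have hw' := hw
  simp only [swB, Bool.and_eq_true, Bool.not_eq_true', Nat.beq_eq] at hw'
  obtain ⟨⟨⟨⟨⟨-, hp⟩, hcv⟩, hnc⟩, hlen⟩, hmod⟩ := hw'
  obtain ⟨gu, gv, einv⟩ := pairB_spec hp
  obtain ⟨gr, er⟩ := good_sTabs hr
  have gV : GoodW [vTab] :=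
    ⟨fun T hT => by rw [List.mem_singleton.1 hT]; exact (repTab_spec (k := 1) (by norm_num)).1,
      by rw [wP_single]; exact v_facts.1⟩
  have eV : wP [vTab] = vP := wP_single _
  set d := g⁻¹ * c with hd
  have hdC : d ∈ cBar vP := mul_mem (inv_mem hg) hc
  have H' := H.conj hdC
  set m' := g⁻¹ * m * g with hm'
  have hm4 : Four vP m' := by simpa [hm'] using four_conj (inv_mem hg) hm
  have hds : d * s * d⁻¹ = sSub.el w.1 * m' := by
    calc d * s * d⁻¹ = g⁻¹ * (c * s * c⁻¹) * g := by rw [hd]; group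
      _ = _ := by rw [← e, ex, hm']; group
  set r := sSub.el w.1 with hr'
  have hrY : r ∈ Y.map (MulAut.conj d).toMonoidHom := by
    have := mul_mem (mem_conj_map (c := d) hs) (inv_mem (H'.four hm4))
    rwa [hds, mul_inv_cancel_right] at this
  have hX : wP (swX w) = wP (swC w) * r * (wP (swC w))⁻¹ := by
    rw [swX, wP_append, wP_append, er, ← mul_assoc]; exact congrArg _ einv
  have hcv' : wP (swC w) * vP = vP * wP (swC w) := by
    have := (eqW_iff (gu.append gV) (gV.append gu)).1 hcv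
    rwa [wP_append, wP_append, eV] at this
  have hXY : wP (swX w) ∈ Y.map (MulAut.conj d).toMonoidHom := by
    rw [hX]
    exact H'.inv vP H'.amem (Or.inl v_facts.2.1) v_facts.2.2.1 v_facts.2.2.2 _ gu.2 hcv' r hrY
  obtain ⟨s', hs', es'⟩ := hXY
  change d * s' * d⁻¹ = wP (swX w) at es'
  refine ⟨s', hs', fun hc2 => ?_, fun N hN hcomm => ?_⟩
  · have h1 : Comm2 (wP (swX w)) (r * m') := by
      rw [← es', ← hds]
      rcases hc2 with h | h
      · left
        calc d * s' * d⁻¹ * (d * s * d⁻¹) = d * (s' * s) * d⁻¹ := by group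
          _ = _ := by rw [h]; group
      · right
        calc d * s' * d⁻¹ * (d * s * d⁻¹) = d * (s' * s) * d⁻¹ := by group
          _ = d * tP * (s * s') * d⁻¹ := by rw [h]; group
          _ = _ := by rw [t_central hdC.1]; group
    have hXm : Comm2 (wP (swX w)) m' := by
      have hmem : wP (swX w) ∈ Y.map (MulAut.conj d).toMonoidHom := ⟨s', hs', es'⟩
      have hb := H'.cbar hmem
      have hXC := H'.le hmem
      rcases hm4 with e | e | e | e <;> rw [e]
      · exact Or.inl (by rw [mul_one, one_mul])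
      · exact Or.inl (t_central hXC)
      · exact hb.2
      · have h3 : tP * vP ∈ cBar (wP (swX w)) := mul_mem ⟨t_spec.2.2.2.1, Or.inl (t_central hXC).symm⟩
          ⟨v_facts.1, hb.2.symm⟩
        exact h3.2.symm
    have gX : GoodW (swX w) := gu.append (gr.append gv)
    have := comm2_of_mul gX.2 h1 hXm (H'.le hrY) (H'.le (H'.four hm4))
    rw [(comW_iff gX gr).2 (by rw [er]; exact this)] at hnc
    exact Bool.noConfusion hnc
  · set Hf : Subgroup P276 := cV ⊓ Subgroup.centralizer {r} ⊓ Subgroup.centralizer {wP (swX w)} with hHf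
    have hcard : Nat.card Hf = w.2.2.2 := by
      rw [card_of_filter dSub_valid _ (inf_le_left.trans (inf_le_left.trans coset_bij.1.le)) (swFix w) fun n hn => by
        rw [swFix_iff hw (dSub_gens.2.2.1 ▸ hn), Subgroup.mem_inf, Subgroup.mem_inf,
          Subgroup.mem_centralizer_singleton_iff, Subgroup.mem_centralizer_singleton_iff, ← hr']
        have hv' : dSub.el n ∈ cV := coset_bij.1.symm ▸ (dSub_valid.el_mem hn).2
        exact ⟨fun h => ⟨⟨hv', h.1⟩, h.2⟩, fun h => ⟨h.1.2, h.2⟩⟩, dSub_gens.2.2.1]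
      exact hlen
    have hle : N.map (MulAut.conj d).toMonoidHom ≤ Hf := by
      rintro _ ⟨n, hn, rfl⟩
      obtain ⟨e1, e2⟩ := hcomm n hn
      obtain ⟨hnC, hnv⟩ := hN hn
      replace hnv : n * vP = vP * n := Subgroup.mem_centralizer_singleton_iff.1 hnv
      show d * n * d⁻¹ ∈ Hf
      have hv1 : d * n * d⁻¹ * vP = vP * (d * n * d⁻¹) := by
        rcases conj_self (inv_mem hdC) with h | h
        · calc d * n * d⁻¹ * vP = d * (n * (d⁻¹ * vP * d⁻¹⁻¹)) * d⁻¹ := by group
            _ = d * ((d⁻¹ * vP * d⁻¹⁻¹) * n) * d⁻¹ := by rw [h, hnv]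
            _ = _ := by group
        · calc d * n * d⁻¹ * vP = d * (n * (d⁻¹ * vP * d⁻¹⁻¹)) * d⁻¹ := by group
            _ = d * ((d⁻¹ * vP * d⁻¹⁻¹) * n) * d⁻¹ := by
              rw [h, ← mul_assoc n, t_central hnC, mul_assoc tP, hnv]; simp only [mul_assoc]
            _ = _ := by group
      have hs1 : d * n * d⁻¹ * (r * m') = r * m' * (d * n * d⁻¹) := by
        rw [← hds]
        calc d * n * d⁻¹ * (d * s * d⁻¹) = d * (n * s) * d⁻¹ := by group
          _ = _ := by rw [e1]; group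
      have hN1 : d * n * d⁻¹ ∈ Cm := mul_mem (mul_mem hdC.1 hnC) (inv_mem hdC.1)
      have hm1 : Commute (d * n * d⁻¹) m' := by
        rcases hm4 with e | e | e | e <;> rw [e]
        exacts [Commute.one_right _, t_central hN1, hv1, Commute.mul_right (t_central hN1) hv1]
      refine ⟨⟨⟨hN1, Subgroup.mem_centralizer_singleton_iff.2 hv1⟩, Subgroup.mem_centralizer_singleton_iff.2 ?_⟩,
        Subgroup.mem_centralizer_singleton_iff.2 ?_⟩
      · have := (Commute.mul_right hs1 hm1.inv_right).eq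
        rwa [mul_inv_cancel_right] at this
      · rw [← es']
        calc d * n * d⁻¹ * (d * s' * d⁻¹) = d * (n * s') * d⁻¹ := by group
          _ = _ := by rw [e2]; group
    intro h128
    have hd2 := Subgroup.card_dvd_of_le hle
    rw [hcard, Subgroup.card_map_of_injective (MulAut.conj d).injective] at hd2
    rw [show Nat.mod w.2.2.2 128 = 0 from Nat.mod_eq_zero_of_dvd (h128.trans hd2)] at hmod
    exact Bool.noConfusion hmod

/-- Every element squaring into the centre is conjugate to a representative. -/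
theorem class_rep {x : P276} (hx : x ∈ Cm) (h2 : x * x = 1 ∨ x * x = tP) (h1 : x ≠ 1) (ht : x ≠ tP) :
    ∃ k < 4, ∃ c ∈ Cm, c * x * c⁻¹ = rA k ∨ c * x * c⁻¹ = tP * rA k := by
  haveI : Fact (Nat.Prime 2) := ⟨Nat.prime_two⟩
  have h4 : x ^ (2 ^ 2) = 1 := by
    rw [show (2 : ℕ) ^ 2 = 2 + 2 by norm_num, pow_add, pow_two]
    rcases h2 with e | e <;> rw [e]
    · rw [one_mul]
    · exact t_sq
  obtain ⟨j, -, hj⟩ := (Nat.dvd_prime_pow Nat.prime_two).1 (orderOf_dvd_of_pow_eq_one h4)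
  obtain ⟨h, hh, n, hn, e⟩ := syl_conj hx (IsPGroup.of_card (n := j) (by rw [Nat.card_zpowers, hj]))
  have hk := List.all_eq_true.1 std_kind n (List.mem_range.2 hn)
  simp only [kindB, Bool.or_eq_true, Bool.and_eq_true, Bool.not_eq_true', Nat.beq_eq, Nat.blt, Nat.ble_eq] at hk
  have hsq : sSub.el (sSub.mul n n) = h * (x * x) * h⁻¹ := by rw [(el_facts hn hn).2, ← e]; group
  have htc : h * tP * h⁻¹ = tP := by rw [t_central hh, mul_inv_cancel_right]
  rcases hk with ((hk | hk) | ⟨hk1, hk2⟩) | ⟨⟨hk8, hp⟩, heq⟩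
  · rw [hk, el_root'.2] at e
    refine absurd ?_ h1
    calc x = h⁻¹ * (h * x * h⁻¹) * h := by group
      _ = 1 := by rw [e]; group
  · rw [hk, named.1] at e
    refine absurd ?_ ht
    calc x = h⁻¹ * (h * x * h⁻¹) * h := by group
      _ = tP := by rw [e, mul_assoc, ← t_central hh, inv_mul_cancel_left]
  · exfalso
    rcases h2 with h2 | h2
    · rw [el_inj (el_facts hn hn).1 el_root'.1 (by rw [hsq, h2, el_root'.2]; group), Nat.beq_refl] at hk1
      exact Bool.noConfusion hk1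
    · rw [el_inj (el_facts hn hn).1 named.2.1 (by rw [hsq, h2, named.1, htc]), Nat.beq_refl] at hk2
      exact Bool.noConfusion hk2
  generalize stdKind.get 4 n = k at hk8 heq
  have hk4 : k / 2 < 4 := by omega
  obtain ⟨gp, ep⟩ := good_pth hp
  obtain ⟨gn, en⟩ := good_sTabs hn
  obtain ⟨gr, er⟩ := good_sTabs (rA_lt hk4)
  refine ⟨k / 2, hk4, pP (pthOf (stdPath.get 32 n)) * h, mul_mem (ep ▸ gp.2) hh, ?_⟩
  set p := pP (pthOf (stdPath.get 32 n))
  have conv : p * h * x * (p * h)⁻¹ = p * sSub.el n * p⁻¹ := by rw [← e]; group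
  cases hb : Nat.beq (Nat.mod k 2) 0
  · rw [hb, cond_false] at heq
    have h' := (eqW_iff (gp.append gn) ((good_t.1.append gr).append gp)).1 heq
    simp only [wP_append, ep, en, er, good_t.2] at h'
    exact Or.inr (by rw [conv, h', mul_inv_cancel_right]; rfl)
  · rw [hb, cond_true] at heq
    have h' := (eqW_iff (gp.append gn) (gr.append gp)).1 heq
    simp only [wP_append, ep, en, er] at h'
    exact Or.inl (by rw [conv, h', mul_inv_cancel_right]; rfl)

end Cfsg.Lib.CoThreeType
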